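import Cfsg.Prelude.Def_DegreeGraph
import Cfsg.Agent.Lib.CharDegreesTheory.PrimeDegrees
import Cfsg.Agent.Lib.CharDegreesTheory.CoprimeDegrees
import Cfsg.Agent.Lib.RealChar.DegreeRatio
import Cfsg.Agent.Lib.SolvableStructure.MinimalNormal

/-!
# Groups with prime degrees have at most three degrees
-/

set_option autoImplicit false
set_option linter.style.haveILetI false
set_option linter.unusedSectionVars false

namespace CfsgLib.HallClasses.PrimeDegreesThree

open Cfsg CfsgLib.CharTheory CfsgLib.Clifford CfsgLib.CharDegreesTheory.SmallDegrees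
open CfsgLib.CharDegreesTheory.PrimeDegrees
open scoped commutatorElement

universe u

variable {G : Type u} [Group G] [Finite G]

theorem exists_nonlinear (h : ¬ ∀ a b : G, a * b = b * a) :
    ∃ χ : IrrCharacter G, charDegree (χ : G → ℂ) ≠ 1 := by
  by_contra hcon
  push Not at hcon
  exact h (comm_of_linear fun χ => by rw [charDegree_one, hcon χ, Nat.cast_one])

/-- A minimal non-abelian soluble group with prime degrees involves at most two primes. -/
theorem two_primes (hsol : Group.IsSolvable G) (hna : ¬ ∀ a b : G, a * b = b * a)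
    (hmin : ∀ L : Subgroup G, L.Normal → L ≠ ⊥ → commutator G ≤ L) (hd : PDeg G) :
    ∃ r f : ℕ, ∀ q : ℕ, q.Prime → q ∣ Nat.card G → q = r ∨ q = f := by
  classical
  haveI := hsol
  haveI := Fintype.ofFinite G
  set M := commutator G with hMdef
  haveI : M.Normal := by rw [hMdef]; infer_instance
  have hM : M ≠ ⊥ := fun h => hna fun a b => by
    have h1 : ⁅a, b⁆ ∈ M := Subgroup.commutator_mem_commutator (Subgroup.mem_top a) (Subgroup.mem_top b)
    rw [h, Subgroup.mem_bot] at h1
    exact commutatorElement_eq_one_iff_mul_comm.1 h1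
  obtain ⟨r, d, hr, -, hMcard, -, hMc⟩ := CfsgLib.SolvableStructure.minimal_normal_prime hM
    (fun K hK hKM => or_iff_not_imp_left.2 fun hK0 => le_antisymm hKM (hmin K hK hK0))
  haveI := Fact.mk hr
  haveI := Fintype.ofFinite M
  set C := Subgroup.centralizer (M : Set G) with hC
  have hMC : M ≤ C := fun m hm => Subgroup.mem_centralizer_iff.2 fun x hx =>
    congrArg Subtype.val (hMc.is_comm.comm ⟨x, hx⟩ ⟨m, hm⟩)
  haveI : C.Normal := by rw [hC]; infer_instance
  -- `C` is an `r`-group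
  have hCr : ∀ q : ℕ, q.Prime → q ∣ Nat.card C → q = r := by
    intro q hq hqC
    by_contra hqr
    haveI := Fact.mk hq
    haveI hCq : Group.IsNilpotent (C ⧸ M.subgroupOf C) := by
      letI : CommGroup (C ⧸ M.subgroupOf C) :=
        { (inferInstance : Group (C ⧸ M.subgroupOf C)) with
          mul_comm := fun a b => by
            obtain ⟨a, rfl⟩ := QuotientGroup.mk_surjective a
            obtain ⟨b, rfl⟩ := QuotientGroup.mk_surjective b
            rw [← QuotientGroup.mk_mul, ← QuotientGroup.mk_mul, QuotientGroup.eq,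
              Subgroup.mem_subgroupOf]
            have h1 : ⁅(b : G)⁻¹, (a : G)⁻¹⁆ ∈ M :=
              Subgroup.commutator_mem_commutator (Subgroup.mem_top _) (Subgroup.mem_top _)
            rw [commutatorElement_def] at h1
            push_cast
            simpa [mul_assoc] using h1 }
      infer_instance
    have hCn : Group.IsNilpotent C := by
      refine Subgroup.isNilpotent_of_ker_le_center (QuotientGroup.mk' (M.subgroupOf C)) fun x hx => ?_
      rw [QuotientGroup.ker_mk', Subgroup.mem_subgroupOf] at hx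
      exact Subgroup.mem_center_iff.2 fun g => Subtype.ext
        ((Subgroup.mem_centralizer_iff.1 g.2 _ hx).symm)
    obtain ⟨Q⟩ := (inferInstance : Nonempty (Sylow q C))
    have hQn : (Q : Subgroup C).Normal :=
      Sylow.normal_of_normalizerCondition Group.normalizerCondition_of_isNilpotent Q
    haveI := Q.characteristic_of_normal hQn
    have hL : ((Q : Subgroup C).map C.subtype).Normal := inferInstance
    have hne : (Q : Subgroup C).map C.subtype ≠ ⊥ := fun h => by
      rw [Subgroup.map_eq_bot_iff_of_injective _ C.subtype_injective] at h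
      exact Q.ne_bot_of_dvd_card hqC h
    have hdvd := Subgroup.card_dvd_of_le (hmin _ hL hne)
    obtain ⟨i, hi⟩ := IsPGroup.iff_card.1 (Q.2.map C.subtype)
    have h1 : r ∣ Nat.card M := by
      rcases Nat.eq_zero_or_pos d with h0 | h0
      · exact absurd (Subgroup.card_eq_one.1 (by rw [hMcard, h0, pow_zero])) hM
      · rw [hMcard]; exact dvd_pow_self r h0.ne'
    exact hqr ((Nat.prime_dvd_prime_iff_eq hr hq).1
      (hr.dvd_of_dvd_pow (hi ▸ h1.trans hdvd))).symm
  -- the index of `C` is one or a prime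
  obtain ⟨χ, hχ⟩ := exists_nonlinear hna
  obtain ⟨θ, hθ⟩ := exists_constituent M (IsIrrCharacter.isCharacter χ.2)
    (apply_one_ne_zero_of_isIrr χ.2)
  have hθ1 : (θ : M → ℂ) 1 = 1 := apply_one_eq_one_of_comm (fun a b => hMc.is_comm.comm a b) θ.2
  obtain ⟨μ, hμ⟩ := exists_hom_of_degree_one θ.2 hθ1
  have hCθ : ∀ g ∈ C, conjChar M (θ : M → ℂ) g = θ := fun g hg => funext fun n => by
    rw [conjChar_apply]
    refine congrArg _ (Subtype.ext ?_)
    show g * (n : G) * g⁻¹ = n
    rw [← Subgroup.mem_centralizer_iff.1 hg (n : G) n.2, mul_inv_cancel_right]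
  have hTC : ∀ g : G, conjChar M (θ : M → ℂ) g = θ → g ∈ C := by
    intro g hg
    by_contra hgC
    let φ : M →* G :=
      MonoidHom.mk' (fun m => g * (m : G) * g⁻¹ * (m : G)⁻¹) fun a b => by
        have h1 : g * (b : G) * g⁻¹ ∈ M := (inferInstance : M.Normal).conj_mem _ b.2 g
        have hc : ∀ x ∈ M, ∀ y ∈ M, x * y = y * x := fun x hx y hy =>
          congrArg Subtype.val (hMc.is_comm.comm ⟨x, hx⟩ ⟨y, hy⟩)
        rw [Subgroup.coe_mul, mul_inv_rev,
          show g * ((a : G) * b) * g⁻¹ * ((b : G)⁻¹ * (a : G)⁻¹) =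
            g * (a : G) * g⁻¹ * ((g * (b : G) * g⁻¹ * (b : G)⁻¹) * (a : G)⁻¹) by group,
          hc _ (mul_mem h1 (inv_mem b.2)) _ (inv_mem a.2)]
        group
    have hLle : φ.range ≤ M := by
      rintro _ ⟨m, rfl⟩
      exact mul_mem ((inferInstance : M.Normal).conj_mem _ m.2 g) (inv_mem m.2)
    have hLn : φ.range.Normal := by
      refine ⟨fun x hx k => ?_⟩
      obtain ⟨m, rfl⟩ := hx
      refine ⟨⟨k * (m : G) * k⁻¹, (inferInstance : M.Normal).conj_mem _ m.2 k⟩, ?_⟩
      have hw : g⁻¹ * (k * g * k⁻¹) ∈ M := by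
        have := Subgroup.commutator_mem_commutator (Subgroup.mem_top g⁻¹) (Subgroup.mem_top k)
        rw [commutatorElement_def, inv_inv] at this
        rw [hMdef, commutator_def]
        simpa [mul_assoc] using this
      have hcw := congrArg Subtype.val (hMc.is_comm.comm
        ⟨k * (m : G) * k⁻¹, (inferInstance : M.Normal).conj_mem _ m.2 k⟩ ⟨_, hw⟩)
      simp only [Subgroup.coe_mul] at hcw
      show g * (k * (m : G) * k⁻¹) * g⁻¹ * (k * (m : G) * k⁻¹)⁻¹ = k * (g * (m : G) * g⁻¹ * (m : G)⁻¹) * k⁻¹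
      calc g * (k * (m : G) * k⁻¹) * g⁻¹ * (k * (m : G) * k⁻¹)⁻¹
          = g * ((k * (m : G) * k⁻¹) * (g⁻¹ * (k * g * k⁻¹))) * (g⁻¹ * (k * g * k⁻¹))⁻¹ * g⁻¹ *
              (k * (m : G) * k⁻¹)⁻¹ := by group
        _ = g * ((g⁻¹ * (k * g * k⁻¹)) * (k * (m : G) * k⁻¹)) * (g⁻¹ * (k * g * k⁻¹))⁻¹ * g⁻¹ *
              (k * (m : G) * k⁻¹)⁻¹ := by rw [hcw]
        _ = k * (g * (m : G) * g⁻¹ * (m : G)⁻¹) * k⁻¹ := by group
    by_cases hL : φ.range = ⊥
    · refine hgC (Subgroup.mem_centralizer_iff.2 fun m hm => ?_)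
      have h1 : φ ⟨m, hm⟩ = 1 := by
        rw [← Subgroup.mem_bot, ← hL]; exact ⟨_, rfl⟩
      exact (mul_inv_eq_iff_eq_mul.1 (mul_inv_eq_one.1 h1)).symm
    · refine hχ ?_
      have hone : ∀ m : M, (θ : M → ℂ) m = 1 := by
        intro m
        obtain ⟨x, hx⟩ := (le_antisymm hLle (hmin _ hLn hL)).ge m.2
        have hxx : m = ⟨g * (x : G) * g⁻¹, (inferInstance : M.Normal).conj_mem _ x.2 g⟩ * x⁻¹ :=
          Subtype.ext hx.symm
        have h1 : (θ : M → ℂ) ⟨g * (x : G) * g⁻¹, (inferInstance : M.Normal).conj_mem _ x.2 g⟩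
            = (θ : M → ℂ) x := by
          have := congrFun hg x
          rw [conjChar_apply] at this
          exact this
        rw [hμ] at h1 ⊢
        have h2 : μ ⟨g * (x : G) * g⁻¹, (inferInstance : M.Normal).conj_mem _ x.2 g⟩ = μ x :=
          Units.ext h1
        show ((μ m : ℂˣ) : ℂ) = 1
        rw [hxx, map_mul, map_inv, h2, mul_inv_cancel, Units.val_one]
      have hinv : ∀ k : G, conjChar M (θ : M → ℂ) k = θ := fun k => funext fun n => by
        rw [conjChar_apply, hone, hone]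
      have hres := res_eq_of_invariant M χ.2 θ.2 hinv hθ
      have hker : ∀ x ∈ M, (χ : G → ℂ) x = (χ : G → ℂ) 1 := by
        intro x hx
        have h1 := congrFun hres ⟨x, hx⟩
        have h2 := congrFun hres 1
        simp only [Pi.smul_apply, hone, smul_eq_mul, OneMemClass.coe_one] at h1 h2
        rw [h1, h2]
      obtain ⟨ψ, hψ, hψe⟩ := exists_descend χ.2 M hker
      have hab : ∀ a b : G ⧸ M, a * b = b * a := by
        intro a b
        obtain ⟨a, rfl⟩ := QuotientGroup.mk_surjective a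
        obtain ⟨b, rfl⟩ := QuotientGroup.mk_surjective b
        rw [← QuotientGroup.mk_mul, ← QuotientGroup.mk_mul, QuotientGroup.eq]
        have h1 : ⁅b⁻¹, a⁻¹⁆ ∈ M :=
          Subgroup.commutator_mem_commutator (Subgroup.mem_top _) (Subgroup.mem_top _)
        rw [commutatorElement_def] at h1
        simpa [mul_assoc] using h1
      have h1 : (χ : G → ℂ) 1 = 1 := by
        rw [hψe, QuotientGroup.mk_one, apply_one_eq_one_of_comm hab hψ]
      rw [charDegree_one] at h1
      exact_mod_cast h1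
  have hidx : (conjOrbit M (θ : M → ℂ)).card = C.index :=
    card_conjOrbit M _ C fun g => ⟨hCθ g, hTC g⟩
  obtain ⟨e, he⟩ := IsCharacter.exists_classInner_eq_nat (G := M)
    (CfsgLib.Coherence.isCharacter_comp (IsIrrCharacter.isCharacter χ.2) M.subtype) θ
  have h1 := apply_one_eq M χ.2 θ.2 hθ
  erw [he] at h1
  rw [hidx, charDegree_one, hθ1, mul_one] at h1
  have hdvd : C.index ∣ charDegree (χ : G → ℂ) := ⟨e, by rw [mul_comm]; exact_mod_cast h1⟩
  refine ⟨r, charDegree (χ : G → ℂ), fun q hq hqG => ?_⟩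
  rw [← C.card_mul_index] at hqG
  rcases hq.dvd_mul.1 hqG with h2 | h2
  · exact Or.inl (hCr q hq h2)
  · exact Or.inr ((Nat.prime_dvd_prime_iff_eq hq ((hd χ).resolve_left hχ)).1 (h2.trans hdvd))

theorem degree_cases {G : Type u} [Group G] [Finite G] (hd : PDeg G) :
    ∃ r f : ℕ, ∀ χ : IrrCharacter G, charDegree (χ : G → ℂ) = 1 ∨ charDegree (χ : G → ℂ) = r ∨
      charDegree (χ : G → ℂ) = f := by
  classical
  haveI := Fintype.ofFinite G
  haveI hsol : Group.IsSolvable G := isSolvable _ G rfl hd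
  by_cases hna : ∀ a b : G, a * b = b * a
  · refine ⟨1, 1, fun χ => Or.inl ?_⟩
    have h := apply_one_eq_one_of_comm hna χ.2
    rw [charDegree_one] at h
    exact_mod_cast h
  obtain ⟨K, hK⟩ : ∃ K : Subgroup G, Maximal (fun K : Subgroup G => K.Normal ∧ ¬ commutator G ≤ K) K :=
    Set.Finite.exists_maximal (Set.toFinite _) ⟨⊥, inferInstance, fun hle => hna fun a b =>
      commutatorElement_eq_one_iff_mul_comm.1 (Subgroup.mem_bot.1 (hle
        (Subgroup.commutator_mem_commutator (Subgroup.mem_top a) (Subgroup.mem_top b))))⟩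
  obtain ⟨hKn, hKc⟩ := hK.prop
  haveI := hKn
  have hna' : ¬ ∀ a b : G ⧸ K, a * b = b * a := fun h => hKc (by
    rw [commutator_def, Subgroup.commutator_le]
    intro a _ b _
    rw [← QuotientGroup.eq_one_iff, ← QuotientGroup.mk'_apply, map_commutatorElement,
      commutatorElement_eq_one_iff_mul_comm]
    exact h _ _)
  have hmin : ∀ L : Subgroup (G ⧸ K), L.Normal → L ≠ ⊥ → commutator (G ⧸ K) ≤ L := by
    intro L hL hL1
    haveI := hL
    have h1 : commutator G ≤ L.comap (QuotientGroup.mk' K) := by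
      by_contra hc
      have h2 := hK.eq_of_ge ⟨inferInstance, hc⟩
        (le_of_eq_of_le (QuotientGroup.ker_mk' K).symm (Subgroup.ker_le_comap _ _))
      refine hL1 (Subgroup.comap_injective (QuotientGroup.mk'_surjective K) ?_)
      rw [MonoidHom.comap_bot, QuotientGroup.ker_mk']
      exact h2
    rw [commutator_def, Subgroup.commutator_le]
    intro a _ b _
    obtain ⟨a, rfl⟩ := QuotientGroup.mk'_surjective K a
    obtain ⟨b, rfl⟩ := QuotientGroup.mk'_surjective K b
    rw [← map_commutatorElement]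
    exact h1 (Subgroup.commutator_mem_commutator (Subgroup.mem_top a) (Subgroup.mem_top b))
  obtain ⟨r, f, hrf⟩ := two_primes inferInstance hna' hmin (hd.quotient K)
  obtain ⟨β, hβ⟩ := exists_nonlinear hna'
  refine ⟨r, f, fun χ => ?_⟩
  rcases hd χ with h1 | hq
  · exact Or.inl h1
  refine Or.inr (hrf _ hq ?_)
  rw [show Nat.card (G ⧸ K) = K.index from rfl]
  by_contra hndvd
  haveI := Fintype.ofFinite K
  obtain ⟨θ, hθ⟩ := exists_constituent K (IsIrrCharacter.isCharacter χ.2)
    (apply_one_ne_zero_of_isIrr χ.2)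
  obtain ⟨t, htK, ht⟩ := CfsgLib.RealChar.degree_div_dvd_index K χ.2 θ.2 hθ
  have ht1 : t = 1 := by
    have h2 : (χ : G → ℂ) 1 = ((t * charDegree (θ : K → ℂ) : ℕ) : ℂ) := by
      rw [ht, charDegree_one, Nat.cast_mul]
    rw [charDegree_one, Nat.cast_inj] at h2
    rcases (Nat.dvd_prime hq).1 (h2 ▸ dvd_mul_right t (charDegree (θ : K → ℂ))) with h3 | h3
    · exact h3
    · exact absurd (h3 ▸ htK) hndvd
  rw [ht1, Nat.cast_one, one_mul] at ht
  obtain ⟨e, he⟩ := IsCharacter.exists_classInner_eq_nat (G := K)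
    (CfsgLib.Coherence.isCharacter_comp (IsIrrCharacter.isCharacter χ.2) K.subtype) θ
  have h2 := apply_one_eq K χ.2 θ.2 hθ
  have he' : classInner (fun n : K => (χ : G → ℂ) n) (θ : K → ℂ) = (e : ℂ) := he
  rw [he', ht] at h2
  have h3 : e * (conjOrbit K (θ : K → ℂ)).card = 1 := by
    have h4 := mul_right_cancel₀ (apply_one_ne_zero_of_isIrr θ.2) ((one_mul _).trans h2)
    exact_mod_cast h4.symm
  have hext : ∀ k : K, (χ : G → ℂ) k = (θ : K → ℂ) k := by
    intro k
    have h5 := congrFun (res_eq K χ.2 θ.2 hθ) k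
    obtain ⟨η, hη⟩ := Finset.card_eq_one.1 (Nat.eq_one_of_mul_eq_one_left h3)
    have hθη : (θ : K → ℂ) = η := Finset.mem_singleton.1 (hη ▸ (mem_conjOrbit K).2 ⟨1, conjChar_one K _⟩)
    rw [he', Nat.eq_one_of_mul_eq_one_right h3, hη, Finset.sum_singleton, Nat.cast_one, one_smul,
      ← hθη] at h5
    exact h5
  obtain ⟨E, hE, -, -⟩ := CfsgLib.CharDegreesTheory.exists_gallagher K θ
    (IsIrrCharacter.isCharacter χ.2) hext
  have h6 : charDegree (E β : G → ℂ) = charDegree (χ : G → ℂ) * charDegree (β : G ⧸ K → ℂ) := by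
    refine CfsgLib.CharDegreesTheory.charDegree_eq ?_
    rw [hE, QuotientGroup.mk_one, charDegree_one, charDegree_one, Nat.cast_mul]
  rcases hd (E β) with h7 | h7
  · exact hβ (Nat.eq_one_of_mul_eq_one_left (h6.symm.trans h7))
  · rcases (Nat.prime_mul_iff.1 (h6 ▸ h7)) with ⟨-, h8⟩ | ⟨-, h8⟩
    · exact hβ h8
    · exact hq.ne_one h8

/-- Isaacs–Passman: at most three degrees. -/
theorem card_degrees_le_three {G : Type u} [Group G] [Finite G]
    (h : ∀ d ∈ Cfsg.charDegrees G, d = 1 ∨ d.Prime) : Nat.card ↥(Cfsg.charDegrees G) ≤ 3 := by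
  classical
  obtain ⟨r, f, hrf⟩ := degree_cases (G := G) fun χ => h _ ⟨χ, rfl⟩
  have hsub : Cfsg.charDegrees G ⊆ (({1, r, f} : Finset ℕ) : Set ℕ) := by
    rintro _ ⟨χ, rfl⟩
    simpa using hrf χ
  rw [Nat.card_coe_set_eq]
  refine (Set.ncard_le_ncard hsub (Finset.finite_toSet _)).trans ?_
  rw [Set.ncard_coe_finset]
  exact Finset.card_le_three

end CfsgLib.HallClasses.PrimeDegreesThree
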