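import Cfsg.Agent.Lib.NormalPComplement.FixedPointFree
import Cfsg.Agent.Lib.Cores.FPF
import Cfsg.Agent.Lib.SchurMult.Quaternion
import Cfsg.Agent.Lib.Transfer.Tate
import Cfsg.Agent.Lib.PGroups.Frattini

/-!
# Camina pairs

If `(G, N)` is a Camina pair then it is Frobenius, or `N` is a `p`-group, or `G ⧸ N` is one.
-/

set_option autoImplicit false
set_option linter.style.haveILetI false
set_option linter.unusedSectionVars false

namespace CfsgLib.HallClasses.Camina

open Subgroup
open scoped commutatorElement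

variable {G : Type*} [Group G] [Finite G] {N : Subgroup G} [hN : N.Normal]

/-- For `g` outside `N` the coset `gN` lies in the class of `g`. -/
def IsCamina (N : Subgroup G) : Prop :=
  ∀ g : G, g ∉ N → ∀ n ∈ N, ∃ x : G, x * g * x⁻¹ = g * n

theorem eq_one_of_commute (h : IsCamina N) {g n : G} (hg : g ∉ N) (hn : n ∈ N)
    (hc : Commute g n) (hcop : (orderOf g).Coprime (orderOf n)) : n = 1 := by
  obtain ⟨x, hx⟩ := h g hg n hn
  have h1 : orderOf (g * n) = orderOf g := by
    rw [← hx]
    exact orderOf_injective (MulAut.conj x).toMonoidHom (MulAut.conj x).injective g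
  rw [hc.orderOf_mul_eq_mul_orderOf_of_coprime hcop] at h1
  exact orderOf_eq_one_iff.1 ((Nat.mul_eq_left (orderOf_pos g).ne').1 h1)

/-- Coprime to the index: the Frobenius case. -/
theorem centralizer_le (h : IsCamina N) (hcop : (Nat.card N).Coprime N.index) {x : G} (hx : x ∈ N)
    (hx1 : x ≠ 1) : centralizer ({x} : Set G) ≤ N := by
  intro y hy
  by_contra hyN
  -- the part of `y` of order dividing the index
  set u := y ^ Nat.card N with hu
  have huN : u ∉ N := by
    intro hc
    have h2 : ((y : G) : G ⧸ N) ^ Nat.card N = 1 := by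
      rw [← QuotientGroup.mk_pow]; exact (QuotientGroup.eq_one_iff _).2 hc
    have h3 : orderOf ((y : G) : G ⧸ N) = 1 := Nat.eq_one_of_dvd_coprimes hcop
      (orderOf_dvd_of_pow_eq_one h2) (orderOf_dvd_natCard _)
    exact hyN ((QuotientGroup.eq_one_iff _).1 (orderOf_eq_one_iff.1 h3))
  have hcom : Commute u x :=
    (show Commute y x from mem_centralizer_singleton_iff.1 hy).pow_left _
  have hd1 : orderOf u ∣ N.index := by
    refine orderOf_dvd_of_pow_eq_one ?_
    rw [hu, ← pow_mul, N.card_mul_index, pow_card_eq_one']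
  have hd2 : orderOf x ∣ Nat.card N := N.orderOf_dvd_natCard hx
  exact hx1 (eq_one_of_commute h huN hx hcom
    ((hcop.symm.coprime_dvd_left hd1).coprime_dvd_right hd2))

theorem card_mul_dvd (h : IsCamina N) {g : G} (hg : g ∉ N) :
    Nat.card (centralizer ({g} : Set G)) * Nat.card N ∣ Nat.card G := by
  classical
  haveI := Fintype.ofFinite G
  letI act : MulAction N (MulAction.orbit (ConjAct G) g) :=
    { smul := fun n y => ⟨y.1 * (n : G)⁻¹, by
        obtain ⟨a, ha⟩ := y.2
        have hyN : (y.1 : G) ∉ N := by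
          rw [← ha]
          intro hc
          have := hN.conj_mem _ hc (ConjAct.ofConjAct a)⁻¹
          simp only [ConjAct.smul_def] at this
          exact hg (by simpa [mul_assoc] using this)
        obtain ⟨x, hx⟩ := h y.1 hyN (n : G)⁻¹ (inv_mem n.2)
        refine ⟨ConjAct.toConjAct x * a, ?_⟩
        show (ConjAct.toConjAct x * a) • g = _
        rw [mul_smul, show a • g = y.1 from ha, ConjAct.toConjAct_smul, hx]⟩
      one_smul := fun y => Subtype.ext (by show y.1 * ((1 : N) : G)⁻¹ = y.1; simp)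
      mul_smul := fun m n y => Subtype.ext (by
        show y.1 * ((m * n : N) : G)⁻¹ = y.1 * (n : G)⁻¹ * (m : G)⁻¹
        simp [mul_assoc]) }
  have hfree : ∀ y : MulAction.orbit (ConjAct G) g, MulAction.stabilizer N y = ⊥ := by
    intro y
    refine (eq_bot_iff_forall _).2 fun n hn => ?_
    have h1 : y.1 * (n : G)⁻¹ = y.1 := congrArg Subtype.val hn
    exact Subtype.ext (inv_eq_one.1 (mul_left_cancel (h1.trans (mul_one _).symm)))
  have hdvd : Nat.card N ∣ Nat.card (MulAction.orbit (ConjAct G) g) := by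
    haveI := Fintype.ofFinite (MulAction.orbitRel.Quotient N (MulAction.orbit (ConjAct G) g))
    rw [Nat.card_congr (MulAction.selfEquivSigmaOrbits N (MulAction.orbit (ConjAct G) g)),
      Nat.card_sigma]
    refine Finset.dvd_sum fun q _ => ?_
    rw [Nat.card_congr (MulAction.orbitEquivQuotientStabilizer N q.out), hfree,
      ← Subgroup.index_eq_card, Subgroup.index_bot]
  have h2 := Nat.card_congr (MulAction.orbitProdStabilizerEquivGroup (ConjAct G) g)
  have h3 : Nat.card (MulAction.stabilizer (ConjAct G) g) = Nat.card (centralizer ({g} : Set G)) := by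
    rw [centralizer_eq_comap_stabilizer]
    exact Nat.card_congr
      { toFun := fun a => ⟨ConjAct.ofConjAct a.1, a.2⟩
        invFun := fun b => ⟨ConjAct.toConjAct b.1, b.2⟩
        left_inv := fun _ => rfl
        right_inv := fun _ => rfl }
  rw [Nat.card_prod, h3] at h2
  rw [mul_comm, show Nat.card G = Nat.card (ConjAct G) from rfl, ← h2]
  exact mul_dvd_mul_right hdvd _

section prime

variable {p : ℕ} [hp : Fact p.Prime]

theorem inf_le_commutator (h : IsCamina N) (P : Sylow p G) (hpi : p ∣ N.index) :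
    N.subgroupOf (P : Subgroup G) ≤ commutator (P : Subgroup G) := by
  classical
  have hPN : ¬ (P : Subgroup G) ≤ N := fun hc => P.not_dvd_index (hpi.trans (index_dvd_of_le hc))
  set π : (P : Subgroup G) →* G ⧸ N := (QuotientGroup.mk' N).comp (P : Subgroup G).subtype with hπ
  have hne : π.range ≠ ⊥ := fun hc => hPN fun s hs => (QuotientGroup.eq_one_iff s).1
    ((Subgroup.eq_bot_iff_forall _).1 hc _ ⟨⟨s, hs⟩, rfl⟩)
  haveI : Nontrivial π.range := (Subgroup.nontrivial_iff_ne_bot _).2 hne
  have hr : IsPGroup p π.range := P.2.of_surjective π.rangeRestrict π.rangeRestrict_surjective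
  haveI := hr.center_nontrivial
  obtain ⟨z, hz1⟩ := exists_ne (1 : center π.range)
  obtain ⟨⟨g, hgP⟩, hgz⟩ := π.rangeRestrict_surjective z.1
  have hgN : g ∉ N := fun hc => hz1 (Subtype.ext (by
    rw [← hgz]
    exact Subtype.ext ((QuotientGroup.eq_one_iff g).2 hc)))
  set g' : (P : Subgroup G) := ⟨g, hgP⟩
  set C := centralizer ({g'} : Set (P : Subgroup G))
  have hle : ∀ x : (P : Subgroup G), g'⁻¹ * (x * g' * x⁻¹) ∈ N.subgroupOf (P : Subgroup G) := by
    intro x
    rw [mem_subgroupOf, ← QuotientGroup.eq_one_iff]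
    have hzc := Subgroup.mem_center_iff.1 z.2 (π.rangeRestrict x)
    rw [← hgz, ← map_mul, ← map_mul] at hzc
    have h1 : π (x * g') = π (g' * x) := congrArg Subtype.val hzc
    show π (g'⁻¹ * (x * g' * x⁻¹)) = 1
    rw [map_mul, map_mul, h1, ← map_mul, ← map_mul, mul_inv_cancel_right, inv_mul_cancel, map_one]
  let f : (P : Subgroup G) ⧸ C → N.subgroupOf (P : Subgroup G) :=
    Quotient.lift (fun x => ⟨g'⁻¹ * (x * g' * x⁻¹), hle x⟩) fun a b hab => by
      have h1 : a⁻¹ * b ∈ C := QuotientGroup.leftRel_apply.1 hab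
      have h2 := mem_centralizer_singleton_iff.1 h1
      refine Subtype.ext (mul_left_cancel_iff.2 ?_)
      calc a * g' * a⁻¹ = a * (g' * (a⁻¹ * b)) * b⁻¹ := by group
        _ = a * ((a⁻¹ * b) * g') * b⁻¹ := by rw [h2]
        _ = b * g' * b⁻¹ := by group
  have hinj : Function.Injective f := by
    intro q₁ q₂ he
    induction q₁ using QuotientGroup.induction_on with
    | _ a =>
    induction q₂ using QuotientGroup.induction_on with
    | _ b =>
    have h1 : a * g' * a⁻¹ = b * g' * b⁻¹ := mul_left_cancel (congrArg Subtype.val he)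
    refine QuotientGroup.eq.2 (mem_centralizer_singleton_iff.2 ?_)
    calc a⁻¹ * b * g' = a⁻¹ * (b * g' * b⁻¹) * b := by group
      _ = a⁻¹ * (a * g' * a⁻¹) * b := by rw [h1]
      _ = g' * (a⁻¹ * b) := by group
  have hdvd : Nat.card C * Nat.card (N.subgroupOf (P : Subgroup G)) ∣ Nat.card (P : Subgroup G) := by
    obtain ⟨i, hi⟩ := IsPGroup.iff_card.1 (P.2.to_subgroup C)
    obtain ⟨j, hj⟩ := IsPGroup.iff_card.1 (P.2.to_subgroup (N.subgroupOf (P : Subgroup G)))
    rw [hi, hj, ← pow_add, P.card_eq_multiplicity]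
    refine pow_dvd_pow p ((hp.out.pow_dvd_iff_le_factorization Nat.card_pos.ne').1 ?_)
    rw [pow_add, ← hi, ← hj]
    refine dvd_trans (mul_dvd_mul ?_ ?_) (card_mul_dvd h hgN)
    · rw [← card_map_of_injective (P : Subgroup G).subtype_injective (K := C)]
      refine card_dvd_of_le ?_
      rintro _ ⟨c, hc, rfl⟩
      exact mem_centralizer_singleton_iff.2
        (congrArg Subtype.val (mem_centralizer_singleton_iff.1 hc))
    · rw [← card_map_of_injective (P : Subgroup G).subtype_injective
        (K := N.subgroupOf (P : Subgroup G))]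
      exact card_dvd_of_le (map_comap_le _ _)
  have hbij : Function.Bijective f := by
    refine (Nat.bijective_iff_injective_and_card f).2 ⟨hinj, le_antisymm
      (Nat.card_le_card_of_injective f hinj) ?_⟩
    have := Nat.le_of_dvd Nat.card_pos hdvd
    rw [C.card_eq_card_quotient_mul_card_subgroup, mul_comm] at this
    exact Nat.le_of_mul_le_mul_right this Nat.card_pos
  intro u hu
  obtain ⟨q, hq⟩ := hbij.2 ⟨u, hu⟩
  induction q using QuotientGroup.induction_on with
  | _ x =>
  rw [show u = ⁅g'⁻¹, x⁆ by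
    rw [commutatorElement_def, inv_inv]
    have := congrArg Subtype.val hq
    simp only [f] at this
    rw [← this]
    show g'⁻¹ * (x * g' * x⁻¹) = _
    group]
  exact commutator_mem_commutator (mem_top _) (mem_top _)

omit hp in
theorem commutator_top_ne {K : Type*} [Group K] [Group.IsNilpotent K] {A : Subgroup K}
    (hA : A ≠ ⊥) : ⁅A, (⊤ : Subgroup K)⁆ ≠ A := by
  intro he
  obtain ⟨n, hn⟩ := (Subgroup.isNilpotent_iff_lowerCentralSeries (⊤ : Subgroup K)).1
    (Group.isNilpotent_top.2 (inferInstance : Group.IsNilpotent K))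
  refine hA (le_bot_iff.1 (hn ▸ ?_))
  clear hn
  induction n with
  | zero => exact le_top
  | succ n ih =>
    rw [← he]
    exact commutator_mono ih le_rfl

/-- A shared prime forbids chief factors of `N` of order prime to it. -/
theorem false_of_quotient (h : IsCamina N) (hpN : p ∣ Nat.card N) (hpi : p ∣ N.index)
    (R : Subgroup G) [R.Normal] (hRN : R ≤ N) (hne : R ≠ N) (hcop : ¬ p ∣ R.relIndex N) : False := by
  classical
  obtain ⟨P⟩ := (inferInstance : Nonempty (Sylow p G))
  set A := N.subgroupOf (P : Subgroup G) with hA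
  haveI hAn : A.Normal := by rw [hA]; infer_instance
  haveI : Group.IsNilpotent (P : Subgroup G) := P.2.isNilpotent
  have hAP := inf_le_commutator h P hpi
  -- the Sylow group of `N` is not trivial
  have hA1 : A ≠ ⊥ := by
    intro hc
    obtain ⟨Q⟩ := (inferInstance : Nonempty (Sylow p N))
    obtain ⟨T, hT⟩ := (Q.2.map N.subtype).exists_le_sylow
    obtain ⟨g, hg⟩ := MulAction.exists_smul_eq G T P
    obtain ⟨⟨y, hy⟩, hy1⟩ := Subgroup.ne_bot_iff_exists_ne_one.1 (Q.ne_bot_of_dvd_card hpN)
    have hmem : g * (y : G) * g⁻¹ ∈ (P : Subgroup G) := by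
      rw [← hg, Sylow.coe_subgroup_smul]
      exact ⟨y, hT (mem_map_of_mem _ hy), rfl⟩
    have := (Subgroup.eq_bot_iff_forall _).1 hc ⟨_, hmem⟩
      (mem_subgroupOf.2 (hN.conj_mem _ y.2 g))
    exact hy1 (Subtype.ext (Subtype.ext (conj_eq_one_iff.1 (congrArg Subtype.val this))))
  set X := ⁅A, (⊤ : Subgroup (P : Subgroup G))⁆ with hX
  haveI : X.Normal := by rw [hX]; infer_instance
  have hXA : X ≤ A := commutator_le_left _ _
  obtain ⟨z, hzA, hzX⟩ := SetLike.exists_of_lt (lt_of_le_of_ne hXA (commutator_top_ne hA1))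
  -- fixed-point-free action of the image of `P` on `N ⧸ R`
  set π := QuotientGroup.mk' R with hπ
  set Pb := (P : Subgroup G).map π with hPb
  set W := N.map π with hW
  haveI : W.Normal := hN.map _ (QuotientGroup.mk'_surjective R)
  have hWcard : Nat.card W = R.relIndex N := by
    rw [hW, ← relIndex_bot_left, ← relIndex_comap, MonoidHom.comap_bot, QuotientGroup.ker_mk']
  have hWne : W ≠ ⊥ := fun hc => hne (le_antisymm hRN fun n hn =>
    (QuotientGroup.eq_one_iff n).1 ((Subgroup.eq_bot_iff_forall _).1 hc _ (mem_map_of_mem π hn)))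
  have hcop' : ∀ a ∈ Pb, ∀ w ∈ W, (orderOf a).Coprime (orderOf w) := by
    intro a ha w hw
    obtain ⟨k, hk⟩ := IsPGroup.iff_orderOf.1 (P.2.map π) ⟨a, ha⟩
    rw [Subgroup.orderOf_mk] at hk
    rw [hk]
    exact Nat.Coprime.pow_left k (hp.out.coprime_iff_not_dvd.2 fun hd => hcop
      (hWcard ▸ hd.trans (W.orderOf_dvd_natCard hw)))
  have hWcam : IsCamina W := by
    intro a ha w hw
    obtain ⟨a, rfl⟩ := QuotientGroup.mk'_surjective R a
    obtain ⟨n, hn, rfl⟩ := hw
    obtain ⟨x, hx⟩ := h a (fun hc => ha (mem_map_of_mem π hc)) n hn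
    exact ⟨π x, by rw [← map_inv, ← map_mul, ← map_mul, hx, map_mul]⟩
  have hdisj : ∀ a ∈ Pb, a ∈ W → a = 1 := fun a ha ha' => by
    rw [← orderOf_eq_one_iff]
    exact (Nat.coprime_self _).1 (hcop' a ha a ha')
  have hu : CfsgLib.TwoGroups.UniqueOrderP p Pb := by
    refine CfsgLib.Cores.uniqueOrderP_of_fpf (P.2.map π) hWne
      le_normalizer_of_normal fun a ha ha1 => (Subgroup.eq_bot_iff_forall _).2 ?_
    rintro w ⟨hw, hwc⟩
    exact eq_one_of_commute hWcam (fun hc => ha1 (hdisj a ha hc)) hw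
      (show Commute a w from (mem_centralizer_singleton_iff.1 hwc).symm) (hcop' a ha w hw)
  -- the central extension
  set φ : (P : Subgroup G) →* Pb := π.subgroupMap (P : Subgroup G)
  have hker : φ.ker = A := by
    ext s
    rw [MonoidHom.mem_ker, hA, mem_subgroupOf]
    constructor
    · intro hs
      exact hRN ((QuotientGroup.eq_one_iff _).1 (congrArg Subtype.val hs))
    · exact fun hs => Subtype.ext (hdisj _ (φ s).2 ⟨s, hs, rfl⟩)
  set σ : (P : Subgroup G) ⧸ X →* Pb := QuotientGroup.lift X φ (hker ▸ hXA)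
  have hσs : Function.Surjective σ := QuotientGroup.lift_surjective_of_surjective X φ
    (π.subgroupMap_surjective _) (hker ▸ hXA)
  have hσc : σ.ker ≤ center ((P : Subgroup G) ⧸ X) := by
    intro q hq
    obtain ⟨a, rfl⟩ := QuotientGroup.mk_surjective q
    have ha : a ∈ A := hker ▸ (MonoidHom.mem_ker.2 (MonoidHom.mem_ker.1 hq))
    refine mem_center_iff.2 fun r => ?_
    obtain ⟨b, rfl⟩ := QuotientGroup.mk_surjective r
    rw [← QuotientGroup.mk_mul, ← QuotientGroup.mk_mul, QuotientGroup.eq]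
    have h1 : ⁅a⁻¹, b⁻¹⁆ ∈ X := commutator_mem_commutator (inv_mem ha) (mem_top _)
    rw [commutatorElement_def] at h1
    have h2 := inv_mem h1
    simpa [mul_assoc] using h1
  refine hzX ((QuotientGroup.eq_one_iff z).1 ?_)
  refine CfsgLib.SchurMult.eq_one_of_uniqueOrderP hσc hσs (⊤ : Subgroup Pb)
    ((P.2.map π).to_subgroup _) (hu.of_injective (⊤ : Subgroup Pb).subtype Subtype.val_injective)
    ?_ (MonoidHom.mem_ker.2 (MonoidHom.mem_ker.1 (hker.symm ▸ hzA : z ∈ φ.ker)))
  rw [comap_top]
  have h1 := mem_map_of_mem (QuotientGroup.mk' X) (hAP hzA)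
  rw [_root_.commutator_def, Subgroup.map_commutator, ← MonoidHom.range_eq_map,
    MonoidHom.range_eq_top.2 (QuotientGroup.mk'_surjective X)] at h1
  exact h1

/-- For a shared prime `N` has a normal `p`-complement. -/
theorem exists_complement (h : IsCamina N) (hpN : p ∣ Nat.card N) (hpi : p ∣ N.index) :
    ∃ R : Subgroup G, R.Normal ∧ R ≤ N ∧ ¬ p ∣ Nat.card R ∧ ∃ k, R.relIndex N = p ^ k := by
  classical
  obtain ⟨P⟩ := (inferInstance : Nonempty (Sylow p G))
  set X := (P : Subgroup G) ⊔ N with hX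
  set P' : Sylow p X := P.subtype le_sup_left with hP'
  set NX := N.subgroupOf X with hNX
  haveI : NX.Normal := by rw [hNX]; infer_instance
  have htop : (P' : Subgroup X) ⊔ NX = ⊤ := by
    rw [hP', Sylow.coe_subtype, hNX, ← subgroupOf_sup le_sup_left le_sup_right, subgroupOf_self]
  have hXq : IsPGroup p (X ⧸ NX) := P'.2.of_surjective
    ((QuotientGroup.mk' NX).comp (P' : Subgroup X).subtype) (by
      rw [← MonoidHom.range_eq_top, MonoidHom.range_comp, range_subtype]
      have h1 := Subgroup.map_sup (P' : Subgroup X) NX (QuotientGroup.mk' NX)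
      rw [htop, QuotientGroup.map_mk'_self, sup_bot_eq, ← MonoidHom.range_eq_map,
        MonoidHom.range_eq_top.2 (QuotientGroup.mk'_surjective NX)] at h1
      exact h1.symm)
  have hres : (P' : Subgroup X) ⊓ Cfsg.pResidual p X ≤
      (frattini (P' : Subgroup X)).map (P' : Subgroup X).subtype := by
    intro x hx
    refine ⟨⟨x, hx.1⟩, ?_, rfl⟩
    refine CfsgLib.PGroups.commutator_le_frattini P'.2 ?_
    have hxN : (x : G) ∈ N := mem_subgroupOf.1
      (CfsgLib.Transfer.pResidual_le_of_isPGroup hXq hx.2)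
    let e : (P : Subgroup G) →* (P' : Subgroup X) :=
      MonoidHom.mk' (fun s => ⟨⟨s, mem_sup_left s.2⟩, s.2⟩) fun a b => rfl
    have h1 := inf_le_commutator h P hpi (show (⟨(x : G), hx.1⟩ : (P : Subgroup G)) ∈ _ from hxN)
    have h2 := mem_map_of_mem e h1
    rw [_root_.commutator_def, Subgroup.map_commutator] at h2
    exact commutator_mono le_top le_top h2
  obtain ⟨P₂, K, hKn, hKc⟩ := CfsgLib.Transfer.hasNormalPComplement_of_inf_le_frattini P' hres
  haveI := hKn
  have hKi : K.index = Nat.card (P₂ : Subgroup X) := hKc.symm.index_eq_card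
  have hKp : ¬ p ∣ Nat.card K := by
    rw [← hKc.index_eq_card]
    exact P₂.not_dvd_index
  obtain ⟨k, hk⟩ := IsPGroup.iff_card.1 P₂.2
  have hmem : ∀ y : X, ¬ p ∣ orderOf y → y ∈ K := by
    intro y hy
    rw [← QuotientGroup.eq_one_iff, ← orderOf_eq_one_iff]
    have h1 : orderOf (y : X ⧸ K) ∣ p ^ k := by
      rw [← hk, ← hKi]
      exact orderOf_dvd_natCard _
    exact Nat.eq_one_of_dvd_coprimes ((hp.out.coprime_iff_not_dvd.2 hy).pow_left k) h1
      (orderOf_map_dvd (QuotientGroup.mk' K) y)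
  have hKN : ∀ y ∈ K, (y : G) ∈ N := by
    intro y hy
    refine mem_subgroupOf.1 ((QuotientGroup.eq_one_iff y).1 (orderOf_eq_one_iff.1 ?_))
    obtain ⟨j, hj⟩ := IsPGroup.iff_orderOf.1 hXq (y : X ⧸ NX)
    exact Nat.eq_one_of_dvd_coprimes ((hp.out.coprime_iff_not_dvd.2 hKp).pow_left j) (hj ▸ dvd_rfl)
      ((orderOf_map_dvd (QuotientGroup.mk' NX) y).trans (K.orderOf_dvd_natCard hy))
  refine ⟨K.map X.subtype, ⟨?_⟩, ?_, ?_, ?_⟩
  · rintro _ ⟨y, hy, rfl⟩ g
    have hgy : g * (y : G) * g⁻¹ ∈ N := hN.conj_mem _ (hKN y hy) g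
    refine ⟨⟨g * (y : G) * g⁻¹, mem_sup_right hgy⟩, hmem _ ?_, rfl⟩
    rw [Subgroup.orderOf_mk, show g * (y : G) * g⁻¹ = (MulAut.conj g) (y : G) from rfl,
      MulEquiv.orderOf_eq, Subgroup.orderOf_coe]
    exact fun hd => hKp (hd.trans (K.orderOf_dvd_natCard hy))
  · rintro _ ⟨y, hy, rfl⟩
    exact hKN y hy
  · rwa [card_map_of_injective X.subtype_injective]
  · have h1 : (K.map X.subtype).relIndex N ∣ p ^ k := by
      rw [← hk, ← hKi]
      calc (K.map X.subtype).relIndex N ∣ (K.map X.subtype).relIndex X :=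
            Dvd.intro _ (relIndex_mul_relIndex (L := X) _ _ (by rintro _ ⟨y, hy, rfl⟩; exact hKN y hy) le_sup_right)
        _ = K.index := by
          rw [Subgroup.relIndex, show (K.map X.subtype).subgroupOf X = K from
            comap_map_eq_self_of_injective X.subtype_injective K]
    obtain ⟨j, -, hj⟩ := (Nat.dvd_prime_pow hp.out).1 h1
    exact ⟨j, hj⟩

end prime

theorem isNilpotent_of_coprime_prime (h : IsCamina N) {q : ℕ} (hq : q.Prime)
    (hqi : q ∣ N.index) (hqN : ¬ q ∣ Nat.card N) : Group.IsNilpotent N := by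
  haveI := Fact.mk hq
  obtain ⟨g, hg⟩ := exists_prime_orderOf_dvd_card' (G := G) q
    (hqi.trans N.index_dvd_card)
  have hgN : g ∉ N := fun hc => hqN (hg ▸ N.orderOf_dvd_natCard hc)
  refine CfsgLib.NormalPComplement.isNilpotent_of_fpf_element
    (le_normalizer_of_normal (K := ⊤) (mem_top g)) hq hg fun n hn hc => ?_
  refine eq_one_of_commute h hgN hn hc ?_
  rw [hg]
  exact hq.coprime_iff_not_dvd.2 fun hd => hqN (hd.trans (N.orderOf_dvd_natCard hn))

/-- Not Frobenius and `G ⧸ N` not of prime power order forces `N` to be a `p`-group. -/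
theorem isPGroup_of_two_primes (h : IsCamina N) {p : ℕ} [hp : Fact p.Prime]
    (hpN : p ∣ Nat.card N) (hpi : p ∣ N.index) {q : ℕ} (hq : q.Prime) (hqp : q ≠ p)
    (hqi : q ∣ N.index) : IsPGroup p N := by
  classical
  haveI := Fact.mk hq
  by_cases hqN : q ∣ Nat.card N
  · obtain ⟨R, hRn, hRN, hRq, k, hk⟩ := exists_complement h (p := q) hqN hqi
    haveI := hRn
    refine (false_of_quotient h hpN hpi R hRN (fun e => hRq (e ▸ hqN)) ?_).elim
    rw [hk]
    exact fun hd => hqp ((Nat.prime_dvd_prime_iff_eq hp.out hq).1 (hp.out.dvd_of_dvd_pow hd)).symm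
  · haveI := isNilpotent_of_coprime_prime h hq hqi hqN
    obtain ⟨S⟩ := (inferInstance : Nonempty (Sylow p N))
    haveI hSn : (S : Subgroup N).Normal :=
      Sylow.normal_of_normalizerCondition Group.normalizerCondition_of_isNilpotent S
    haveI := S.characteristic_of_normal hSn
    haveI : ((S : Subgroup N).map N.subtype).Normal := inferInstance
    by_contra hnp
    refine false_of_quotient h hpN hpi ((S : Subgroup N).map N.subtype) (map_subtype_le _) ?_ ?_
    · intro e
      refine hnp ?_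
      have h1 := S.2.map N.subtype
      rwa [e] at h1
    · rw [Subgroup.relIndex, show ((S : Subgroup N).map N.subtype).subgroupOf N = S from
        comap_map_eq_self_of_injective N.subtype_injective _]
      exact S.not_dvd_index

theorem trichotomy (h : IsCamina N) (hN1 : N ≠ ⊥) (hN2 : N ≠ ⊤) :
    (∀ x ∈ N, x ≠ 1 → centralizer ({x} : Set G) ≤ N) ∨ IsPrimePow (Nat.card N) ∨
      IsPrimePow N.index := by
  classical
  by_cases hcop : (Nat.card N).Coprime N.index
  · exact Or.inl fun x hx hx1 => centralizer_le h hcop hx hx1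
  obtain ⟨p, hp, hpN, hpi⟩ := Nat.Prime.not_coprime_iff_dvd.1 hcop
  haveI := Fact.mk hp
  refine Or.inr ((em (∃ q, q.Prime ∧ q ∣ N.index ∧ q ≠ p)).imp ?_ ?_)
  · rintro ⟨q, hq, hqi, hqp⟩
    obtain ⟨k, hk⟩ := IsPGroup.iff_card.1 (isPGroup_of_two_primes h hpN hpi hq hqp hqi)
    refine (isPrimePow_nat_iff _).2 ⟨p, k, hp, Nat.pos_of_ne_zero fun h0 => ?_, hk.symm⟩
    rw [h0, pow_zero] at hk
    exact hN1 (Subgroup.card_eq_one.1 hk)
  · intro hno
    push Not at hno
    have h1 := Nat.eq_prime_pow_of_unique_prime_dvd N.index_ne_zero_of_finite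
      (fun {d} hd hdi => hno d hd hdi)
    refine (isPrimePow_nat_iff _).2 ⟨p, _, hp, Nat.pos_of_ne_zero fun h0 => ?_, h1.symm⟩
    rw [h0, pow_zero] at h1
    exact hN2 (index_eq_one.1 h1)

end CfsgLib.HallClasses.Camina
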