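import Mathlib

/-!
Counting the conjugacy classes of `p`-elements: the bound coming from one `p'`-element that
normalises but does not centralise a `p`-subgroup containing the centre of a Sylow subgroup.
-/

namespace CfsgLib.HallClasses

variable {G : Type*} [Group G] [Finite G]

/-- If every element of `S` has at least `m` conjugates in `S`, then `S` meets at most
`|S| / m` conjugacy classes. -/
theorem mul_ncard_mk_image_le (S : Set G) (m : ℕ)
    (h : ∀ u ∈ S, m ≤ {v | v ∈ S ∧ IsConj u v}.ncard) :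
    m * (ConjClasses.mk '' S).ncard ≤ S.ncard := by
  classical
  have hS := S.toFinite
  rw [Set.ncard_eq_toFinset_card S hS,
    Set.ncard_eq_toFinset_card _ (S.toFinite.image _), Set.Finite.toFinset_image _ hS, mul_comm]
  rw [mul_comm]
  refine Finset.mul_card_image_le_card _ m ?_
  intro c hc
  obtain ⟨u, hu, rfl⟩ := Finset.mem_image.1 hc
  rw [Set.Finite.mem_toFinset] at hu
  refine (h u hu).trans ?_
  rw [← Set.ncard_coe_finset]
  refine Set.ncard_le_ncard ?_ (Finset.finite_toSet _)
  intro v hv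
  simp only [Finset.coe_filter, Set.Finite.mem_toFinset, Set.mem_setOf_eq]
  exact ⟨hv.1, ConjClasses.mk_eq_mk_iff_isConj.2 hv.2.symm⟩

/-- Number of classes of `p`-elements is at most the number of classes meeting a Sylow subgroup. -/
theorem card_pClasses_le_ncard_image {p : ℕ} [Fact p.Prime] (P : Sylow p G) :
    Nat.card {c : ConjClasses G // ∀ x ∈ c.carrier, ∃ k : ℕ, orderOf x = p ^ k} ≤
      (ConjClasses.mk '' ((P : Subgroup G) : Set G)).ncard := by
  rw [← Nat.card_coe_set_eq]
  refine Nat.card_le_card_of_injective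
    (fun c => (⟨c.1, ?_⟩ : {c // c ∈ ConjClasses.mk '' ((P : Subgroup G) : Set G)})) ?_
  · obtain ⟨x, hx⟩ := ConjClasses.exists_rep c.1
    obtain ⟨k, hk⟩ := c.2 x (ConjClasses.mem_carrier_iff_mk_eq.2 hx)
    have hp : IsPGroup p (Subgroup.zpowers x) :=
      IsPGroup.of_card (n := k) (by rw [Nat.card_zpowers, hk])
    obtain ⟨Q, hQ⟩ := hp.exists_le_sylow
    obtain ⟨g, hg⟩ := MulAction.exists_smul_eq G Q P
    refine ⟨g * x * g⁻¹, ?_, ?_⟩
    · rw [← hg, Sylow.coe_subgroup_smul]
      exact ⟨x, hQ (Subgroup.mem_zpowers x), rfl⟩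
    · rw [← hx, ConjClasses.mk_eq_mk_iff_isConj]
      exact (isConj_iff.2 ⟨g, rfl⟩).symm
  · intro a b hab
    simpa [Subtype.ext_iff] using hab

/-- Orbit of a noncentral element of a finite `p`-group inside the group has at least `p` members. -/
theorem le_ncard_conjugates_of_noncentral {p : ℕ} [Fact p.Prime] (P : Subgroup G)
    (hP : IsPGroup p P) (u : P) (hu : u ∉ Subgroup.center P) :
    p ≤ {v : G | ∃ g ∈ P, g * (u : G) * g⁻¹ = v}.ncard := by
  have hC : Subgroup.centralizer ({u} : Set P) ≠ ⊤ := by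
    intro htop
    apply hu
    rw [Subgroup.mem_center_iff]
    intro g
    exact Subgroup.mem_centralizer_singleton_iff.1 (htop.symm ▸ Subgroup.mem_top g)
  obtain ⟨n, hn⟩ := hP.index (Subgroup.centralizer ({u} : Set P))
  have hn0 : n ≠ 0 := by
    intro h0
    rw [h0, pow_zero, Subgroup.index_eq_one] at hn
    exact hC hn
  set C : Subgroup P := Subgroup.centralizer ({u} : Set P) with hCdef
  have hle : C.index ≤ {v : G | ∃ g ∈ P, g * (u : G) * g⁻¹ = v}.ncard := by
    rw [Subgroup.index_eq_card, ← Nat.card_coe_set_eq]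
    refine Nat.card_le_card_of_injective
      (fun q : P ⧸ C => (⟨((q.out : P) : G) * u * ((q.out : P) : G)⁻¹, _, q.out.2, rfl⟩ :
        {v : G | ∃ g ∈ P, g * (u : G) * g⁻¹ = v})) ?_
    intro a b hab
    have he : ((a.out : P) : G) * u * ((a.out : P) : G)⁻¹ =
        ((b.out : P) : G) * u * ((b.out : P) : G)⁻¹ := congrArg Subtype.val hab
    rw [← a.out_eq', ← b.out_eq']
    refine QuotientGroup.eq.2 (Subgroup.mem_centralizer_singleton_iff.2 (Subtype.ext ?_))
    push_cast
    calc ((a.out : P) : G)⁻¹ * ((b.out : P) : G) * u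
        = ((a.out : P) : G)⁻¹ * (((b.out : P) : G) * u * ((b.out : P) : G)⁻¹) *
            ((b.out : P) : G) := by group
      _ = (u : G) * (((a.out : P) : G)⁻¹ * ((b.out : P) : G)) := by rw [← he]; group
  refine le_trans ?_ hle
  rw [hn]
  calc p = p ^ 1 := (pow_one p).symm
    _ ≤ p ^ n := Nat.pow_le_pow_right (Fact.out : p.Prime).pos (Nat.one_le_iff_ne_zero.2 hn0)

/-- The counting inequality. `M` is a set of elements of the Sylow subgroup, each having at least
`m` conjugates in `M`. -/
theorem card_pClasses_count {p : ℕ} [Fact p.Prime] (P : Sylow p G) (M : Set G)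
    (hM : M ⊆ ((P : Subgroup G) : Set G)) (m : ℕ)
    (hm : ∀ u ∈ M, m ≤ {v | v ∈ M ∧ IsConj u v}.ncard) :
    ∃ z r : ℕ,
      z = (((Subgroup.center ↥(P : Subgroup G)).map (P : Subgroup G).subtype : Subgroup G) \ M :
        Set G).ncard ∧
      z + M.ncard + r = Nat.card (P : Subgroup G) ∧
      m * p * Nat.card {c : ConjClasses G // ∀ x ∈ c.carrier, ∃ k : ℕ, orderOf x = p ^ k} ≤
        p * M.ncard + m * p * z + m * r := by
  classical
  set Ps : Set G := ((P : Subgroup G) : Set G) with hPs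
  set Z : Subgroup G := (Subgroup.center ↥(P : Subgroup G)).map (P : Subgroup G).subtype with hZ
  have hZP : Z ≤ (P : Subgroup G) := Subgroup.map_subtype_le _
  set R : Set G := Ps \ (M ∪ Z) with hR
  set R' : Set G := {u | u ∈ R ∧ ConjClasses.mk u ∉ ConjClasses.mk '' M} with hR'
  refine ⟨((Z : Set G) \ M).ncard, R.ncard, rfl, ?_, ?_⟩
  · have hd1 : Disjoint ((Z : Set G) \ M) M := disjoint_sdiff_self_left
    have hd2 : Disjoint ((Z : Set G) \ M ∪ M) R := by
      rw [Set.disjoint_left]
      intro x hx hxR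
      rcases hx with hx | hx
      · exact hxR.2 (Or.inr hx.1)
      · exact hxR.2 (Or.inl hx)
    rw [← Set.ncard_union_eq hd1, ← Set.ncard_union_eq hd2,
      show Nat.card (P : Subgroup G) = Ps.ncard from Nat.card_coe_set_eq _]
    congr 1
    ext x
    simp only [hR, Set.mem_union, Set.mem_sdiff]
    constructor
    · rintro ((⟨h, -⟩ | h) | ⟨h, -⟩)
      exacts [hZP h, hM h, h]
    · tauto
  · have h1 : m * (ConjClasses.mk '' M).ncard ≤ M.ncard := mul_ncard_mk_image_le M m hm
    have h3 : p * (ConjClasses.mk '' R').ncard ≤ R'.ncard := by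
      refine mul_ncard_mk_image_le R' p ?_
      intro u hu
      have huP : u ∈ (P : Subgroup G) := hu.1.1
      have hnc : (⟨u, huP⟩ : ↥(P : Subgroup G)) ∉ Subgroup.center _ := fun h =>
        hu.1.2 (Or.inr ⟨_, h, rfl⟩)
      refine (le_ncard_conjugates_of_noncentral _ P.2 _ hnc).trans
        (Set.ncard_le_ncard ?_ (Set.toFinite _))
      rintro v ⟨g, hg, rfl⟩
      have hc : IsConj u (g * u * g⁻¹) := isConj_iff.2 ⟨g, rfl⟩
      have hmk : ConjClasses.mk (g * u * g⁻¹) = ConjClasses.mk u :=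
        (ConjClasses.mk_eq_mk_iff_isConj.2 hc).symm
      refine ⟨⟨⟨mul_mem (mul_mem hg huP) (inv_mem hg), ?_⟩, ?_⟩, hc⟩
      · rintro (h | h)
        · exact hu.2 ⟨_, h, hmk⟩
        · obtain ⟨w, hw, hwe⟩ := h
          have : (⟨u, huP⟩ : ↥(P : Subgroup G)) = w := by
            have hwg := Subgroup.mem_center_iff.1 hw ⟨g, hg⟩
            apply Subtype.ext
            have hwg' : g * (w : G) = (w : G) * g := congrArg Subtype.val hwg
            simp only [Subgroup.coe_subtype] at hwe
            have : g * u = g * (w : G) := by rw [hwg', hwe]; group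
            exact mul_left_cancel this
          exact hnc (this ▸ hw)
      · exact fun h => hu.2 (hmk ▸ h)
    have h3' : p * (ConjClasses.mk '' R').ncard ≤ R.ncard :=
      h3.trans (Set.ncard_le_ncard (fun _ h => h.1) (Set.toFinite _))
    have hk := card_pClasses_le_ncard_image P
    have hsub : ConjClasses.mk '' Ps ⊆
        ConjClasses.mk '' M ∪ ConjClasses.mk '' ((Z : Set G) \ M) ∪ ConjClasses.mk '' R' := by
      rintro c ⟨u, hu, rfl⟩
      by_cases hc : ConjClasses.mk u ∈ ConjClasses.mk '' M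
      · exact Or.inl (Or.inl hc)
      · have huM : u ∉ M := fun h => hc ⟨u, h, rfl⟩
        by_cases huZ : u ∈ (Z : Set G)
        · exact Or.inl (Or.inr ⟨u, ⟨huZ, huM⟩, rfl⟩)
        · exact Or.inr ⟨u, ⟨⟨hu, fun h => h.elim huM huZ⟩, hc⟩, rfl⟩
    have hsum := (hk.trans (Set.ncard_le_ncard hsub (Set.toFinite _))).trans
      ((Set.ncard_union_le _ _).trans (Nat.add_le_add_right (Set.ncard_union_le _ _) _))
    have h2 : (ConjClasses.mk '' ((Z : Set G) \ M)).ncard ≤ ((Z : Set G) \ M).ncard :=
      Set.ncard_image_le (Set.toFinite _)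
    have := Nat.mul_le_mul_left (m * p) hsum
    nlinarith [Nat.mul_le_mul_left (m * p) h2, Nat.mul_le_mul_left p h1, Nat.mul_le_mul_left m h3']

/-- The centre of a non-commutative `p`-group has index at least `p ^ 2`. -/
theorem sq_mul_card_center_le {p : ℕ} [Fact p.Prime] {P : Type*} [Group P] [Finite P]
    (hP : IsPGroup p P) (h : ¬ IsMulCommutative P) :
    p ^ 2 * Nat.card (Subgroup.center P) ≤ Nat.card P := by
  obtain ⟨n, hn⟩ := hP.index (Subgroup.center P)
  have hn2 : 2 ≤ n := by
    by_contra hlt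
    apply h
    have : IsCyclic (P ⧸ Subgroup.center P) := by
      interval_cases n
      · have : Nat.card (P ⧸ Subgroup.center P) = 1 := by
          rw [← Subgroup.index_eq_card]; simpa using hn
        have := (Nat.card_eq_one_iff_unique.1 this).1
        infer_instance
      · exact isCyclic_of_prime_card (p := p)
          (by rw [← Subgroup.index_eq_card]; simpa using hn)
    exact MonoidHom.isMulCommutative_of_isCyclic_of_ker_le_center
      (QuotientGroup.mk' (Subgroup.center P)) (by simp)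
  calc p ^ 2 * Nat.card (Subgroup.center P) ≤ p ^ n * Nat.card (Subgroup.center P) :=
        Nat.mul_le_mul_right _ (Nat.pow_le_pow_right (Fact.out : p.Prime).pos hn2)
    _ = Nat.card P := by rw [← hn, mul_comm, Subgroup.card_mul_index]

/-- A non-abelian Sylow subgroup leaves few classes of `p`-elements. -/
theorem card_pClasses_le_of_nonabelian {p : ℕ} [Fact p.Prime] (P : Sylow p G)
    (h : ¬ IsMulCommutative ↥(P : Subgroup G)) :
    p ^ 3 * Nat.card {c : ConjClasses G // ∀ x ∈ c.carrier, ∃ k : ℕ, orderOf x = p ^ k} ≤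
      (p ^ 2 + p - 1) * Nat.card (P : Subgroup G) := by
  obtain ⟨z, r, hz, hsum, hk⟩ := card_pClasses_count P ∅ (Set.empty_subset _) 1 (by simp)
  have hzc : z = Nat.card (Subgroup.center ↥(P : Subgroup G)) := by
    rw [hz, Set.sdiff_empty, Subgroup.coe_map,
      Set.ncard_image_of_injective _ (P : Subgroup G).subtype_injective, ← Nat.card_coe_set_eq]
    rfl
  have hb := sq_mul_card_center_le P.2 h
  simp only [Set.ncard_empty, one_mul, mul_zero, zero_add, add_zero] at hk hsum
  obtain ⟨q, hq⟩ : ∃ q, p = q + 1 := ⟨p - 1, by have := (Fact.out : p.Prime).pos; omega⟩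
  rw [← hzc] at hb
  generalize Nat.card {c : ConjClasses G // ∀ x ∈ c.carrier, ∃ k : ℕ, orderOf x = p ^ k} = k at hk ⊢
  generalize Nat.card (P : Subgroup G) = N at hb hsum ⊢
  subst hq
  have e : (q + 1) ^ 2 + (q + 1) - 1 = (q + 1) ^ 2 + q := by omega
  rw [e]
  nlinarith [Nat.mul_le_mul_left q hb, Nat.mul_le_mul_left ((q + 1) ^ 2) hk]

/-- The bound from an element normalising but not centralising a `p`-subgroup `Q` that contains
the centre of the Sylow subgroup, all of whose proper powers below `m` act like itself. -/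
theorem card_pClasses_le_of_action {p : ℕ} [Fact p.Prime] (P : Sylow p G) (Q : Subgroup G)
    (hQP : Q ≤ (P : Subgroup G))
    (hZQ : (Subgroup.center ↥(P : Subgroup G)).map (P : Subgroup G).subtype ≤ Q)
    (y : G) (hy : y ∈ Subgroup.normalizer (Q : Set G))
    (hyc : y ∉ Subgroup.centralizer (Q : Set G)) (hyp : (orderOf y).Coprime p) (m : ℕ)
    (hm : ∀ j : ℕ, 0 < j → j < m → (orderOf y).Coprime j) :
    ∃ c q : ℕ, p ^ 2 * c ≤ p * q ∧ (p = 2 → 4 * c ≤ q) ∧ q ≤ Nat.card (P : Subgroup G) ∧
      m * p * Nat.card {c : ConjClasses G // ∀ x ∈ c.carrier, ∃ k : ℕ, orderOf x = p ^ k} +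
          m * q + p * c ≤ m * Nat.card (P : Subgroup G) + p * q + m * p * c := by
  classical
  set C : Subgroup G := Q ⊓ Subgroup.centralizer ({y} : Set G) with hC
  have hCQ : C ≤ Q := inf_le_left
  set M : Set G := (Q : Set G) \ C with hMdef
  have hconj : ∀ (j : ℕ) (u : G), u ∈ Q → y ^ j * u * (y ^ j)⁻¹ ∈ Q := fun j u hu =>
    (Subgroup.mem_normalizer_iff.1 (pow_mem hy j) u).1 hu
  have hfix : ∀ (j : ℕ) (u : G), u ∈ Q → (orderOf y).Coprime j →
      y ^ j * u * (y ^ j)⁻¹ = u → u ∈ C := by
    intro j u hu hj he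
    refine ⟨hu, Subgroup.mem_centralizer_singleton_iff.2 ?_⟩
    obtain ⟨e, he'⟩ := exists_pow_eq_self_of_coprime hj.symm
    have hc : Commute (y ^ j) u := eq_mul_inv_iff_mul_eq.1 he.symm |>.symm
    rw [← he']
    exact (hc.pow_left e).eq.symm
  have hMconj : ∀ (j : ℕ) (u : G), u ∈ M → y ^ j * u * (y ^ j)⁻¹ ∈ M := by
    intro j u hu
    refine ⟨hconj j u hu.1, fun h => hu.2 ?_⟩
    have hc : Commute (y ^ j) (y ^ j * u * (y ^ j)⁻¹) :=
      (Commute.pow_left (Subgroup.mem_centralizer_singleton_iff.1 h.2).symm j)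
    have h2 := hc.eq
    have : y ^ j * u * (y ^ j)⁻¹ = u := by
      have h3 : y ^ j * (y ^ j * u * (y ^ j)⁻¹) = y ^ j * u := by rw [h2]; group
      exact mul_left_cancel h3
    exact this ▸ h
  have hm' : ∀ u ∈ M, m ≤ {v | v ∈ M ∧ IsConj u v}.ncard := by
    intro u hu
    have hinj : Set.InjOn (fun j => y ^ j * u * (y ^ j)⁻¹) (Set.Iio m) := by
      have main : ∀ i j : ℕ, i < j → j < m →
          y ^ i * u * (y ^ i)⁻¹ ≠ y ^ j * u * (y ^ j)⁻¹ := by
        intro i j hij hj he
        obtain ⟨d, rfl⟩ := Nat.exists_eq_add_of_le hij.le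
        refine hu.2 (hfix d u hu.1 (hm d (by omega) (by omega)) ?_)
        rw [pow_add] at he
        have : y ^ i * u * (y ^ i)⁻¹ = y ^ i * (y ^ d * u * (y ^ d)⁻¹) * (y ^ i)⁻¹ := by
          rw [he]; group
        exact (mul_left_cancel (mul_right_cancel this)).symm
      intro i hi j hj he
      rcases lt_trichotomy i j with h | h | h
      · exact absurd he (main i j h hj)
      · exact h
      · exact absurd he.symm (main j i h hi)
    calc m = ((fun j => y ^ j * u * (y ^ j)⁻¹) '' Set.Iio m).ncard := by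
          rw [Set.InjOn.ncard_image hinj, ← Finset.coe_Iio, Set.ncard_coe_finset, Nat.card_Iio]
      _ ≤ _ := Set.ncard_le_ncard (by
          rintro v ⟨j, -, rfl⟩
          exact ⟨hMconj j u hu, isConj_iff.2 ⟨_, rfl⟩⟩) (Set.toFinite _)
  obtain ⟨z, r, hz, hsum, hk⟩ := card_pClasses_count P M (fun u hu => hQP hu.1) m hm'
  have hCne : C ≠ Q := by
    intro h
    apply hyc
    intro u hu
    exact Subgroup.mem_centralizer_singleton_iff.1 ((h.ge hu : u ∈ C)).2
  have hQp : IsPGroup p Q := P.2.to_le hQP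
  obtain ⟨n, hn⟩ := hQp.index (C.subgroupOf Q)
  have hn0 : n ≠ 0 := by
    intro h0
    rw [h0, pow_zero] at hn
    exact hCne (le_antisymm hCQ (Subgroup.relIndex_eq_one.1 hn))
  have hcard : Nat.card C * p ^ n = Nat.card Q := by
    rw [← hn, ← Nat.card_congr (Subgroup.subgroupOfEquivOfLe hCQ).toEquiv,
      Subgroup.card_mul_index]
  refine ⟨Nat.card C, Nat.card Q, ?_, ?_, Subgroup.card_le_of_le hQP, ?_⟩
  · rw [← hcard]
    calc p ^ 2 * Nat.card C = p * (Nat.card C * p ^ 1) := by ring
      _ ≤ p * (Nat.card C * p ^ n) :=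
        Nat.mul_le_mul_left _ (Nat.mul_le_mul_left _
          (Nat.pow_le_pow_right (Fact.out : p.Prime).pos (Nat.one_le_iff_ne_zero.2 hn0)))
  · rintro rfl
    rw [← hcard]
    have hn2 : 2 ≤ n := by
      by_contra hlt
      have h1 : n = 1 := by omega
      rw [h1, pow_one] at hn
      obtain ⟨u, hu, huC⟩ : ∃ u ∈ Q, u ∉ C := SetLike.exists_of_lt (lt_of_le_of_ne hCQ hCne)
      set w : G := u⁻¹ * (y ^ 1 * u * (y ^ 1)⁻¹) with hw
      have hwQ : w ∈ Q := mul_mem (inv_mem hu) (hconj 1 u hu)
      have hwC : w ∈ C := by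
        have hnot : y ^ 1 * u * (y ^ 1)⁻¹ ∉ C := (hMconj 1 u ⟨hu, huC⟩).2
        have key := (Subgroup.mul_mem_iff_of_index_two hn (a := (⟨u, hu⟩ : Q)⁻¹)
          (b := ⟨_, hconj 1 u hu⟩)).2 (by
            simp only [inv_mem_iff, Subgroup.mem_subgroupOf]
            exact iff_of_false huC hnot)
        exact key
      have hwy : Commute y w := (Subgroup.mem_centralizer_singleton_iff.1 hwC.2).symm
      have hpow : ∀ j : ℕ, y ^ j * u * (y ^ j)⁻¹ = u * w ^ j := by
        intro j
        induction j with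
        | zero => simp
        | succ j ih =>
          have e1 : y * u * y⁻¹ = u * w := by rw [hw, pow_one]; group
          have hwj : y * w ^ j * y⁻¹ = w ^ j := by
            rw [(hwy.pow_right j).eq]; group
          calc y ^ (j + 1) * u * (y ^ (j + 1))⁻¹ = y * (y ^ j * u * (y ^ j)⁻¹) * y⁻¹ := by
                rw [pow_succ']; group
            _ = y * u * y⁻¹ * (y * w ^ j * y⁻¹) := by rw [ih]; group
            _ = u * w ^ (j + 1) := by rw [e1, hwj, pow_succ', mul_assoc]
      have h0 := hpow (orderOf y)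
      rw [pow_orderOf_eq_one, inv_one, mul_one, one_mul] at h0
      have h0' : w ^ orderOf y = 1 := (mul_left_cancel (a := u) (by rw [mul_one]; exact h0.symm))
      obtain ⟨k, hk2⟩ := IsPGroup.iff_orderOf.1 hQp ⟨w, hwQ⟩
      rw [Subgroup.orderOf_mk] at hk2
      have hw1 : w = 1 := by
        rw [← orderOf_eq_one_iff]
        exact Nat.Coprime.eq_one_of_dvd (hk2 ▸ (hyp.symm.pow_left k))
          (orderOf_dvd_of_pow_eq_one h0')
      apply huC
      refine ⟨hu, Subgroup.mem_centralizer_singleton_iff.2 ?_⟩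
      have := hpow 1
      rw [hw1, one_pow, mul_one, pow_one] at this
      calc u * y = y * u * y⁻¹ * y := by rw [this]
        _ = y * u := by group
    calc 4 * Nat.card C = Nat.card C * 2 ^ 2 := by ring
      _ ≤ Nat.card C * 2 ^ n := Nat.mul_le_mul_left _ (Nat.pow_le_pow_right two_pos hn2)
  · have hMcard : M.ncard + Nat.card C = Nat.card Q := by
      rw [show Nat.card C = (C : Set G).ncard from Nat.card_coe_set_eq _,
        show Nat.card Q = (Q : Set G).ncard from Nat.card_coe_set_eq _]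
      exact Set.ncard_sdiff_add_ncard_of_subset hCQ (Set.toFinite _)
    have hzc : z ≤ Nat.card C := by
      rw [hz, show Nat.card C = (C : Set G).ncard from Nat.card_coe_set_eq _]
      refine Set.ncard_le_ncard (fun u hu => ?_) (Set.toFinite _)
      by_contra hn'
      exact hu.2 ⟨hZQ hu.1, hn'⟩
    have hp1 := (Fact.out : p.Prime).one_lt
    generalize Nat.card {c : ConjClasses G // ∀ x ∈ c.carrier, ∃ k : ℕ, orderOf x = p ^ k} = k
      at hk ⊢
    obtain ⟨d, hd⟩ := Nat.exists_eq_add_of_le hzc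
    rw [← hsum, ← hMcard, hd]
    nlinarith [Nat.mul_le_mul_left (m * d) hp1.le]

end CfsgLib.HallClasses
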