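import Mathlib

/-!
Subgroups of a finite cyclic subgroup are ordered by divisibility of their orders.
-/

namespace CfsgLib.HallClasses

open Subgroup

theorem le_of_card_dvd_of_isCyclic {G : Type*} [Group G] [Finite G] {C H K : Subgroup G} [IsCyclic C]
    (hH : H ≤ C) (hK : K ≤ C) (h : Nat.card H ∣ Nat.card K) : H ≤ K := by
  classical
  haveI : Fintype C := Fintype.ofFinite C
  have hpos : 0 < Nat.card K := Nat.card_pos
  let s : Finset C := Finset.univ.filter fun x => (x : G) ∈ K
  let t : Finset C := Finset.univ.filter fun x => x ^ Nat.card K = 1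
  have hst : s ⊆ t := by
    intro x hx
    simp only [s, Finset.mem_filter, Finset.mem_univ, true_and] at hx
    simp only [t, Finset.mem_filter, Finset.mem_univ, true_and]
    have h1 : (⟨(x : G), hx⟩ : K) ^ Nat.card K = 1 := pow_card_eq_one'
    exact Subtype.ext (congrArg (fun u : K => (u : G)) h1)
  have hs : Nat.card K ≤ s.card := by
    rw [← Nat.card_eq_finsetCard]
    exact Nat.card_le_card_of_injective
      (fun x : K => (⟨⟨x, hK x.2⟩, by simp [s]⟩ : s)) fun x y hxy => Subtype.ext (by simpa using hxy)
  have heq : s = t := Finset.eq_of_subset_of_card_le hst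
    ((IsCyclic.card_pow_eq_one_le hpos).trans hs)
  intro x hx
  have h2 : (⟨x, hH hx⟩ : C) ∈ t := by
    simp only [t, Finset.mem_filter, Finset.mem_univ, true_and]
    obtain ⟨k, hk⟩ := h
    have h1 : (⟨x, hx⟩ : H) ^ Nat.card H = 1 := pow_card_eq_one'
    apply Subtype.ext
    have h3 : x ^ Nat.card H = 1 := congrArg (fun u : H => (u : G)) h1
    show x ^ Nat.card K = 1
    rw [hk, pow_mul, h3, one_pow]
  rw [← heq] at h2
  simpa [s] using h2

end CfsgLib.HallClasses
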