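import Mathlib

/-!
An element of prime order acting irreducibly on an elementary abelian normal subgroup of index `p`:
the subgroup has order `q ^ orderOf (q : ZMod p)`.
-/

namespace CfsgLib.HallClasses

open Subgroup

/-- A finite domain of characteristic `q` generated by a `p`-th root of unity has at most `q ^ d`
elements, `d` being the order of `q` modulo `p`. -/
theorem card_le_of_quotient {p q : ℕ} [Fact p.Prime] (hq : q.Prime) (hpq : q ≠ p)
    (I : Ideal (Polynomial ℤ)) [IsDomain (Polynomial ℤ ⧸ I)] [Finite (Polynomial ℤ ⧸ I)]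
    (hqI : (q : Polynomial ℤ) ∈ I) (hpI : Polynomial.X ^ p - 1 ∈ I) :
    Nat.card (Polynomial ℤ ⧸ I) ≤ q ^ orderOf (q : ZMod p) := by
  classical
  set R := Polynomial ℤ ⧸ I
  set π := Ideal.Quotient.mk I
  have hp : p.Prime := Fact.out
  haveI := Fact.mk hq
  haveI : CharP R q := by
    have h1 : ((q : ℕ) : R) = 0 := by
      rw [← map_natCast π]
      exact Ideal.Quotient.eq_zero_iff_mem.2 hqI
    haveI := ringChar.charP R
    exact ringChar.of_eq (((Nat.dvd_prime hq).1 (ringChar.dvd h1)).resolve_left CharP.ringChar_ne_one)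
  set d := orderOf (q : ZMod p) with hd
  have hq0 : (q : ZMod p) ≠ 0 := by
    rw [Ne, ZMod.natCast_eq_zero_iff]
    exact fun h => hpq ((Nat.prime_dvd_prime_iff_eq hp hq).1 h).symm
  have hdpos : 0 < d := by
    rw [hd, orderOf_pos_iff]
    exact isOfFinOrder_iff_pow_eq_one.2
      ⟨p - 1, Nat.sub_pos_of_lt hp.one_lt, ZMod.pow_card_sub_one_eq_one hq0⟩
  have hmod : q ^ d ≡ 1 [MOD p] := by
    rw [← ZMod.natCast_eq_natCast_iff, Nat.cast_pow, hd, pow_orderOf_eq_one, Nat.cast_one]
  have hXp : π Polynomial.X ^ p = 1 := by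
    rw [← map_pow, ← sub_eq_zero, ← map_one π, ← map_sub]
    exact Ideal.Quotient.eq_zero_iff_mem.2 hpI
  have hfix : ∀ r : R, iterateFrobenius R q d r = r := by
    have h : (iterateFrobenius R q d).comp π = π := by
      refine Polynomial.ringHom_ext (fun a => ?_) ?_
      · show iterateFrobenius R q d (π (Polynomial.C a)) = π (Polynomial.C a)
        rw [show (Polynomial.C a : Polynomial ℤ) = (a : Polynomial ℤ) from rfl, map_intCast, map_intCast]
      · show iterateFrobenius R q d (π Polynomial.X) = π Polynomial.X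
        rw [iterateFrobenius_def]
        obtain ⟨k, hk⟩ := (Nat.modEq_iff_dvd' (Nat.one_le_pow _ _ hq.pos)).1 hmod.symm
        have hk' : q ^ d = p * k + 1 := by
          have := Nat.one_le_pow d q hq.pos
          omega
        rw [hk', pow_succ, pow_mul, hXp, one_pow, one_mul]
    intro r
    obtain ⟨f, rfl⟩ := Ideal.Quotient.mk_surjective r
    exact RingHom.congr_fun h f
  haveI : Fintype R := Fintype.ofFinite R
  rw [Nat.card_eq_fintype_card]
  letI : Field R := IsField.toField (Finite.isField_of_domain R)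
  have h1 : (Finset.univ : Finset R) ⊆
      ((Polynomial.X ^ (q ^ d) - Polynomial.X : Polynomial R).roots.toFinset) := by
    intro r _
    rw [Multiset.mem_toFinset, Polynomial.mem_roots
      (FiniteField.X_pow_card_sub_X_ne_zero R (Nat.one_lt_pow hdpos.ne' hq.one_lt))]
    have := hfix r
    rw [iterateFrobenius_def] at this
    simp [this]
  refine le_trans (Finset.card_le_card h1) ((Multiset.toFinset_card_le _).trans
    ((Polynomial.card_roots' _).trans ?_))
  rw [FiniteField.X_pow_card_sub_X_natDegree_eq R (Nat.one_lt_pow hdpos.ne' hq.one_lt)]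

theorem card_irreducible_index_prime {G : Type*} [Group G] [Finite G] {p q : ℕ} [Fact p.Prime]
    (hq : q.Prime) (hpq : q ≠ p) (hna : ¬ IsMulCommutative G) (A : Subgroup G) [A.Normal]
    (hAc : IsMulCommutative A) (hAe : ∀ a ∈ A, a ^ q = 1) (hidx : A.index = p)
    (hmin : ∀ B : Subgroup G, B.Normal → B ≤ A → B = ⊥ ∨ B = A) :
    Nat.card A = q ^ orderOf (q : ZMod p) := by
  classical
  have hp : p.Prime := Fact.out
  have hcomm : ∀ a ∈ A, ∀ b ∈ A, a * b = b * a := fun a ha b hb =>
    congrArg (fun z : A => (z : G)) (hAc.is_comm.comm (⟨a, ha⟩ : A) ⟨b, hb⟩)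
  obtain ⟨c, hc⟩ : ∃ c, c ∉ A := by
    by_contra h
    push Not at h
    rw [(Subgroup.eq_top_iff' A).2 h, index_top] at hidx
    exact hp.ne_one hidx.symm
  have hgen : A ⊔ Subgroup.zpowers c = ⊤ := by
    have h1 : (A ⊔ zpowers c).index ∣ p := hidx ▸ index_dvd_of_le le_sup_left
    rcases (Nat.dvd_prime hp).1 h1 with h | h
    · exact index_eq_one.1 h
    · exfalso
      have h2 : (A ⊔ zpowers c).index * A.relIndex (A ⊔ zpowers c) = p := by
        rw [mul_comm, relIndex_mul_index le_sup_left, hidx]
      rw [h] at h2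
      exact hc ((relIndex_eq_one.1 (Nat.eq_of_mul_eq_mul_left hp.pos (h2.trans (mul_one p).symm)))
        ((le_sup_right : zpowers c ≤ A ⊔ zpowers c) (mem_zpowers c)))
  have hcp : c ^ p ∈ A := by
    have := pow_index_mem (H := A) c
    rwa [hidx] at this
  -- A set of elements of A invariant under c is a normal subgroup
  have hnormal : ∀ B : Subgroup G, B ≤ A → (∀ b ∈ B, c * b * c⁻¹ ∈ B) → B.Normal := by
    intro B hBA hB
    rw [← normalizer_eq_top_iff, eq_top_iff, ← hgen, sup_le_iff]
    refine ⟨fun a ha => ?_, zpowers_le.2 ?_⟩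
    · rw [mem_normalizer_iff]
      intro b
      refine ⟨fun hb => ?_, fun hb => ?_⟩
      · rwa [hcomm a ha b (hBA hb), mul_inv_cancel_right]
      · have h1 := hcomm _ (hBA hb) a ha
        rw [inv_mul_cancel_right] at h1
        have h2 : a * b = a * (a * b * a⁻¹) := h1
        exact mul_left_cancel h2 ▸ hb
    · rw [mem_normalizer_iff_map_conj_eq]
      refine Subgroup.eq_of_le_of_card_ge ?_ (card_map_of_injective (MulAut.conj c).injective).ge
      rintro _ ⟨b, hb, rfl⟩
      exact hB b hb
  obtain ⟨e, he⟩ : ∃ e, Nat.card A = q ^ e := by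
    haveI := Fact.mk hq
    exact IsPGroup.iff_card.1 (fun a => ⟨1, Subtype.ext (by simpa using hAe a a.2)⟩)
  have hAbot : A ≠ ⊥ := by
    intro h
    apply hna
    rw [h, index_bot] at hidx
    haveI := isCyclic_of_prime_card hidx
    exact IsCyclic.commutative
  -- conjugation by `c` as an endomorphism of the additive group
  let V := Additive A
  let φ : AddMonoid.End V :=
    MonoidHom.toAdditive (MulAut.conjNormal (H := A) c).toMonoidHom
  have hφ : ∀ a : A, ((Additive.toMul (φ (Additive.ofMul a)) : A) : G) = c * a * c⁻¹ := fun a =>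
    MulAut.conjNormal_apply c a
  let addcomm : AddCommGroup V :=
    { (inferInstance : AddGroup (Additive A)) with
      add_comm := fun a b => congrArg Additive.ofMul (hAc.is_comm.comm a.toMul b.toMul) }
  letI := addcomm
  set ev : Polynomial ℤ →+* AddMonoid.End V :=
    (Polynomial.aeval φ).toRingHom with hev
  have hevX : ev Polynomial.X = φ := Polynomial.aeval_X φ
  have hcommφ : ∀ f : Polynomial ℤ, ev f * φ = φ * ev f := fun f => by
    rw [← hevX, ← map_mul, ← map_mul, mul_comm]
  set I := RingHom.ker ev with hI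
  -- invariant kernels
  have hker : ∀ f : Polynomial ℤ, f ∉ I → Function.Injective (ev f) := by
    intro f hf
    let B : Subgroup G :=
      { carrier := {g | ∃ h : g ∈ A, ev f (Additive.ofMul ⟨g, h⟩) = 0}
        one_mem' := ⟨A.one_mem, map_zero (ev f)⟩
        mul_mem' := by
          rintro a b ⟨ha, ha'⟩ ⟨hb, hb'⟩
          refine ⟨A.mul_mem ha hb, ?_⟩
          have : (Additive.ofMul (⟨a * b, A.mul_mem ha hb⟩ : A)) =
            Additive.ofMul ⟨a, ha⟩ + Additive.ofMul ⟨b, hb⟩ := rfl
          rw [this, map_add, ha', hb', add_zero]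
        inv_mem' := by
          rintro a ⟨ha, ha'⟩
          refine ⟨A.inv_mem ha, ?_⟩
          have : (Additive.ofMul (⟨a⁻¹, A.inv_mem ha⟩ : A)) = -Additive.ofMul ⟨a, ha⟩ := rfl
          rw [this, map_neg, ha', neg_zero] }
    have hBA : B ≤ A := fun g hg => hg.1
    have hBn : B.Normal := hnormal B hBA (by
      rintro b ⟨hb, hb'⟩
      refine ⟨Normal.conj_mem inferInstance b hb c, ?_⟩
      have : (Additive.ofMul (⟨c * b * c⁻¹, Normal.conj_mem inferInstance b hb c⟩ : A)) =
          φ (Additive.ofMul ⟨b, hb⟩) := congrArg Additive.ofMul (Subtype.ext (hφ ⟨b, hb⟩).symm)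
      rw [this]
      have h2 := congrArg (fun g : AddMonoid.End V => g (Additive.ofMul ⟨b, hb⟩)) (hcommφ f)
      simp only [AddMonoid.End.coe_mul, Function.comp_apply] at h2
      rw [h2, hb', map_zero])
    rcases hmin B hBn hBA with hB | hB
    · refine (injective_iff_map_eq_zero (ev f)).2 fun v hv => ?_
      have : ((Additive.toMul v : A) : G) ∈ B := ⟨(Additive.toMul v).2, hv⟩
      rw [hB, Subgroup.mem_bot] at this
      exact congrArg Additive.ofMul (Subtype.ext this : Additive.toMul v = 1)
    · exfalso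
      apply hf
      rw [hI, RingHom.mem_ker]
      apply AddMonoidHom.ext
      intro v
      obtain ⟨_, hv⟩ : ((Additive.toMul v : A) : G) ∈ B := hB.symm ▸ (Additive.toMul v).2
      exact hv
  obtain ⟨a, ha, ha1⟩ := (Subgroup.bot_or_exists_ne_one A).resolve_left hAbot
  haveI hIprime : I.IsPrime := by
    refine ⟨fun h => ?_, fun {x y} hxy => ?_⟩
    · have h1 : (1 : Polynomial ℤ) ∈ I := h ▸ Submodule.mem_top
      rw [hI, RingHom.mem_ker, map_one] at h1
      have h2 := congrArg (fun g : AddMonoid.End V => g (Additive.ofMul ⟨a, ha⟩)) h1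
      exact ha1 (congrArg (fun z : V => ((Additive.toMul z : A) : G)) h2)
    · by_cases hx : x ∈ I
      · exact Or.inl hx
      refine Or.inr ?_
      rw [hI, RingHom.mem_ker, map_mul] at hxy
      rw [hI, RingHom.mem_ker]
      refine AddMonoidHom.ext fun v => hker x hx ?_
      exact (congrArg (fun g : AddMonoid.End V => g v) hxy).trans (map_zero (ev x)).symm
  haveI := Fact.mk hq
  haveI : Finite (Polynomial ℤ ⧸ I) :=
    Finite.of_injective (fun r => ((RingHom.kerLift ev r : AddMonoid.End V) : V → V))
      (fun x y h => RingHom.kerLift_injective ev (DFunLike.coe_injective h))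
  have hqI : (q : Polynomial ℤ) ∈ I := by
    rw [hI, RingHom.mem_ker, map_natCast]
    apply AddMonoidHom.ext
    intro v
    show ((q : ℕ) : AddMonoid.End V) v = 0
    rw [AddMonoid.End.natCast_apply]
    exact congrArg Additive.ofMul (Subtype.ext (hAe _ (Additive.toMul v).2) :
      (Additive.toMul v) ^ q = 1)
  have hpI : Polynomial.X ^ p - 1 ∈ I := by
    rw [hI, RingHom.mem_ker, map_sub, map_pow, map_one, hevX, sub_eq_zero]
    have hiter : ∀ (n : ℕ) (a : A), ((Additive.toMul ((φ ^ n) (Additive.ofMul a)) : A) : G) =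
        c ^ n * a * (c ^ n)⁻¹ := by
      intro n
      induction n with
      | zero => intro a; simp
      | succ n ih =>
        intro a
        rw [pow_succ', AddMonoid.End.coe_mul, Function.comp_apply]
        have h1 := hφ (Additive.toMul ((φ ^ n) (Additive.ofMul a)))
        rw [ofMul_toMul] at h1
        rw [h1, ih a, pow_succ']
        group
    apply AddMonoidHom.ext
    intro v
    have h1 := hiter p (Additive.toMul v)
    rw [ofMul_toMul, hcomm _ hcp _ (Additive.toMul v).2, mul_inv_cancel_right] at h1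
    exact congrArg Additive.ofMul (Subtype.ext h1 : Additive.toMul ((φ ^ p) v) = Additive.toMul v)
  have hRle : Nat.card (Polynomial ℤ ⧸ I) ≤ q ^ orderOf (q : ZMod p) :=
    card_le_of_quotient hq hpq I hqI hpI
  -- the orbit map is onto
  have hAle : Nat.card A ≤ Nat.card (Polynomial ℤ ⧸ I) := by
    let v : V := Additive.ofMul ⟨a, ha⟩
    let B : Subgroup G :=
      { carrier := {g | ∃ h : g ∈ A, ∃ r : Polynomial ℤ, ev r v = Additive.ofMul ⟨g, h⟩}
        one_mem' := ⟨A.one_mem, 0, by rw [map_zero]; rfl⟩
        mul_mem' := by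
          rintro x y ⟨hx, r, hr⟩ ⟨hy, s, hs⟩
          refine ⟨A.mul_mem hx hy, r + s, ?_⟩
          rw [map_add]
          show ev r v + ev s v = _
          rw [hr, hs]; rfl
        inv_mem' := by
          rintro x ⟨hx, r, hr⟩
          refine ⟨A.inv_mem hx, -r, ?_⟩
          rw [map_neg]
          show -(ev r v) = _
          rw [hr]; rfl }
    have hBn : B.Normal := hnormal B (fun g hg => hg.1) (by
      rintro b ⟨hb, r, hr⟩
      refine ⟨Normal.conj_mem inferInstance b hb c, Polynomial.X * r, ?_⟩
      rw [map_mul, hevX]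
      show φ (ev r v) = _
      rw [hr]
      exact congrArg Additive.ofMul (Subtype.ext (hφ ⟨b, hb⟩)))
    have hBtop : B = A := (hmin B hBn (fun g hg => hg.1)).resolve_left fun hB => by
      have : a ∈ B := ⟨ha, 1, by rw [map_one]; rfl⟩
      rw [hB, Subgroup.mem_bot] at this
      exact ha1 this
    refine Nat.card_le_card_of_surjective
      (fun r : Polynomial ℤ ⧸ I => (Additive.toMul (RingHom.kerLift ev r v) : A)) ?_
    intro x
    obtain ⟨_, r, hr⟩ : (x : G) ∈ B := hBtop.symm ▸ x.2
    exact ⟨Ideal.Quotient.mk I r, congrArg Additive.toMul hr⟩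
  set d := orderOf (q : ZMod p) with hd
  -- the fixed points are trivial, so p divides q ^ e - 1
  have hde : d ∣ e := by
    have hP : IsPGroup p (Subgroup.zpowers (MulAut.conjNormal (H := A) c)) := by
      obtain ⟨j, -, hj⟩ := (Nat.dvd_prime_pow hp).1 (show orderOf (MulAut.conjNormal (H := A) c) ∣ p ^ 1 by
        rw [pow_one]
        refine orderOf_dvd_of_pow_eq_one ?_
        rw [← map_pow]
        ext x
        rw [MulAut.conjNormal_apply, hcomm _ hcp x x.2, mul_inv_cancel_right]
        rfl)
      exact IsPGroup.of_card (n := j) (by rw [Nat.card_zpowers, hj])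
    have hfp := hP.card_modEq_card_fixedPoints A
    have h1 : Nat.card (MulAction.fixedPoints (Subgroup.zpowers (MulAut.conjNormal (H := A) c)) A) = 1 := by
      rw [Nat.card_eq_one_iff_unique]
      refine ⟨⟨fun x y => ?_⟩, ⟨⟨1, fun g => smul_one g.1⟩⟩⟩
      have key : ∀ z : MulAction.fixedPoints (Subgroup.zpowers (MulAut.conjNormal (H := A) c)) A,
          (z : A) = 1 := by
        intro z
        let C := A ⊓ Subgroup.centralizer ({c} : Set G)
        have hCn : C.Normal := hnormal C inf_le_left (by
          rintro b ⟨hb, hbc⟩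
          rw [← Subgroup.mem_centralizer_singleton_iff.1 hbc, mul_inv_cancel_right]
          exact ⟨hb, hbc⟩)
        have hzC : ((z : A) : G) ∈ C := by
          refine ⟨(z : A).2, mem_centralizer_singleton_iff.2 ?_⟩
          have h2 : ((MulAut.conjNormal (H := A) c) (z : A) : G) = (z : A) :=
            congrArg Subtype.val (z.2 ⟨_, mem_zpowers _⟩)
          rw [MulAut.conjNormal_apply, mul_inv_eq_iff_eq_mul] at h2
          exact h2.symm
        rcases hmin C hCn inf_le_left with h | h
        · rw [h, Subgroup.mem_bot] at hzC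
          exact Subtype.ext hzC
        · exfalso
          apply hna
          refine ⟨⟨fun u w => ?_⟩⟩
          have hAC : ∀ x ∈ A, Commute x c := fun x hx =>
            mem_centralizer_singleton_iff.1 (h.ge hx).2
          have hmem : ∀ u : G, ∃ a ∈ A, ∃ k : ℤ, a * c ^ k = u := fun u => by
            obtain ⟨a, ha, z, hz, rfl⟩ := mem_sup_of_normal_left.1
              (hgen.symm ▸ Subgroup.mem_top u : u ∈ A ⊔ zpowers c)
            obtain ⟨k, rfl⟩ := mem_zpowers_iff.1 hz
            exact ⟨a, ha, k, rfl⟩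
          obtain ⟨a₁, h1, k, rfl⟩ := hmem u
          obtain ⟨a₂, h2, l, rfl⟩ := hmem w
          exact (((show Commute a₁ a₂ from hcomm a₁ h1 a₂ h2).mul_right ((hAC a₁ h1).zpow_right l)).mul_left
            (((hAC a₂ h2).symm.zpow_left k).mul_right ((Commute.refl c).zpow_zpow k l))).eq
      exact Subtype.ext ((key x).trans (key y).symm)
    rw [h1, he, ← ZMod.natCast_eq_natCast_iff, Nat.cast_pow, Nat.cast_one] at hfp
    exact orderOf_dvd_of_pow_eq_one hfp
  rw [he]
  congr 1
  refine le_antisymm ((Nat.pow_le_pow_iff_right hq.one_lt).1 (he ▸ hAle.trans hRle)) ?_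
  rcases Nat.eq_zero_or_pos e with h0 | h0
  · exact absurd (Subgroup.card_eq_one.1 (he.trans (by rw [h0, pow_zero]))) hAbot
  · exact Nat.le_of_dvd h0 hde

end CfsgLib.HallClasses
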