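import Cfsg.Agent.Lib.HallClasses.MinimalNonClosed
import Cfsg.Agent.Lib.ClassicalLinear.Card
import Cfsg.Agent.Lib.ClassicalLinear.Simple
import Mathlib.GroupTheory.SemidirectProduct
import Mathlib.FieldTheory.Finite.GaloisField

/-!
The least order of a finite group whose Sylow `p`-subgroups are not normal, modulo a bound for
simple groups.
-/

set_option autoImplicit false
set_option linter.style.haveILetI false
set_option linter.unusedSectionVars false

namespace CfsgLib.HallClasses.LeastNonClosed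

open Subgroup Matrix

/-- The bound needed for simple groups. -/
def SimpleBound (p : ℕ) : Prop :=
  ∀ (G : Type) [Group G] [Finite G], IsSimpleGroup G → ¬ IsMulCommutative G → p ∣ Nat.card G →
    p * (p ^ 2 - 1) / 2 ≤ Nat.card G

theorem simpleBound_of_small {p : ℕ} [Fact p.Prime]
    (hBR : ∀ (G : Type) [Group G] [Finite G] [IsSimpleGroup G], ¬ IsCyclic G → p ∣ Nat.card G →
      Nat.card G < p ^ 3 →
      (∃ (F : Type) (_ : Field F) (_ : Fintype F), Fintype.card F = p ∧ 3 < p ∧
          Nonempty (G ≃* ProjectiveSpecialLinearGroup (Fin 2) F)) ∨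
        (∃ (m : ℕ) (F : Type) (_ : Field F) (_ : Fintype F), Fintype.card F = 2 ^ m ∧
          p = 2 ^ m + 1 ∧ 3 < p ∧ Nonempty (G ≃* ProjectiveSpecialLinearGroup (Fin 2) F))) :
    SimpleBound p := by
  intro G _ _ hs hnc hdvd
  by_contra hlt
  push Not at hlt
  have hcyc : ¬ IsCyclic G := fun h => hnc inferInstance
  have hbig : Nat.card G < p ^ 3 := by
    refine hlt.trans_le ((Nat.div_le_self _ _).trans ?_)
    rw [pow_succ' p 2]
    exact Nat.mul_le_mul_left _ (Nat.sub_le _ _)
  rcases hBR G hcyc hdvd hbig with ⟨F, _, _, hF, h3, ⟨e⟩⟩ | ⟨m, F, _, _, hF, hpm, h3, ⟨e⟩⟩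
  · have hodd : Odd p := Nat.Prime.odd_of_ne_two Fact.out (by omega)
    have h := CfsgLib.ClassicalLinear.card_PSL_two_of_odd hF hodd
    rw [← Nat.card_congr e.toEquiv] at h
    rw [← h, Nat.mul_div_cancel_left _ (by norm_num)] at hlt
    exact lt_irrefl _ hlt
  · have hm : m ≠ 0 := by
      rintro rfl
      simp only [pow_zero] at hpm
      omega
    have heven : Even (2 ^ m) := (Nat.even_pow).2 ⟨even_two, hm⟩
    have h := CfsgLib.ClassicalLinear.card_PSL_two_of_even hF heven
    rw [← Nat.card_congr e.toEquiv] at h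
    have hp5 : 5 ≤ p := by
      rcases Nat.Prime.eq_two_or_odd (Fact.out : p.Prime) with h2 | h2
      · omega
      · omega
    obtain ⟨t, ht⟩ : ∃ t, p = t + 5 := ⟨p - 5, by omega⟩
    have hq : 2 ^ m = t + 4 := by omega
    rw [h, hq, ht] at hlt
    have h1 : (t + 4) ^ 2 - 1 = (t + 3) * (t + 5) := by
      rw [show (t + 4) ^ 2 = (t + 3) * (t + 5) + 1 by ring]
      omega
    have h2 : (t + 5) ^ 2 - 1 = (t + 4) * (t + 6) := by
      rw [show (t + 5) ^ 2 = (t + 4) * (t + 6) + 1 by ring]
      omega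
    rw [h1, h2] at hlt
    have h5 := Nat.div_mul_le_self ((t + 5) * ((t + 4) * (t + 6))) 2
    nlinarith [Nat.mul_le_mul_left ((t + 4) * (t + 5)) (show t + 6 ≤ 2 * (t + 3) by omega)]

/-- The lower bound. -/
theorem le_card_of_not_isPClosed {p m : ℕ} [Fact p.Prime]
    (hleast : ∀ k : ℕ, IsPrimePow k → k % p = 1 → m ≤ k) (hsimp : SimpleBound p) :
    ∀ (n : ℕ) (H : Type) [Group H] [Finite H], Nat.card H = n → ¬ Cfsg.IsPClosed p H →
      min (p * m) (p * (p ^ 2 - 1) / 2) ≤ n := by
  have hp : p.Prime := Fact.out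
  intro n
  induction n using Nat.strong_induction_on with
  | _ n ih =>
  intro H _ _ hn hH
  subst hn
  by_contra hlt
  push Not at hlt
  have hdvd : p ∣ Nat.card H := by_contra fun h => hH (isPClosed_of_not_dvd h)
  obtain ⟨P, hP⟩ : ∃ P : Sylow p H, ¬ (P : Subgroup H).Normal := by
    unfold Cfsg.IsPClosed at hH
    push Not at hH
    exact hH
  haveI : Nontrivial H := Finite.one_lt_card_iff_nontrivial.1
    (hp.one_lt.trans_le (Nat.le_of_dvd Nat.card_pos hdvd))
  by_cases hsim : IsSimpleGroup H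
  · refine not_le.2 hlt ((min_le_right _ _).trans (hsimp H hsim (fun hc => hP ?_) hdvd))
    exact ⟨fun x hx g => by rwa [hc.is_comm.comm g x, mul_inv_cancel_right]⟩
  obtain ⟨N, hN, hNb, hNt⟩ : ∃ N : Subgroup H, N.Normal ∧ N ≠ ⊥ ∧ N ≠ ⊤ := by
    by_contra hcon
    push Not at hcon
    exact hsim ⟨fun N hN => or_iff_not_imp_left.2 fun hb => hcon N hN hb⟩
  haveI := hN
  have hlow : ∀ (K : Type) [Group K] [Finite K], Nat.card K < Nat.card H → Cfsg.IsPClosed p K :=
    fun K _ _ hK => by_contra fun hcl => not_le.2 (hK.trans hlt) (ih _ hK K rfl hcl)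
  -- replace `N` by a minimal normal subgroup
  obtain ⟨A, hA, hAb, hAN, hmin⟩ := exists_minimal_normal_le N hNb
  haveI := hA
  have hAt : A ≠ ⊤ := fun e => hNt (top_le_iff.1 (e ▸ hAN))
  have hAlt : Nat.card A < Nat.card H :=
    lt_of_le_of_ne (card_le_card_group _) fun e => hAt (eq_top_of_card_eq _ e)
  have hQAlt : Nat.card (H ⧸ A) < Nat.card H := by
    rw [← Subgroup.index_eq_card, ← A.card_mul_index]
    exact lt_mul_of_one_lt_left (Nat.pos_of_ne_zero A.index_ne_zero_of_finite)
      (A.one_lt_card_iff_ne_bot.2 hAb)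
  have hPAn : ((P : Subgroup H) ⊔ A).Normal := by
    have h1 : ((P : Subgroup H).map (QuotientGroup.mk' A)).Normal :=
      hlow _ hQAlt (P.mapSurjective (QuotientGroup.mk'_surjective A))
    have h2 := h1.comap (QuotientGroup.mk' A)
    rwa [comap_map_eq, QuotientGroup.ker_mk'] at h2
  have htopA : (P : Subgroup H) ⊔ A = ⊤ := by
    by_contra hne
    haveI := hPAn
    have hcl := hlow ↥((P : Subgroup H) ⊔ A)
      (lt_of_le_of_ne (card_le_card_group _) fun e => hne (eq_top_of_card_eq _ e))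
    haveI := hcl (P.subtype le_sup_left)
    haveI := Sylow.characteristic_of_normal (P.subtype (N := (P : Subgroup H) ⊔ A) le_sup_left) inferInstance
    refine hP ?_
    have hn' : (((P.subtype le_sup_left : Sylow p ↥((P : Subgroup H) ⊔ A)) : Subgroup _).map
        ((P : Subgroup H) ⊔ A).subtype).Normal := inferInstance
    rwa [show ((P.subtype le_sup_left : Sylow p ↥((P : Subgroup H) ⊔ A)) : Subgroup _).map
        ((P : Subgroup H) ⊔ A).subtype = (P : Subgroup H) from
          map_subgroupOf_eq_of_le le_sup_left] at hn'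
  -- `A` is a `p'`-group
  obtain ⟨T⟩ := (inferInstance : Nonempty (Sylow p A))
  haveI := hlow A hAlt T
  haveI := Sylow.characteristic_of_normal T inferInstance
  have hpA : ¬ p ∣ Nat.card A := fun hd => by
    rcases hmin ((T : Subgroup A).map A.subtype) inferInstance (map_subtype_le _) with h | h
    · exact T.ne_bot_of_dvd_card hd ((map_eq_bot_iff_of_injective _ A.subtype_injective).1 h)
    · refine hP ?_
      have hAp : IsPGroup p A := T.2.to_le (le_of_eq (Subgroup.map_injective A.subtype_injective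
        (by rw [h, ← MonoidHom.range_eq_map, range_subtype])).symm) |>.of_equiv topEquiv
      have hPtop : (P : Subgroup H) = ⊤ := by
        rw [← htopA]
        exact (P.is_maximal' (P.2.to_sup_of_normal_right hAp) le_sup_left).symm
      rw [hPtop]; infer_instance
  -- `P` does not centralise `A`
  have hnc : ¬ A ≤ centralizer ((P : Subgroup H) : Set H) := by
    intro hle
    refine hP (normalizer_eq_top_iff.1 (top_le_iff.1 ?_))
    rw [← htopA]
    exact sup_le le_normalizer (hle.trans (centralizer_le_normalizer _))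
  obtain ⟨q, Q, hq, hqp, -, hQ, hQA, hPQ, hQc⟩ := exists_invariant_not_centralized P.2 hpA hnc
  haveI := Fact.mk hq
  -- fixed points
  obtain ⟨a, ha⟩ := IsPGroup.iff_card.1 hQ
  obtain ⟨b, hb⟩ := IsPGroup.iff_card.1
    (hQ.to_inf_left (K := centralizer ((P : Subgroup H) : Set H)))
  letI act : MulAction (P : Subgroup H) Q :=
    { smul := fun g x => ⟨(g : H) * x * (g : H)⁻¹, (mem_normalizer_iff.1 (hPQ g.2) x).1 x.2⟩
      one_smul := fun x => Subtype.ext (by show (1 : H) * x * (1 : H)⁻¹ = x; simp)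
      mul_smul := fun g g' x => Subtype.ext (by
        show (g : H) * g' * x * ((g : H) * g')⁻¹ = g * (g' * x * (g' : H)⁻¹) * (g : H)⁻¹
        group) }
  have hfix : Nat.card (MulAction.fixedPoints (P : Subgroup H) Q) =
      Nat.card ↥(Q ⊓ centralizer ((P : Subgroup H) : Set H)) := by
    refine Nat.card_congr ⟨fun x => ⟨x.1, x.1.2, mem_centralizer_iff.2 fun g hg => ?_⟩,
      fun x => ⟨⟨x.1, x.2.1⟩, fun g => Subtype.ext ?_⟩, fun _ => rfl, fun _ => rfl⟩
    · exact mul_inv_eq_iff_eq_mul.1 (congrArg Subtype.val (x.2 ⟨g, hg⟩) :)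
    · show (g : H) * x.1 * (g : H)⁻¹ = x.1
      rw [mem_centralizer_iff.1 x.2.2 g g.2, mul_inv_cancel_right]
  have hmod := P.2.card_modEq_card_fixedPoints Q
  rw [hfix, ha, hb] at hmod
  have hba : b < a := by
    by_contra hle
    push Not at hle
    refine hQc fun x hx => ((eq_of_le_of_card_ge (inf_le_left :
      Q ⊓ centralizer ((P : Subgroup H) : Set H) ≤ Q) ?_).ge hx).2
    rw [ha, hb]
    exact Nat.pow_le_pow_right hq.pos hle
  have hk : q ^ (a - b) % p = 1 := by
    have h2 : q ^ (a - b) * q ^ b ≡ 1 * q ^ b [MOD p] := by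
      rw [one_mul, ← pow_add, Nat.sub_add_cancel hba.le]; exact hmod
    have h3 := Nat.ModEq.cancel_right_of_coprime
      (Nat.Coprime.pow_right b ((Nat.coprime_primes hp hq).2 hqp.symm)) h2
    exact (show q ^ (a - b) % p = 1 % p from h3).trans (Nat.one_mod_eq_one.2 hp.ne_one)
  have hmle : m ≤ Nat.card A :=
    (hleast _ (hq.isPrimePow.pow (by omega)) hk).trans
      ((Nat.pow_le_pow_right hq.pos (Nat.sub_le a b)).trans
        (ha ▸ Nat.le_of_dvd Nat.card_pos (card_dvd_of_le hQA)))
  have hdis : (P : Subgroup H) ⊓ A = ⊥ := by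
    obtain ⟨e, he⟩ := IsPGroup.iff_card.1 P.2
    exact disjoint_iff.1 <| disjoint_of_coprime_natCard (by rw [he]; exact Nat.Coprime.pow_left e (hp.coprime_iff_not_dvd.2 hpA))
  have hcard : Nat.card (P : Subgroup H) * Nat.card A ≤ Nat.card H := by
    rw [← Nat.card_prod]
    exact Nat.card_le_card_of_injective _ (mul_injective_of_disjoint (disjoint_iff.2 hdis))
  have hpP : p ≤ Nat.card (P : Subgroup H) :=
    Nat.le_of_dvd Nat.card_pos (P.dvd_card_of_dvd_card hdvd)
  exact not_le.2 hlt ((min_le_left _ _).trans ((Nat.mul_le_mul hpP hmle).trans hcard))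

/-- An affine group of order `p m` which is not `p`-closed. -/
theorem exists_affine (p m : ℕ) [Fact p.Prime] (hm : IsPrimePow m) (hm1 : m % p = 1) :
    ∃ (H : Type) (_ : Group H) (_ : Finite H), Nat.card H = p * m ∧ ¬ Cfsg.IsPClosed p H := by
  have hp : p.Prime := Fact.out
  obtain ⟨q, k, hq, hk, rfl⟩ := (isPrimePow_nat_iff m).1 hm
  haveI := Fact.mk hq
  let F := GaloisField q k
  have hF : Nat.card F = q ^ k := GaloisField.card q k hk.ne'
  haveI : Finite F := Nat.finite_of_card_ne_zero (by rw [hF]; exact pow_ne_zero _ hq.ne_zero)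
  haveI := Fintype.ofFinite F
  have hdvd : p ∣ Nat.card Fˣ := by
    rw [Nat.card_units, hF]
    exact (Nat.modEq_iff_dvd' (Nat.one_le_pow _ _ hq.pos)).1 (show 1 % p = q ^ k % p by
      rw [hm1, Nat.one_mod_eq_one.2 hp.ne_one])
  obtain ⟨ζ, hζ⟩ := exists_prime_orderOf_dvd_card' p hdvd
  let φ : Subgroup.zpowers ζ →* MulAut (Multiplicative F) :=
    { toFun := fun u =>
        { toFun := fun x => Multiplicative.ofAdd (((u : Fˣ) : F) * x.toAdd)
          invFun := fun x => Multiplicative.ofAdd ((((u : Fˣ)⁻¹ : Fˣ) : F) * x.toAdd)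
          left_inv := fun x => Multiplicative.toAdd.injective (by simp)
          right_inv := fun x => Multiplicative.toAdd.injective (by simp)
          map_mul' := fun x y => Multiplicative.toAdd.injective (by simp [mul_add]) }
      map_one' := MulEquiv.ext fun x => Multiplicative.toAdd.injective (by simp)
      map_mul' := fun u v => MulEquiv.ext fun x => Multiplicative.toAdd.injective (by
        simp [mul_assoc]) }
  haveI : Finite (Multiplicative F ⋊[φ] Subgroup.zpowers ζ) :=
    Finite.of_equiv _ SemidirectProduct.equivProd.symm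
  refine ⟨Multiplicative F ⋊[φ] Subgroup.zpowers ζ, inferInstance, inferInstance, ?_, fun hcl => ?_⟩
  · rw [SemidirectProduct.card, Nat.card_zpowers, hζ,
      Nat.card_congr Multiplicative.toAdd, hF, mul_comm]
  set u : Subgroup.zpowers ζ := ⟨ζ, Subgroup.mem_zpowers ζ⟩
  set b : Multiplicative F ⋊[φ] Subgroup.zpowers ζ := SemidirectProduct.inr u
  set a : Multiplicative F ⋊[φ] Subgroup.zpowers ζ := SemidirectProduct.inl (Multiplicative.ofAdd 1)
  have hbp : b ^ p = 1 := by
    rw [← map_pow, show u ^ p = 1 from Subtype.ext (by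
      rw [SubmonoidClass.coe_pow]
      exact (congrArg (ζ ^ ·) hζ.symm).trans (pow_orderOf_eq_one ζ)), map_one]
  obtain ⟨P, hP⟩ := (IsPGroup.of_card_dvd_pow (G := Subgroup.zpowers b) (p := p) (n := 1) (by
    rw [Nat.card_zpowers, pow_one]; exact orderOf_dvd_of_pow_eq_one hbp)).exists_le_sylow
  have hN : (SemidirectProduct.rightHom : Multiplicative F ⋊[φ] Subgroup.zpowers ζ →* _).ker.Normal :=
    inferInstance
  have hdis : Disjoint (P : Subgroup (Multiplicative F ⋊[φ] Subgroup.zpowers ζ))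
      (SemidirectProduct.rightHom : Multiplicative F ⋊[φ] Subgroup.zpowers ζ →* _).ker := by
    refine disjoint_of_coprime_natCard ?_
    rw [← SemidirectProduct.range_inl_eq_ker_rightHom,
      ← Nat.card_congr (MonoidHom.ofInjective SemidirectProduct.inl_injective).toEquiv,
      Nat.card_congr Multiplicative.toAdd, hF]
    obtain ⟨e, he⟩ := IsPGroup.iff_card.1 P.2
    rw [he]
    refine Nat.Coprime.pow _ _ ((Nat.coprime_primes hp hq).2 ?_)
    rintro rfl
    rw [Nat.pow_mod, Nat.mod_self, zero_pow hk.ne', Nat.zero_mod] at hm1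
    exact zero_ne_one hm1
  have hcomm := Subgroup.commute_of_normal_of_disjoint _ _ (hcl P) hN hdis b a
    (hP (Subgroup.mem_zpowers b)) (MonoidHom.mem_ker.2 (SemidirectProduct.rightHom_inl _))
  have h1 := congrArg SemidirectProduct.left hcomm.eq
  have h2 := congrArg Multiplicative.toAdd h1
  simp [a, b, u, φ] at h2
  have h3 : ζ = 1 := Units.ext (by simpa using h2)
  rw [h3, orderOf_one] at hζ
  exact hp.ne_one hζ.symm

/-- `PSL₂(p)` is not `p`-closed. -/
theorem exists_psl {p : ℕ} [Fact p.Prime] (h5 : 5 ≤ p) :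
    ∃ (H : Type) (_ : Group H) (_ : Finite H),
      Nat.card H = p * (p ^ 2 - 1) / 2 ∧ ¬ Cfsg.IsPClosed p H := by
  have hp : p.Prime := Fact.out
  have hcard := CfsgLib.ClassicalLinear.card_PSL_two_of_odd (F := ZMod p) (ZMod.card p)
    (hp.odd_of_ne_two (by omega))
  refine ⟨ProjectiveSpecialLinearGroup (Fin 2) (ZMod p), inferInstance, inferInstance, by omega,
    fun hcl => ?_⟩
  haveI := CfsgLib.ClassicalLinear.isSimpleGroup_psl_fin (F := ZMod p) (n := 2) le_rfl
    fun _ => by rw [Nat.card_zmod]; omega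
  have h24 : 24 ≤ p ^ 2 - 1 := by
    have : 5 ^ 2 ≤ p ^ 2 := Nat.pow_le_pow_left h5 2
    omega
  have hhalf : 2 ∣ p ^ 2 - 1 := by
    obtain ⟨c, hc⟩ := hp.odd_of_ne_two (by omega)
    exact ⟨2 * c * (c + 1), by rw [hc, show (2 * c + 1) ^ 2 = 2 * (2 * c * (c + 1)) + 1 by ring]; omega⟩
  obtain ⟨c, hc⟩ := hhalf
  have hcard' : Nat.card (ProjectiveSpecialLinearGroup (Fin 2) (ZMod p)) = p * c :=
    Nat.eq_of_mul_eq_mul_left (by norm_num : 0 < 2) (by rw [hcard, hc]; ring)
  obtain ⟨P⟩ := (inferInstance : Nonempty (Sylow p (ProjectiveSpecialLinearGroup (Fin 2) (ZMod p))))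
  rcases (hcl P).eq_bot_or_eq_top with h | h
  · exact P.ne_bot_of_dvd_card (by rw [hcard']; exact dvd_mul_right _ _) h
  · obtain ⟨e, he⟩ := IsPGroup.iff_card.1 (P.2.to_le h.ge)
    rw [card_top, hcard'] at he
    have hcp : ¬ p ∣ c := fun hd => by
      have h1 : p ∣ p ^ 2 - 1 := hc ▸ dvd_mul_of_dvd_right hd 2
      have h2 := Nat.dvd_sub (dvd_pow_self p (by norm_num : 2 ≠ 0)) h1
      rw [Nat.sub_sub_self (Nat.one_le_pow _ _ hp.pos)] at h2
      exact hp.ne_one (Nat.dvd_one.1 h2)
    obtain ⟨f, -, hf⟩ := (Nat.dvd_prime_pow hp).1 (he ▸ dvd_mul_left c p)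
    rcases f with _ | f
    · rw [pow_zero] at hf; omega
    · exact hcp (hf ▸ dvd_pow_self p f.succ_ne_zero)

/-- The statement, given the bound for simple groups. -/
theorem least_order (p : ℕ) [Fact p.Prime] (hp : p ≠ 2) (m : ℕ) (hm : IsPrimePow m)
    (hm1 : m % p = 1) (hleast : ∀ k : ℕ, IsPrimePow k → k % p = 1 → m ≤ k)
    (hsimp : SimpleBound p) :
    (∀ (H : Type) [Group H] [Finite H], ¬ Cfsg.IsPClosed p H →
        min (p * m) (p * (p ^ 2 - 1) / 2) ≤ Nat.card H) ∧
      ∃ (H : Type) (_ : Group H) (_ : Finite H),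
        Nat.card H = min (p * m) (p * (p ^ 2 - 1) / 2) ∧ ¬ Cfsg.IsPClosed p H := by
  refine ⟨fun H _ _ hH => le_card_of_not_isPClosed hleast hsimp _ H rfl hH, ?_⟩
  rcases le_or_gt (p * m) (p * (p ^ 2 - 1) / 2) with hle | hlt
  · rw [min_eq_left hle]
    exact exists_affine p m hm hm1
  · rw [min_eq_right hlt.le]
    refine exists_psl ?_
    by_contra h5
    have hp' : p.Prime := Fact.out
    have h3 : p = 3 := by
      have h4 : p ≠ 4 := by rintro rfl; exact absurd hp' (by norm_num)
      have := hp'.two_le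
      omega
    subst h3
    have h4 := hleast 4 (by exact (isPrimePow_nat_iff 4).2 ⟨2, 2, Nat.prime_two, by norm_num, rfl⟩) rfl
    norm_num at hlt
    omega

end CfsgLib.HallClasses.LeastNonClosed
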