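import Cfsg.Prelude.Def_LocalStructure
import Cfsg.Prelude.Def_Transfer
import Cfsg.Agent.Lib.HallClasses.IrreducibleCyclic
import Cfsg.Agent.Lib.CoprimeAction.Sylow

/-!
Tools for minimal non-`p`-closed groups: a coprime `p`-group acting on a normal subgroup which is
generated, together with it, by a single invariant Sylow subgroup.
-/

namespace CfsgLib.HallClasses

open Subgroup

variable {G : Type*} [Group G] [Finite G] {p : ℕ} [Fact p.Prime]

theorem isPClosed_of_isPGroup (h : IsPGroup p G) : Cfsg.IsPClosed p G := by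
  intro P
  have : (P : Subgroup G) = ⊤ := (P.is_maximal' (h.to_subgroup ⊤) le_top).symm
  rw [this]
  infer_instance

theorem isPClosed_of_not_dvd (h : ¬ p ∣ Nat.card G) : Cfsg.IsPClosed p G := by
  intro P
  have : (P : Subgroup G) = ⊥ := by
    apply eq_bot_of_card_eq
    rw [P.card_eq_multiplicity, Nat.factorization_eq_zero_of_not_dvd h, pow_zero]
  rw [this]
  infer_instance

/-- If a `p`-group `X` does not centralise the normal `p'`-subgroup `N`, some invariant Sylow
subgroup of `N` is not centralised. -/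
theorem exists_invariant_not_centralized {X N : Subgroup G} [N.Normal] (hX : IsPGroup p X)
    (hN : ¬ p ∣ Nat.card N) (hXN : ¬ N ≤ centralizer (X : Set G)) :
    ∃ (q : ℕ) (Q : Subgroup G), q.Prime ∧ q ≠ p ∧ q ∣ Nat.card N ∧ IsPGroup q Q ∧ Q ≤ N ∧
      X ≤ normalizer (Q : Set G) ∧ ¬ Q ≤ centralizer (X : Set G) := by
  have hp : p.Prime := Fact.out
  by_contra hne
  push Not at hne
  apply hXN
  obtain ⟨j, hj⟩ := IsPGroup.iff_card.1 hX
  have hcop : (Nat.card X).Coprime (Nat.card N) := by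
    rw [hj]
    exact Nat.Coprime.pow_left j (hp.coprime_iff_not_dvd.2 hN)
  have hC : N ⊓ centralizer (X : Set G) = N := by
    refine Subgroup.eq_of_le_of_card_ge inf_le_left (Nat.le_of_dvd Nat.card_pos ?_)
    refine (Nat.dvd_iff_prime_pow_dvd_dvd _ _).2 fun q k hq hqk => ?_
    rcases Nat.eq_zero_or_pos k with rfl | hk
    · simp
    haveI := Fact.mk hq
    have hqN : q ∣ Nat.card N := (dvd_pow_self q hk.ne').trans hqk
    obtain ⟨Q, hQ⟩ := CfsgLib.CoprimeAction.exists_invariant_sylow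
      (A := X) (K := N) (by rw [normalizer_eq_top]; exact le_top) hcop
      (Or.inl (by haveI := hX.isNilpotent; infer_instance)) q
    have hQc : (Q : Subgroup N).map N.subtype ≤ centralizer (X : Set G) :=
      hne q _ hq (fun h => hN (h ▸ hqN)) hqN (Q.2.map _) (map_subtype_le _) hQ
    have h1 : Nat.card ((Q : Subgroup N).map N.subtype) ∣ Nat.card (N ⊓ centralizer (X : Set G) : Subgroup G) :=
      card_dvd_of_le (le_inf (map_subtype_le _) hQc)
    rw [card_map_of_injective N.subtype_injective, Q.card_eq_multiplicity] at h1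
    exact ((pow_dvd_pow q ((hq.pow_dvd_iff_le_factorization Nat.card_pos.ne').1 hqk)).trans h1)
  exact hC ▸ inf_le_right

/-- If all proper subgroups `X ⊔ Q` centralise, then `N` is a `q`-group for some prime `q`. -/
theorem exists_isPGroup_of_sup {X N : Subgroup G} [N.Normal] (hX : IsPGroup p X)
    (hN : ¬ p ∣ Nat.card N) (hXN : ¬ N ≤ centralizer (X : Set G))
    (hcl : ∀ Q : Subgroup G, Q ≤ N → X ≤ normalizer (Q : Set G) → X ⊔ Q ≠ ⊤ →
      Q ≤ centralizer (X : Set G)) :
    ∃ q : ℕ, q.Prime ∧ q ≠ p ∧ IsPGroup q N := by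
  obtain ⟨q, Q, hq, hqp, -, hQ, hQN, hXQ, hQc⟩ := exists_invariant_not_centralized hX hN hXN
  refine ⟨q, hq, hqp, hQ.to_le (le_of_eq ?_)⟩
  have htop : X ⊔ Q = ⊤ := by
    by_contra h
    exact hQc (hcl Q hQN hXQ h)
  refine le_antisymm (fun n hn => ?_) hQN
  have h1 : n ∈ X ⊔ Q := htop ▸ mem_top n
  rw [← SetLike.mem_coe, coe_mul_of_left_le_normalizer_right X Q hXQ] at h1
  obtain ⟨x, hx, y, hy, rfl⟩ := h1
  have hx1 : x ∈ X ⊓ N := ⟨hx, by simpa using N.mul_mem hn (N.inv_mem (hQN hy))⟩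
  have hcop : (Nat.card X).Coprime (Nat.card N) := by
    obtain ⟨j, hj⟩ := IsPGroup.iff_card.1 hX
    rw [hj]
    exact Nat.Coprime.pow_left j ((Nat.Prime.coprime_iff_not_dvd Fact.out).2 hN)
  rw [inf_eq_bot_of_coprime hcop, mem_bot] at hx1
  subst hx1
  simpa using hy

omit [Finite G] in
/-- A minimal normal `q`-subgroup is elementary abelian. -/
theorem isElementaryAbelian_of_minimal [Finite G] {q : ℕ} (hq : q.Prime) {N : Subgroup G} [N.Normal]
    (hN : IsPGroup q N) (hne : N ≠ ⊥)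
    (hmin : ∀ B : Subgroup G, B.Normal → B ≤ N → B = ⊥ ∨ B = N) :
    Cfsg.IsElementaryAbelian q N := by
  haveI := Fact.mk hq
  haveI : Nontrivial N := N.nontrivial_iff_ne_bot.2 hne
  have hZ : (center N).map N.subtype = N := by
    refine (hmin _ inferInstance (map_subtype_le _)).resolve_left fun h => ?_
    rw [map_eq_bot_iff_of_injective _ N.subtype_injective] at h
    haveI := hN.center_nontrivial
    exact (nontrivial_iff_ne_bot _).1 this h
  have hcomm : ∀ a ∈ N, ∀ b ∈ N, a * b = b * a := by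
    intro a ha b hb
    obtain ⟨z, hz, rfl⟩ : a ∈ (center N).map N.subtype := hZ.symm ▸ ha
    exact congrArg N.subtype (mem_center_iff.1 hz ⟨b, hb⟩).symm
  refine ⟨⟨⟨fun a b => Subtype.ext (hcomm a a.2 b b.2)⟩⟩, fun a ha => ?_⟩
  let B : Subgroup G :=
    { carrier := {g | g ∈ N ∧ g ^ q = 1}
      one_mem' := ⟨N.one_mem, one_pow _⟩
      mul_mem' := fun {a b} ha hb => ⟨N.mul_mem ha.1 hb.1, by
        rw [(show Commute a b from hcomm a ha.1 b hb.1).mul_pow, ha.2, hb.2, one_mul]⟩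
      inv_mem' := fun {a} ha => ⟨N.inv_mem ha.1, by rw [inv_pow, ha.2, inv_one]⟩ }
  haveI hBn : B.Normal := ⟨fun b hb g => ⟨Normal.conj_mem inferInstance b hb.1 g, by
    rw [conj_pow, hb.2, mul_one, mul_inv_cancel]⟩⟩
  have hB : B = N := by
    refine (hmin B hBn fun x hx => hx.1).resolve_left fun h => ?_
    obtain ⟨j, hj⟩ := IsPGroup.iff_card.1 hN
    have hqN : q ∣ Nat.card N := by
      rw [hj]
      exact dvd_pow_self q fun h0 => hne (card_eq_one.1 (hj.trans (by rw [h0, pow_zero])))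
    obtain ⟨x, hx⟩ := exists_prime_orderOf_dvd_card' q hqN
    have hmem : (x : G) ∈ B := ⟨x.2, by
      rw [← hx]
      exact congrArg Subtype.val (pow_orderOf_eq_one x)⟩
    rw [h, mem_bot] at hmem
    rw [show x = 1 from Subtype.ext hmem, orderOf_one] at hx
    exact hq.ne_one hx.symm
  exact (hB.symm ▸ ha : a ∈ B).2

omit [Finite G] [Fact p.Prime] in
theorem exists_minimal_normal_le [Finite G] (N : Subgroup G) [hN : N.Normal] (hne : N ≠ ⊥) :
    ∃ A : Subgroup G, A.Normal ∧ A ≠ ⊥ ∧ A ≤ N ∧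
      ∀ B : Subgroup G, B.Normal → B ≤ A → B = ⊥ ∨ B = A := by
  obtain ⟨A, ⟨hAn, hAb, hAN⟩, hA⟩ := Set.Finite.exists_minimalFor id
    {A : Subgroup G | A.Normal ∧ A ≠ ⊥ ∧ A ≤ N} (Set.toFinite _) ⟨N, hN, hne, le_rfl⟩
  refine ⟨A, hAn, hAb, hAN, fun B hB hBA => ?_⟩
  by_cases h : B = ⊥
  · exact Or.inl h
  · exact Or.inr (le_antisymm hBA (hA ⟨hB, h, hBA.trans hAN⟩ hBA))

end CfsgLib.HallClasses
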