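import Cfsg.Agent.Lib.HallClasses.MaximalCentralizersBasic
import Cfsg.Agent.Lib.HallClasses.MinimalNonClosed
import Cfsg.Agent.Lib.NormalPComplement.GlaubermanThompson
import Cfsg.Agent.Lib.NormalPComplement.FixedPointFree
import Cfsg.Agent.Lib.Cores.FPF

/-!
A normal subgroup with maximal centralisers of noncentral elements: modulo its centre it is a
`p`-group or a Frobenius group with elementary abelian kernel and complement of prime order.
-/

set_option autoImplicit false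
set_option linter.unusedSectionVars false
set_option linter.style.haveILetI false

namespace CfsgLib.HallClasses.MaxCent

open Subgroup

universe u

variable {G : Type u} [Group G] [Finite G] {N : Subgroup G} [N.Normal]

/-- Projection modulo the centre of `N`. -/
abbrev pr (N : Subgroup G) [N.Normal] : G →* G ⧸ zn N := QuotientGroup.mk' (zn N)

theorem pr_eq_one {g : G} : pr N g = 1 ↔ g ∈ zn N := QuotientGroup.eq_one_iff g

theorem mem_of_pr_mem {A : Subgroup G} (hZ : zn N ≤ A) {g : G} (hg : pr N g ∈ A.map (pr N)) :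
    g ∈ A := by
  obtain ⟨a, ha, he⟩ := hg
  have h1 : a⁻¹ * g ∈ zn N := (QuotientGroup.eq).1 he
  have h2 := mul_mem ha (hZ h1)
  rwa [mul_inv_cancel_left] at h2

theorem Nonc.pr_ne_one {x : G} (hx : Nonc N x) : pr N x ≠ 1 := fun h => hx.2 (pr_eq_one.1 h).2

theorem commute_of_pr {u g : G} (hu : u ∈ N) (hg : g ∈ N) (hcop : (orderOf u).Coprime (orderOf g))
    (hc : Commute (pr N u) (pr N g)) : Commute u g := by
  have hz : u * g * u⁻¹ * g⁻¹ ∈ zn N := by
    rw [← pr_eq_one, map_mul, map_mul, map_mul, map_inv, map_inv, hc.eq]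
    group
  exact commute_of_commute_mod (pow_orderOf_eq_one u) (pow_orderOf_eq_one g) hcop
    (mem_centralizer_iff.1 hz.2 u hu) (mem_centralizer_iff.1 hz.2 g hg)

theorem coprime_of_pow {u g : G} {p r i j : ℕ} (hp : p.Prime) (hr : r.Prime) (hne : p ≠ r)
    (hu : orderOf u = p ^ i) (hg : orderOf g = r ^ j) : (orderOf u).Coprime (orderOf g) := by
  rw [hu, hg]
  exact Nat.Coprime.pow _ _ ((Nat.coprime_primes hp hr).2 hne)

/-- A self-normalising subgroup of a `p`-group is everything. -/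
theorem eq_of_self_normalizing {H : Type*} [Group H] [Finite H] {p : ℕ} [Fact p.Prime]
    {T S : Subgroup H} (hS : IsPGroup p S) (hTS : T ≤ S)
    (hself : ∀ s ∈ S, s ∈ normalizer (T : Set H) → s ∈ T) : T = S := by
  haveI := hS.isNilpotent
  by_contra hne
  have hlt : T.subgroupOf S < ⊤ := lt_top_iff_ne_top.2 fun e =>
    hne (le_antisymm hTS (subgroupOf_eq_top.1 e))
  obtain ⟨s, hs, hsn⟩ := SetLike.exists_of_lt (Group.normalizerCondition_of_isNilpotent _ hlt)
  refine hsn (mem_subgroupOf.2 (hself s s.2 (mem_normalizer_iff.2 fun t => ?_)))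
  constructor
  · intro ht
    exact mem_subgroupOf.1 ((mem_normalizer_iff.1 hs ⟨t, hTS ht⟩).1 (mem_subgroupOf.2 ht))
  · intro ht
    have htS : t ∈ S := by
      have := S.mul_mem (S.mul_mem (S.inv_mem s.2) (hTS ht)) s.2
      simpa [mul_assoc] using this
    exact mem_subgroupOf.1 ((mem_normalizer_iff.1 hs ⟨t, htS⟩).2 (mem_subgroupOf.2 ht))

variable (h : Hyp N)

include h in
/-- A normal centraliser in `N` and an element of another prime outside it give an abelian,
non-normal centraliser. -/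
theorem abelian_of_normal_core {x g : G} {p r i j : ℕ} (hp : p.Prime) (hr : r.Prime) (hpr : p ≠ r)
    (hx : Nonc N x) (hxo : orderOf x = p ^ i) (hA : (nc N x).Normal) (hgN : g ∈ N)
    (hgA : g ∉ nc N x) (hgo : orderOf g = r ^ j) :
    Nonc N g ∧ IsMulCommutative (nc N g) ∧ ¬ (nc N g).Normal := by
  haveI := Fact.mk hp
  haveI := Fact.mk hr
  haveI := hA
  set A := nc N x with hAdef
  have hxA : x ∈ A := hx.mem_nc
  have hnc : ∀ w, w ∈ N → w ∉ A → Nonc N w := fun w hw hwA =>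
    notMem_centralizer_of_notMem hw fun hz => hwA (zn_le_nc hx.1 hz)
  have hinf : ∀ (w : G) (l : ℕ), w ∈ N → w ∉ A → orderOf w = r ^ l →
      ∀ a ∈ A, Commute w a → a ∈ zn N := by
    intro w l hwN hwA hwo a ha hwa
    by_contra haz
    have han := notMem_centralizer_of_notMem ha.2 haz
    obtain ⟨s, k, a', hs, haz', hao, han', hae⟩ := exists_part h han
    have ha' : a' ∈ A := (zpowers_le.2 ha) haz'
    have hwa' : Commute a' w := by
      obtain ⟨e, rfl⟩ := mem_zpowers_iff.1 haz'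
      exact hwa.symm.zpow_left e
    have hxa' : Commute x a' := mem_cent_iff.1 ha'.1
    refine hwA ⟨mem_cent_iff.2 ?_, hwN⟩
    by_cases hsp : s = p
    · have h1 := cent_eq_of_commute h han' (hnc w hwN hwA) hwa'
        (coprime_of_pow hs hr (hsp ▸ hpr) hao hwo)
      have h2 : x ∈ centralizer ({w} : Set G) := h1 ▸ mem_cent_iff.2 hxa'.symm
      exact (mem_cent_iff.1 h2).symm
    · have h1 := cent_eq_of_commute h han' hx hxa'.symm (coprime_of_pow hs hp hsp hao hxo)
      exact mem_cent_iff.1 (h1 ▸ mem_cent_iff.2 hwa' : w ∈ centralizer ({x} : Set G))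
  have hgn := hnc g hgN hgA
  have hxg : ¬ Commute g x := fun hc => hgA ⟨mem_cent_iff.2 hc.symm, hgN⟩
  -- a normal subgroup of `A` through `x` and the centre is `A`
  have hfull : ∀ X : Subgroup G, X.Normal → X ≤ A → x ∈ X → zn N ≤ X → A ≤ X := by
    intro X hX hXA hxX hZX a ha
    obtain ⟨b, hb, l, hl, rfl⟩ := exists_eq_mul (A := X) (hXA.trans inf_le_right) hgn
      (fun hle => hxg (mem_cent_iff.1 (hle hxX))) h ha.2
    have hlA : l ∈ A := by
      have := A.mul_mem (A.inv_mem (hXA hb)) ha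
      rwa [inv_mul_cancel_left] at this
    exact mul_mem hb (hZX (hinf g j hgN hgA hgo l hlA (mem_cent_iff.1 hl.1)))
  have hAab : ∀ a ∈ A, ∀ b ∈ A, Commute a b := by
    intro a ha b hb
    have hle := hfull (A ⊓ centralizer (A : Set G)) inferInstance inf_le_left
      ⟨hxA, mem_centralizer_iff.2 fun c hc => (mem_cent_iff.1 hc.1).symm.eq⟩
      fun z hz => ⟨zn_le_nc hx.1 hz, mem_centralizer_iff.2 fun c hc =>
        mem_centralizer_iff.1 hz.2 c hc.2⟩
    exact (mem_centralizer_iff.1 (hle ha).2 b hb).symm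
  have hAp : ∀ a ∈ A, ∃ k, a ^ p ^ k ∈ zn N := by
    let X : Subgroup G :=
      { carrier := {a | a ∈ A ∧ ∃ k, a ^ p ^ k ∈ zn N}
        one_mem' := ⟨A.one_mem, 0, by simp⟩
        mul_mem' := by
          rintro a b ⟨ha, k, hk⟩ ⟨hb, l, hl⟩
          refine ⟨A.mul_mem ha hb, k + l, ?_⟩
          rw [(hAab a ha b hb).mul_pow]
          refine mul_mem ?_ ?_
          · rw [pow_add, pow_mul]; exact pow_mem hk _
          · rw [pow_add, mul_comm, pow_mul]; exact pow_mem hl _
        inv_mem' := by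
          rintro a ⟨ha, k, hk⟩
          exact ⟨A.inv_mem ha, k, by rw [inv_pow]; exact inv_mem hk⟩ }
    have hXn : X.Normal := ⟨fun a ha c => by
      obtain ⟨ha, k, hk⟩ := ha
      exact ⟨hA.conj_mem a ha c, k, by
        rw [conj_pow]; exact (inferInstance : (zn N).Normal).conj_mem _ hk c⟩⟩
    exact fun a ha => ((hfull X hXn (fun y hy => hy.1)
      ⟨hxA, i, by rw [← hxo, pow_orderOf_eq_one]; exact one_mem _⟩
      fun z hz => ⟨zn_le_nc hx.1 hz, 0, by simpa using hz⟩) ha).2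
  refine ⟨hgn, ?_, fun hn => ?_⟩
  swap
  · -- `nc N g` is not normal
    have hz : x * g * x⁻¹ * g⁻¹ ∈ zn N := by
      refine hinf g j hgN hgA hgo _ ?_ ?_
      · have := A.mul_mem hxA (hA.conj_mem _ (A.inv_mem hxA) g)
        simpa [mul_assoc] using this
      · refine mem_cent_iff.1 (?_ : x * g * x⁻¹ * g⁻¹ ∈ nc N g).1
        exact mul_mem (hn.conj_mem g hgn.mem_nc x) (inv_mem hgn.mem_nc)
    exact hxg (commute_of_commute_mod (pow_orderOf_eq_one x) (pow_orderOf_eq_one g)
      (coprime_of_pow hp hr hpr hxo hgo) (mem_centralizer_iff.1 hz.2 x hx.1)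
      (mem_centralizer_iff.1 hz.2 g hgN)).symm
  by_contra hna
  obtain ⟨s, -, hs⟩ := exists_prime_of_not_comm h hgn hna
  obtain rfl : r = s := hs r j g hr hgn.mem_nc hgo hgn
  have hR : IsPGroup r ((nc N g).map (pr N)) := isPGroup_map_of_parts inf_le_right hs
  have hV : A.map (pr N) ≠ ⊥ := fun e => hx.pr_ne_one
    (mem_bot.1 (e ▸ mem_map_of_mem (pr N) hxA))
  haveI : (A.map (pr N)).Normal := hA.map _ (QuotientGroup.mk'_surjective _)
  have hU := CfsgLib.Cores.uniqueOrderP_of_fpf hR hV le_normalizer_of_normal (by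
    rintro _ ⟨m, hm, rfl⟩ hm1
    refine (eq_bot_iff_forall _).2 ?_
    rintro _ ⟨⟨a, ha, rfl⟩, hc⟩
    obtain ⟨k, hk⟩ := hAp a ha
    obtain ⟨l, hl⟩ : ∃ l, m ^ r ^ l ∈ zn N := by
      obtain ⟨l, hl⟩ := hR ⟨_, mem_map_of_mem (pr N) hm⟩
      exact ⟨l, pr_eq_one.1 (by simpa using congrArg Subtype.val hl)⟩
    obtain ⟨u, hu, ⟨ku, huo⟩, z, hz, hau⟩ := exists_lift_pElement (p := p) (zn N) hk
    obtain ⟨w, hw, ⟨kw, hwo⟩, z', hz', hmw⟩ := exists_lift_pElement (p := r) (zn N) hl
    have huA : u ∈ A := (zpowers_le.2 ha) hu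
    have hwM : w ∈ nc N g := (zpowers_le.2 hm) hw
    have e1 : pr N a = pr N u := by rw [hau, map_mul, pr_eq_one.2 hz, mul_one]
    have e2 : pr N m = pr N w := by rw [hmw, map_mul, pr_eq_one.2 hz', mul_one]
    rw [e2] at hm1
    have hwA : w ∉ A := fun hwA' => hm1
      (pr_eq_one.2 (hinf g j hgN hgA hgo w hwA' (mem_cent_iff.1 hwM.1)))
    have hwu : Commute w u := by
      refine commute_of_pr hwM.2 huA.2 (coprime_of_pow hr hp hpr.symm hwo huo) ?_
      have hc' := mem_cent_iff.1 hc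
      rwa [e1, e2] at hc'
    rw [e1]
    exact pr_eq_one.2 (hinf w kw hwM.2 hwA hwo u huA hwu))
  apply hna
  refine ⟨⟨fun a b => Subtype.ext ?_⟩⟩
  show (a : G) * b = b * a
  by_cases ha : Nonc N a
  swap
  · have h1 : (a : G) ∈ centralizer (N : Set G) := by_contra fun h2 => ha ⟨a.2.2, h2⟩
    exact (mem_centralizer_iff.1 h1 b b.2.2).symm
  by_cases hb : Nonc N b
  swap
  · have h1 : (b : G) ∈ centralizer (N : Set G) := by_contra fun h2 => hb ⟨b.2.2, h2⟩
    exact mem_centralizer_iff.1 h1 a a.2.2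
  -- powers of order `r` modulo the centre
  have hd : ∀ y : G, y ∈ nc N g → Nonc N y → ∃ d ∈ zpowers y, ∃ hd : pr N d ∈ (nc N g).map (pr N),
      orderOf (⟨_, hd⟩ : (nc N g).map (pr N)) = r ∧ Nonc N d := by
    intro y hy hyn
    obtain ⟨e, he⟩ := IsPGroup.iff_orderOf.1 hR ⟨_, mem_map_of_mem (pr N) hy⟩
    rw [Subgroup.orderOf_mk] at he
    have hre : r ∣ orderOf (pr N y) := by
      rw [he]
      refine dvd_pow_self r fun h0 => hyn.pr_ne_one ?_
      rw [← orderOf_eq_one_iff, he, h0, pow_zero]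
    have ho : orderOf (pr N (y ^ (orderOf (pr N y) / r))) = r := by
      rw [map_pow]
      exact orderOf_pow_orderOf_div (orderOf_pos _).ne' hre
    refine ⟨y ^ (orderOf (pr N y) / r), pow_mem (mem_zpowers y) _,
      mem_map_of_mem (pr N) (pow_mem hy _), ?_,
      notMem_centralizer_of_notMem (pow_mem hyn.1 _) fun hc => ?_⟩
    · rw [Subgroup.orderOf_mk, ho]
    · rw [pr_eq_one.2 hc, orderOf_one] at ho
      exact hr.ne_one ho.symm
  obtain ⟨d, hda, hdm, hdo, hdn⟩ := hd a a.2 ha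
  obtain ⟨d', hdb, hdm', hdo', hdn'⟩ := hd b b.2 hb
  obtain ⟨e, he⟩ := mem_zpowers_iff.1 (hU _ _ hdo' hdo)
  have he' : pr N d = pr N (d' ^ e) := by
    rw [map_zpow]
    simpa using (congrArg Subtype.val he).symm
  have hz : (d' ^ e)⁻¹ * d ∈ zn N := (QuotientGroup.eq).1 he'.symm
  have hb1 : centralizer ({(b : G)} : Set G) = centralizer ({d'} : Set G) :=
    cent_eq_of_le h hb hdn' (cent_le_of_mem_zpowers hdb)
  have ha1 : centralizer ({(a : G)} : Set G) = centralizer ({d} : Set G) :=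
    cent_eq_of_le h ha hdn (cent_le_of_mem_zpowers hda)
  have hbd : Commute d' b := mem_cent_iff.1 (hb1 ▸ mem_cent_iff.2 (Commute.refl (b : G)))
  have hbd' : Commute d b := by
    have : d = d' ^ e * ((d' ^ e)⁻¹ * d) := by group
    rw [this]
    exact (hbd.zpow_left e).mul_left (mem_centralizer_iff.1 hz.2 b b.2.2).symm
  exact (mem_cent_iff.1 (ha1 ▸ mem_cent_iff.2 hbd' : (b : G) ∈ centralizer ({(a : G)} : Set G))).eq

include h in
theorem exists_abelian_of_normal (hnp : ∀ p : ℕ, p.Prime → ¬ IsPGroup p (N.map (pr N))) {x : G}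
    (hx : Nonc N x) (hA : (nc N x).Normal) :
    ∃ y, Nonc N y ∧ IsMulCommutative (nc N y) ∧ ¬ (nc N y).Normal := by
  obtain ⟨p, i, x', hp, -, hxo, hx', hxe⟩ := exists_part h hx
  have hnce : nc N x = nc N x' := by simp only [nc, hxe]
  rw [hnce] at hA
  haveI := Fact.mk hp
  obtain ⟨g0, hg0, hg0A⟩ := SetLike.exists_of_lt
    (lt_of_le_of_ne (inf_le_right : nc N x' ≤ N) (nc_ne hx'))
  obtain ⟨r, j, g, hr, hgz, hgo, hgA, -⟩ := exists_primePart_notMem hg0A
  have hgN : g ∈ N := (zpowers_le.2 hg0) hgz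
  by_cases hrp : p ≠ r
  · exact ⟨g, abelian_of_normal_core h hp hr hrp hx' hxo hA hgN hgA hgo⟩
  push Not at hrp
  obtain ⟨s, k, z, hs, hzN, hzo, hzn, hsp⟩ : ∃ (s k : ℕ) (z : G), s.Prime ∧ z ∈ N ∧
      orderOf z = s ^ k ∧ Nonc N z ∧ s ≠ p := by
    by_contra hcon
    refine hnp p hp (isPGroup_map_of_parts le_rfl fun s k z hs hz hzo hzn => ?_)
    by_contra hsp
    exact hcon ⟨s, k, z, hs, hz, hzo, hzn, hsp⟩
  by_cases hzA : z ∈ nc N x'
  · have he : nc N x' = nc N z := by
      simp only [nc, cent_eq_of_commute h hx' hzn (mem_cent_iff.1 hzA.1)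
        (coprime_of_pow hp hs hsp.symm hxo hzo)]
    change g ∉ nc N x' at hgA
    rw [he] at hA hgA
    exact ⟨g, abelian_of_normal_core h hs hr (hrp ▸ hsp) hzn hzo hA hgN hgA hgo⟩
  · exact ⟨z, abelian_of_normal_core h hp hs hsp.symm hx' hxo hA hzN hzA hzo⟩

theorem mem_nc_of_normalizer {x n : G} (hself : normalizer (nc N x : Set G) = centralizer ({x} : Set G))
    (hxN : x ∈ N) (hn : n ∈ N) (hnor : pr N n ∈ normalizer ((nc N x).map (pr N) : Set (G ⧸ zn N))) :
    n ∈ nc N x := by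
  refine ⟨hself ▸ mem_normalizer_iff.2 fun m => ?_, hn⟩
  have e : pr N (n * m * n⁻¹) = pr N n * pr N m * (pr N n)⁻¹ := by simp only [map_mul, map_inv]
  constructor
  · intro hm
    exact mem_of_pr_mem (zn_le_nc hxN) (e ▸ (mem_normalizer_iff.1 hnor _).1 (mem_map_of_mem _ hm))
  · intro hm
    exact mem_of_pr_mem (zn_le_nc hxN)
      ((mem_normalizer_iff.1 hnor _).2 (e ▸ mem_map_of_mem (pr N) hm))

theorem nc_map_le (x : G) : (nc N x).map (pr N) ≤ N.map (pr N) := map_mono inf_le_right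

include h in
/-- Some centraliser in `N` is abelian and self-normalising. -/
theorem exists_abelian (hnp : ∀ p : ℕ, p.Prime → ¬ IsPGroup p (N.map (pr N))) :
    ∃ x, Nonc N x ∧ IsMulCommutative (nc N x) ∧
      normalizer (nc N x : Set G) = centralizer ({x} : Set G) := by
  by_contra hcon
  have hnn : ∀ x, Nonc N x → ¬ (nc N x).Normal := by
    intro x hx hA
    obtain ⟨y, hy, hyc, hyn⟩ := exists_abelian_of_normal h hnp hx hA
    exact hcon ⟨y, hy, hyc, (normal_or_normalizer_eq h hy).resolve_left hyn⟩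
  have hself : ∀ x, Nonc N x → normalizer (nc N x : Set G) = centralizer ({x} : Set G) :=
    fun x hx => (normal_or_normalizer_eq h hx).resolve_left (hnn x hx)
  have hF1 : ∀ x, Nonc N x → ∃ p : ℕ, p.Prime ∧ IsPGroup p ((nc N x).map (pr N)) := by
    intro x hx
    obtain ⟨p, hp, hp'⟩ := exists_prime_of_not_comm h hx fun hc => hcon ⟨x, hx, hc, hself x hx⟩
    haveI := Fact.mk hp
    exact ⟨p, hp, isPGroup_map_of_parts inf_le_right hp'⟩
  set Nb := N.map (pr N) with hNb
  -- the images are the Sylow subgroups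
  have hsyl : ∀ p : ℕ, p.Prime → p ∣ Nat.card Nb → ∃ (x : G) (S : Sylow p Nb), Nonc N x ∧
      IsPGroup p ((nc N x).map (pr N)) ∧
      (S : Subgroup Nb).map Nb.subtype = (nc N x).map (pr N) := by
    intro p hp hdvd
    haveI := Fact.mk hp
    obtain ⟨t, ht⟩ := exists_prime_orderOf_dvd_card' p hdvd
    obtain ⟨n, hn, hne⟩ := t.2
    have hto : orderOf (pr N n) = p := by rw [hne, orderOf_coe, ht]
    have hnn' : Nonc N n := notMem_centralizer_of_notMem hn fun hz => by
      rw [pr_eq_one.2 hz, orderOf_one] at hto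
      exact hp.ne_one hto.symm
    obtain ⟨s, hs, hsg⟩ := hF1 n hnn'
    haveI := Fact.mk hs
    obtain ⟨e, he⟩ := IsPGroup.iff_orderOf.1 hsg ⟨_, mem_map_of_mem (pr N) hnn'.mem_nc⟩
    rw [Subgroup.orderOf_mk, hto] at he
    obtain rfl : p = s := (Nat.prime_dvd_prime_iff_eq hp hs).1
      (hp.dvd_of_dvd_pow (n := e) (he ▸ dvd_rfl))
    obtain ⟨S, hS⟩ := (hsg.comap_of_injective Nb.subtype Nb.subtype_injective).exists_le_sylow
    refine ⟨n, S, hnn', hsg, ?_⟩
    refine (eq_of_self_normalizing (S.2.map Nb.subtype) ?_ ?_).symm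
    · intro y hy
      exact ⟨⟨y, nc_map_le n hy⟩, hS hy, rfl⟩
    · intro y hy hyn
      obtain ⟨m, hm, rfl⟩ := (map_subtype_le _ hy : y ∈ Nb)
      exact mem_map_of_mem _ (mem_nc_of_normalizer (hself n hnn') hnn'.1 hm hyn)
  -- two primes, one of them odd
  obtain ⟨p, r, hp, hr, hpd, hrd, hrp, hodd⟩ : ∃ p r : ℕ, p.Prime ∧ r.Prime ∧
      p ∣ Nat.card Nb ∧ r ∣ Nat.card Nb ∧ r ≠ p ∧ p ≠ 2 := by
    have hone : ∀ a : ℕ, a.Prime → ∃ b : ℕ, b.Prime ∧ b ∣ Nat.card Nb ∧ b ≠ a := by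
      intro a ha
      by_contra hb
      push Not at hb
      exact hnp a ha (IsPGroup.of_card
        (Nat.eq_prime_pow_of_unique_prime_dvd Nat.card_pos.ne' fun {d} hd hdd => hb d hd hdd))
    obtain ⟨p, hp, hpd, hp2⟩ := hone 2 Nat.prime_two
    obtain ⟨r, hr, hrd, hrp⟩ := hone p hp
    exact ⟨p, r, hp, hr, hpd, hrd, hrp, hp2⟩
  haveI := Fact.mk hp
  haveI := Fact.mk hr
  obtain ⟨x, S, hx, hxg, hSx⟩ := hsyl p hp hpd
  obtain ⟨y, R, hy, hyg, hRy⟩ := hsyl r hr hrd
  set P := (nc N x).map (pr N) with hP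
  have hW := CfsgLib.NormalPComplement.isPFunctor_centerThompsonAOf.{u} (p := p)
  set W := Cfsg.centerThompsonAOf P with hWdef
  have hWP : W ≤ P := hW.le _ P hxg
  have hcx : centralizer ({x} : Set G) ≤ (normalizer (W : Set (G ⧸ zn N))).comap (pr N) := by
    refine le_trans ?_ (comap_mono (hW.normalizer_le hxg))
    intro c hc
    exact le_normalizer_map (pr N) ⟨c, cent_le_normalizer hc, rfl⟩
  rcases hcx.lt_or_eq with hlt | heq
  · -- `Z(J(P))` is normal
    have htop := (h x hx.1 hx.2).2 _ hlt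
    haveI hWn : W.Normal := normalizer_eq_top_iff.1 (top_le_iff.1 fun t _ => by
      obtain ⟨g, rfl⟩ := QuotientGroup.mk'_surjective (zn N) t
      exact (htop.ge (mem_top g) : g ∈ comap (pr N) _))
    have hAN : W.comap (pr N) ≤ nc N x := fun g hg => mem_of_pr_mem (zn_le_nc hx.1) (hWP hg)
    have hAy : ¬ W.comap (pr N) ≤ centralizer ({y} : Set G) := by
      intro hle
      refine hW.ne_bot _ P hxg (fun e => hx.pr_ne_one (mem_bot.1 (e ▸
        mem_map_of_mem (pr N) hx.mem_nc))) ((eq_bot_iff_forall _).2 fun t ht => ?_)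
      obtain ⟨g, rfl⟩ := QuotientGroup.mk'_surjective (zn N) t
      exact mem_bot.1 ((IsPGroup.disjoint_of_ne p r hrp.symm _ _ hxg hyg).le_bot
        ⟨hWP ht, mem_map_of_mem (pr N) ⟨hle ht, (hAN ht).2⟩⟩)
    refine hnn x hx ?_
    have : nc N x = W.comap (pr N) := by
      refine le_antisymm (fun m hm => ?_) hAN
      obtain ⟨a, ha, l, hl, rfl⟩ := exists_eq_mul (hAN.trans inf_le_right) hy hAy h hm.2
      have hlP : l ∈ nc N x := by
        have := mul_mem (inv_mem (hAN ha)) hm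
        rwa [inv_mul_cancel_left] at this
      have h1 : pr N l = 1 := mem_bot.1 ((IsPGroup.disjoint_of_ne p r hrp.symm _ _ hxg hyg).le_bot
        ⟨mem_map_of_mem _ hlP, mem_map_of_mem _ hl⟩)
      rw [mem_comap, map_mul, h1, mul_one]
      exact ha
    rw [this]
    infer_instance
  -- otherwise a normal `p`-complement
  have hNP : Cfsg.HasNormalPComplement p Nb := by
    refine CfsgLib.NormalPComplement.hasNormalPComplement_of_normalizer_centerThompsonAOf hodd S ?_
    have hnz : normalizer (Cfsg.centerThompsonAOf (S : Subgroup Nb) : Set Nb) ≤ S := by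
      intro t ht
      have hWmap : W = (Cfsg.centerThompsonAOf (S : Subgroup Nb)).map Nb.subtype := by
        rw [hWdef, ← hSx]
        exact hW.map _ _ Nb.subtype _ S.2 Nb.subtype_injective.injOn
      obtain ⟨n, hn, hne⟩ := t.2
      have h1 : pr N n ∈ normalizer (W : Set (G ⧸ zn N)) := by
        rw [hne, hWmap]
        exact le_normalizer_map Nb.subtype ⟨t, ht, rfl⟩
      have h2 : n ∈ nc N x := ⟨heq.ge h1, hn⟩
      obtain ⟨t', ht', hte⟩ : (t : G ⧸ zn N) ∈ (S : Subgroup Nb).map Nb.subtype := by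
        rw [hSx, ← hne]
        exact mem_map_of_mem _ h2
      exact Subtype.ext hte ▸ ht'
    have hpg := S.2.to_le hnz
    refine ⟨IsPGroup.toSylow (hpg.to_subgroup ⊤) (by rw [index_top]; exact hp.not_dvd_one), ⊥,
      inferInstance, ?_⟩
    exact isComplement'_bot_top
  obtain ⟨P0, K, hK, hc⟩ := hNP
  have hcop : ¬ p ∣ Nat.card K := by
    rw [← hc.index_eq_card]
    exact P0.not_dvd_index
  have hRK : (R : Subgroup Nb) ≤ K := by
    intro t ht
    haveI := hK
    obtain ⟨e, he⟩ := IsPGroup.iff_card.1 P0.2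
    obtain ⟨k, hk⟩ := IsPGroup.iff_orderOf.1 R.2 ⟨t, ht⟩
    rw [Subgroup.orderOf_mk] at hk
    have h1 : t ^ p ^ e ∈ K := by
      rw [← he, ← hc.symm.index_eq_card]
      exact K.pow_index_mem t
    exact (Subgroup.zpowers_le.2 h1) (mem_zpowers_pow_iff.2 (hk ▸
      Nat.Coprime.pow _ _ ((Nat.coprime_primes hp hr).2 hrp.symm)))
  have hnR : normalizer ((R : Subgroup Nb) : Set Nb) ≤ (R : Subgroup Nb) := by
    intro t ht
    obtain ⟨n, hn, hne⟩ := t.2
    have h2 : n ∈ nc N y := mem_nc_of_normalizer (hself y hy) hy.1 hn (by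
      rw [hne, ← hRy]
      exact le_normalizer_map Nb.subtype ⟨t, ht, rfl⟩)
    obtain ⟨t', ht', hte⟩ : (t : G ⧸ zn N) ∈ (R : Subgroup Nb).map Nb.subtype := by
      rw [hRy, ← hne]
      exact mem_map_of_mem _ h2
    exact Subtype.ext hte ▸ ht'
  haveI := hK
  have hKtop : K = ⊤ := top_le_iff.1 ((Sylow.normalizer_sup_eq_top' R hRK).ge.trans
    (sup_le (hnR.trans hRK) le_rfl))
  exact hcop (by rw [hKtop, card_top]; exact hpd)

end CfsgLib.HallClasses.MaxCent
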