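import Mathlib
import Cfsg.Agent.Lib.PGroups.Frattini

/-!
A normal subgroup `N` in which every element outside the centre has a maximal centraliser in the
whole group: basic lemmas.
-/

set_option autoImplicit false

namespace CfsgLib.HallClasses.MaxCent

open Subgroup
open scoped commutatorElement

variable {G : Type*} [Group G]

/-- The centre of `N`, as a subgroup of `G`. -/
abbrev zn (N : Subgroup G) : Subgroup G := N ⊓ centralizer (N : Set G)

/-- The centraliser of `x` inside `N`. -/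
abbrev nc (N : Subgroup G) (x : G) : Subgroup G := centralizer ({x} : Set G) ⊓ N

/-- `x` is a noncentral element of `N`. -/
def Nonc (N : Subgroup G) (x : G) : Prop := x ∈ N ∧ x ∉ centralizer (N : Set G)

/-- The hypothesis: all centralisers of noncentral elements of `N` are maximal in `G`. -/
def Hyp (N : Subgroup G) : Prop :=
  ∀ x : G, x ∈ N → x ∉ centralizer (N : Set G) → IsCoatom (centralizer ({x} : Set G))

theorem mem_cent_iff {x y : G} : y ∈ centralizer ({x} : Set G) ↔ Commute x y := by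
  rw [mem_centralizer_singleton_iff]
  exact ⟨fun h => h.symm, fun h => h.symm⟩

/-- Some primary part of an element avoids a subgroup avoiding the element. -/
theorem exists_primePart_notMem [Finite G] {U : Subgroup G} {x : G} (hx : x ∉ U) :
    ∃ (r k : ℕ) (x' : G), r.Prime ∧ x' ∈ zpowers x ∧ orderOf x' = r ^ k ∧ x' ∉ U ∧
      r ∣ orderOf x := by
  let V := zpowers x ⊓ U
  have hdvd : Nat.card V ∣ orderOf x := by
    rw [← Nat.card_zpowers]; exact card_dvd_of_le inf_le_left
  have hne : ¬ orderOf x ∣ Nat.card V := fun h => hx (by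
    have : V = zpowers x := Subgroup.eq_of_le_of_card_ge inf_le_left
      (by rw [Nat.card_zpowers]; exact Nat.le_of_dvd Nat.card_pos h)
    exact (this.ge (mem_zpowers x)).2)
  rw [Nat.dvd_iff_prime_pow_dvd_dvd] at hne
  push Not at hne
  obtain ⟨r, k, hr, hk, hk'⟩ := hne
  refine ⟨r, k, x ^ (orderOf x / r ^ k), hr, pow_mem (mem_zpowers x) _,
    orderOf_pow_orderOf_div (orderOf_pos x).ne' hk, fun h => hk' ?_, ?_⟩
  · have h1 := Subgroup.orderOf_dvd_natCard V ⟨pow_mem (mem_zpowers x) _, h⟩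
    rwa [orderOf_pow_orderOf_div (orderOf_pos x).ne' hk] at h1
  · refine (dvd_pow_self r fun h => hk' ?_).trans hk
    rw [h, pow_zero]
    exact one_dvd _

/-- An element whose image is a `p`-element is a `p`-element times a kernel element. -/
theorem exists_lift_pElement [Finite G] {p : ℕ} [Fact p.Prime] (Z : Subgroup G) [Z.Normal] {g : G}
    {j : ℕ} (hg : g ^ p ^ j ∈ Z) :
    ∃ u ∈ zpowers g, (∃ k, orderOf u = p ^ k) ∧ ∃ z ∈ Z, g = u * z := by
  have hp : p.Prime := Fact.out
  obtain ⟨k, m, hm, hkm⟩ := Nat.exists_eq_pow_mul_and_not_dvd (orderOf_pos g).ne' p hp.ne_one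
  have hjm : IsCoprime ((p : ℤ) ^ (j + k)) (m : ℤ) := by
    exact_mod_cast Nat.isCoprime_iff_coprime.2 (Nat.Coprime.pow_left (j + k) (hp.coprime_iff_not_dvd.2 hm))
  obtain ⟨a, b, hab⟩ := hjm
  refine ⟨g ^ ((m : ℤ) * b), zpow_mem (mem_zpowers g) _, ?_, g ^ ((p : ℤ) ^ (j + k) * a), ?_, ?_⟩
  · obtain ⟨i, -, hi⟩ := (Nat.dvd_prime_pow hp).1 (show orderOf (g ^ ((m : ℤ) * b)) ∣ p ^ k by
      refine orderOf_dvd_of_pow_eq_one ?_
      rw [← zpow_natCast, ← zpow_mul, ← orderOf_dvd_iff_zpow_eq_one, hkm]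
      push_cast
      exact ⟨b, by ring⟩)
    exact ⟨i, hi⟩
  · rw [zpow_mul, pow_add, zpow_mul, ← Nat.cast_pow, zpow_natCast]
    exact zpow_mem (zpow_mem hg _) _
  · rw [← zpow_add, show (m : ℤ) * b + (p : ℤ) ^ (j + k) * a = 1 by linear_combination hab, zpow_one]

/-- Elements of coprime prime-power orders commuting modulo a central subgroup commute. -/
theorem commute_of_commute_mod {u g : G} {a b : ℕ} (hu : u ^ a = 1) (hg : g ^ b = 1)
    (hab : a.Coprime b) (h1 : Commute u (u * g * u⁻¹ * g⁻¹)) (h2 : Commute g (u * g * u⁻¹ * g⁻¹)) :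
    Commute u g := by
  set z := u * g * u⁻¹ * g⁻¹ with hz
  have e1 : u * g * u⁻¹ = z * g := by rw [hz]; group
  have hzb : z ^ b = 1 := by
    have := congrArg (· ^ b) e1
    simp only [conj_pow, hg, mul_one, mul_inv_cancel, h2.symm.mul_pow] at this
    exact this.symm
  have e2 : g * u * g⁻¹ = z⁻¹ * u := by rw [hz]; group
  have hza : z⁻¹ ^ a = 1 := by
    have := congrArg (· ^ a) e2
    simp only [conj_pow, hu, mul_one, mul_inv_cancel, h1.inv_right.symm.mul_pow] at this
    exact this.symm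
  rw [inv_pow, inv_eq_one] at hza
  have hz1 : z = 1 := orderOf_eq_one_iff.1 (Nat.eq_one_of_dvd_coprimes hab
    (orderOf_dvd_of_pow_eq_one hza) (orderOf_dvd_of_pow_eq_one hzb))
  rw [hz1, one_mul] at e1
  exact mul_inv_eq_iff_eq_mul.1 e1

section

variable [Finite G] {N : Subgroup G} [N.Normal] (h : Hyp N)

omit [Finite G] [N.Normal] in
theorem Nonc.mem_nc {x : G} (hx : Nonc N x) : x ∈ nc N x := ⟨mem_cent_iff.2 (Commute.refl x), hx.1⟩

omit [N.Normal] [Finite G] in
theorem zn_le_nc {x : G} (hx : x ∈ N) : zn N ≤ nc N x := fun _ hz =>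
  ⟨mem_cent_iff.2 (mem_centralizer_iff.1 hz.2 x hx), hz.1⟩

omit [N.Normal] [Finite G] in
theorem notMem_centralizer_of_notMem {x : G} (hx : x ∈ N) (h' : x ∉ zn N) : Nonc N x :=
  ⟨hx, fun hc => h' ⟨hx, hc⟩⟩

omit [N.Normal] [Finite G] in
include h in
theorem cent_eq_of_le {x y : G} (hx : Nonc N x) (hy : Nonc N y)
    (hle : centralizer ({x} : Set G) ≤ centralizer ({y} : Set G)) :
    centralizer ({x} : Set G) = centralizer ({y} : Set G) := by
  rcases hle.lt_or_eq with hlt | heq
  · exact absurd ((h x hx.1 hx.2).2 _ hlt) (h y hy.1 hy.2).1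
  · exact heq

omit [Finite G] in
theorem cent_le_of_mem_zpowers {x y : G} (hy : y ∈ zpowers x) :
    centralizer ({x} : Set G) ≤ centralizer ({y} : Set G) := by
  obtain ⟨i, rfl⟩ := mem_zpowers_iff.1 hy
  exact fun g hg => mem_cent_iff.2 ((mem_cent_iff.1 hg).zpow_left i)

omit [N.Normal] in
include h in
/-- A noncentral element has a primary part with the same centraliser. -/
theorem exists_part {x : G} (hx : Nonc N x) :
    ∃ (r k : ℕ) (x' : G), r.Prime ∧ x' ∈ zpowers x ∧ orderOf x' = r ^ k ∧ Nonc N x' ∧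
      centralizer ({x} : Set G) = centralizer ({x'} : Set G) := by
  obtain ⟨r, k, x', hr, hxz, ho, hn, -⟩ := exists_primePart_notMem hx.2
  have hx' : Nonc N x' := ⟨(zpowers_le.2 hx.1) hxz, hn⟩
  exact ⟨r, k, x', hr, hxz, ho, hx', cent_eq_of_le h hx hx' (cent_le_of_mem_zpowers hxz)⟩

omit [N.Normal] in
include h in
/-- Commuting noncentral elements of coprime orders have the same centraliser. -/
theorem cent_eq_of_commute {x y : G} (hx : Nonc N x) (hy : Nonc N y) (hc : Commute x y)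
    (hcop : (orderOf x).Coprime (orderOf y)) :
    centralizer ({x} : Set G) = centralizer ({y} : Set G) := by
  have hgen : ∀ a b : G, Commute a b → (orderOf a).Coprime (orderOf b) → a ∈ zpowers (a * b) := by
    intro a b hab hcop
    obtain ⟨s, t, hst⟩ := Nat.isCoprime_iff_coprime.2 hcop
    refine mem_zpowers_iff.2 ⟨(orderOf b : ℤ) * t, ?_⟩
    rw [hab.mul_zpow, show b ^ ((orderOf b : ℤ) * t) = 1 by
      rw [zpow_mul, zpow_natCast, pow_orderOf_eq_one, one_zpow], mul_one,
      show (orderOf b : ℤ) * t = 1 + (orderOf a : ℤ) * (-s) by linear_combination hst,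
      zpow_add, zpow_mul, zpow_natCast, pow_orderOf_eq_one, one_zpow, mul_one, zpow_one]
  have hxz := hgen x y hc hcop
  have hyz : y ∈ zpowers (x * y) := hc.eq ▸ hgen y x hc.symm hcop.symm
  have hxy : Nonc N (x * y) := ⟨mul_mem hx.1 hy.1, fun hh =>
    hx.2 ((zpowers_le.2 hh) hxz)⟩
  exact (cent_eq_of_le h hxy hx (cent_le_of_mem_zpowers hxz)).symm.trans
    (cent_eq_of_le h hxy hy (cent_le_of_mem_zpowers hyz))

omit [N.Normal] in
include h in
/-- A nonabelian centraliser has only one prime modulo the centre of `N`. -/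
theorem exists_prime_of_not_comm {x : G} (hx : Nonc N x) (hna : ¬ IsMulCommutative (nc N x)) :
    ∃ p : ℕ, p.Prime ∧ ∀ (r k : ℕ) (z : G), r.Prime → z ∈ nc N x → orderOf z = r ^ k →
      Nonc N z → r = p := by
  obtain ⟨y, hy, hyn, hxy⟩ : ∃ y, y ∈ nc N x ∧ Nonc N y ∧
      centralizer ({y} : Set G) ≠ centralizer ({x} : Set G) := by
    by_contra hcon
    push Not at hcon
    apply hna
    refine ⟨⟨fun a b => Subtype.ext ?_⟩⟩
    show (a : G) * b = b * a
    by_cases ha : Nonc N a
    · have h1 : (b : G) ∈ centralizer ({(a : G)} : Set G) := (hcon a a.2 ha) ▸ b.2.1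
      exact (mem_cent_iff.1 h1).eq
    · have h1 : (a : G) ∈ centralizer (N : Set G) := by
        by_contra h2
        exact ha ⟨a.2.2, h2⟩
      exact (mem_centralizer_iff.1 h1 b b.2.2).symm
  obtain ⟨p, i, x', hp, hxz, hxo, hx', hxe⟩ := exists_part h hx
  obtain ⟨q, j, y', hq, hyz, hyo, hy', hye⟩ := exists_part h hyn
  have hy'm : y' ∈ nc N x := (zpowers_le.2 hy) hyz
  have hpq : p = q := by
    by_contra hne
    refine hxy ?_
    rw [hxe, hye]
    refine (cent_eq_of_commute h hx' hy' ?_ ?_).symm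
    · have h1 := hy'm.1
      rw [hxe] at h1
      exact mem_cent_iff.1 h1
    · rw [hxo, hyo]
      exact Nat.Coprime.pow _ _ ((Nat.coprime_primes hp hq).2 hne)
  refine ⟨p, hp, fun r k z hr hz hzo hzn => ?_⟩
  by_contra hne
  have h1 : centralizer ({x'} : Set G) = centralizer ({z} : Set G) := by
    refine cent_eq_of_commute h hx' hzn ?_ ?_
    · have h1 := hz.1
      rw [hxe] at h1
      exact mem_cent_iff.1 h1
    · rw [hxo, hzo]
      exact Nat.Coprime.pow _ _ ((Nat.coprime_primes hp hr).2 (Ne.symm hne))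
  refine hxy ?_
  rw [hye, hxe, h1]
  refine cent_eq_of_commute h hy' hzn ?_ ?_
  · have h2 : y' ∈ centralizer ({z} : Set G) := h1 ▸ hxe ▸ hy'm.1
    exact (mem_cent_iff.1 h2).symm
  · rw [hyo, hzo, ← hpq]
    exact Nat.Coprime.pow _ _ ((Nat.coprime_primes hp hr).2 (Ne.symm hne))

theorem isPGroup_map_of_parts {p : ℕ} [Fact p.Prime] {M : Subgroup G} (hMN : M ≤ N)
    (hM : ∀ (r k : ℕ) (z : G), r.Prime → z ∈ M → orderOf z = r ^ k → Nonc N z → r = p) :
    IsPGroup p (M.map (QuotientGroup.mk' (zn N))) := by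
  rintro ⟨_, g, hg, rfl⟩
  obtain ⟨k, m, hm, hkm⟩ := Nat.exists_eq_pow_mul_and_not_dvd (orderOf_pos g).ne' p
    (Nat.Prime.ne_one Fact.out)
  refine ⟨k, Subtype.ext ?_⟩
  show QuotientGroup.mk' (zn N) g ^ p ^ k = 1
  rw [← map_pow]
  refine (QuotientGroup.eq_one_iff _).2 ?_
  by_contra hc
  obtain ⟨r, i, z, hr, hz, hzo, hzn, hrd⟩ := exists_primePart_notMem hc
  have hzM : z ∈ M := (zpowers_le.2 (pow_mem hg _)) hz
  have := hM r i z hr hzM hzo (notMem_centralizer_of_notMem (hMN hzM) hzn)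
  subst this
  rw [orderOf_pow_of_dvd (pow_ne_zero _ hr.ne_zero) (hkm ▸ dvd_mul_right _ _), hkm,
    Nat.mul_div_cancel_left _ (pow_pos hr.pos _)] at hrd
  exact hm hrd

omit [Finite G] in
theorem cent_le_normalizer {x : G} :
    centralizer ({x} : Set G) ≤ normalizer (nc N x : Set G) := by
  intro g hg
  refine mem_normalizer_iff.2 fun y => ?_
  have hiff : g * y * g⁻¹ ∈ centralizer ({x} : Set G) ↔ y ∈ centralizer ({x} : Set G) := by
    rw [mul_mem_cancel_right (inv_mem hg), mul_mem_cancel_left hg]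
  refine ⟨fun hy => ⟨hiff.2 hy.1, Normal.conj_mem inferInstance y hy.2 g⟩, fun hy => ⟨hiff.1 hy.1, ?_⟩⟩
  have := Normal.conj_mem (inferInstance : N.Normal) _ hy.2 g⁻¹
  rwa [show g⁻¹ * (g * y * g⁻¹) * g⁻¹⁻¹ = y by group] at this

include h in
theorem normal_or_normalizer_eq {x : G} (hx : Nonc N x) :
    (nc N x).Normal ∨ normalizer (nc N x : Set G) = centralizer ({x} : Set G) := by
  rcases (cent_le_normalizer (N := N) (x := x)).lt_or_eq with hlt | heq
  · exact Or.inl (normalizer_eq_top_iff.1 ((h x hx.1 hx.2).2 _ hlt))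
  · exact Or.inr heq.symm

omit [N.Normal] [Finite G] in
theorem nc_ne {x : G} (hx : Nonc N x) : nc N x ≠ N := fun e =>
  hx.2 (mem_centralizer_iff.2 fun n hn => (mem_cent_iff.1 (e.ge hn).1).symm.eq)

/-- Elements of a normal subgroup together with a supplementing centraliser. -/
theorem exists_eq_mul {A : Subgroup G} [A.Normal] (hAN : A ≤ N) {x : G} (hx : Nonc N x)
    (hA : ¬ A ≤ centralizer ({x} : Set G)) (h' : Hyp N) {n : G} (hn : n ∈ N) :
    ∃ a ∈ A, ∃ l ∈ nc N x, n = a * l := by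
  have htop : A ⊔ centralizer ({x} : Set G) = ⊤ :=
    (h' x hx.1 hx.2).2 _ (lt_of_le_of_ne le_sup_right fun e => hA (le_sup_left.trans e.ge))
  obtain ⟨a, ha, l, hl, rfl⟩ := mem_sup_of_normal_left.1 (htop ▸ mem_top n)
  exact ⟨a, ha, l, ⟨hl, by simpa using mul_mem (inv_mem (hAN ha)) hn⟩, rfl⟩

/-- If `N` modulo its centre is a `p`-group, it is elementary abelian. -/
theorem elementary_of_isPGroup {p : ℕ} [Fact p.Prime] (h' : Hyp N)
    (hp : IsPGroup p (N.map (QuotientGroup.mk' (zn N)))) :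
    ∀ a ∈ N, ∀ b ∈ N, a * b * a⁻¹ * b⁻¹ ∈ zn N ∧ a ^ p ∈ zn N := by
  set π := QuotientGroup.mk' (zn N)
  set Nb := N.map π with hNb
  let F := (frattini Nb).map Nb.subtype
  haveI hFn : F.Normal := inferInstance
  let Ft := F.comap π
  haveI : Ft.Normal := inferInstance
  have hZF : zn N ≤ Ft := fun z hz => by
    rw [mem_comap, show π z = 1 from (QuotientGroup.eq_one_iff z).2 hz]
    exact one_mem _
  have hFtN : Ft ≤ N := by
    intro g hg
    obtain ⟨n, hn, hne⟩ : π g ∈ Nb := map_subtype_le _ hg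
    have : n⁻¹ * g ∈ zn N := (QuotientGroup.eq).1 hne
    have h2 := mul_mem hn this.1
    rwa [mul_inv_cancel_left] at h2
  have key : Ft ≤ centralizer (N : Set G) := by
    intro g hg
    rw [mem_centralizer_iff]
    intro x hxN
    by_cases hxc : x ∈ centralizer (N : Set G)
    · exact (mem_centralizer_iff.1 hxc g (hFtN hg)).symm
    have hx : Nonc N x := ⟨hxN, hxc⟩
    refine (mem_cent_iff.1 (?_ : g ∈ centralizer ({x} : Set G))).eq
    by_contra hgx
    apply nc_ne hx
    refine le_antisymm inf_le_right fun n hn => ?_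
    have hsup : (nc N x).map π ⊔ F = Nb := by
      refine le_antisymm (sup_le (Subgroup.map_mono inf_le_right) (map_subtype_le _)) ?_
      rintro _ ⟨m, hm, rfl⟩
      obtain ⟨a, ha, l, hl, rfl⟩ := exists_eq_mul hFtN hx (fun hle => hgx (hle hg)) h' hm
      rw [map_mul]
      exact mul_mem (le_sup_right (a := (nc N x).map π) ha)
        (le_sup_left (b := F) (mem_map_of_mem π hl))
    have hM : ((nc N x).map π).subgroupOf Nb ⊔ frattini Nb = ⊤ := by
      apply map_injective Nb.subtype_injective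
      rw [Subgroup.map_sup, map_subgroupOf_eq_of_le (Subgroup.map_mono inf_le_right),
        ← MonoidHom.range_eq_map, range_subtype]
      exact hsup
    have hMtop := frattini_nongenerating hM
    rw [subgroupOf_eq_top] at hMtop
    obtain ⟨m, hm, hmn⟩ := hMtop (mem_map_of_mem π hn)
    have : m⁻¹ * n ∈ zn N := (QuotientGroup.eq).1 hmn
    have h2 := mul_mem hm (zn_le_nc hxN this)
    rwa [mul_inv_cancel_left] at h2
  have hFbot : ∀ g ∈ Ft, g ∈ zn N := fun g hg => ⟨hFtN hg, key hg⟩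
  intro a ha b hb
  have hamem : π a ∈ Nb := mem_map_of_mem π ha
  have hbmem : π b ∈ Nb := mem_map_of_mem π hb
  constructor
  · refine hFbot _ ?_
    rw [mem_comap]
    refine ⟨⁅(⟨π a, hamem⟩ : Nb), ⟨π b, hbmem⟩⁆, CfsgLib.PGroups.commutatorElement_mem_frattini hp _ _, ?_⟩
    simp [commutatorElement_def]
  · refine hFbot _ ?_
    rw [mem_comap]
    exact ⟨(⟨π a, hamem⟩ : Nb) ^ p, CfsgLib.PGroups.pow_mem_frattini hp _, by simp⟩

end

end CfsgLib.HallClasses.MaxCent
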