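import Mathlib
import Cfsg.Agent.Lib.TwoGroups.RankOne

/-!
Geometric sums `1 + q + ⋯ + q^(j-1)` for `q ≡ 1` modulo an odd prime.
-/

set_option autoImplicit false

namespace CfsgLib.HallClasses.Geom

/-- The geometric sum. -/
def gs (q : ℤ) (j : ℕ) : ℤ := ∑ t ∈ Finset.range j, q ^ t

theorem gs_mul_sub_one (q : ℤ) (j : ℕ) : gs q j * (q - 1) = q ^ j - 1 := geom_sum_mul q j

theorem gs_add (q : ℤ) (A B : ℕ) : gs q (A + B) = gs q A + q ^ A * gs q B := by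
  simp only [gs, Finset.sum_range_add, Finset.mul_sum, ← pow_add]

theorem gs_mul (q : ℤ) (A B : ℕ) : gs q (A * B) = gs q A * gs (q ^ A) B := by
  induction B with
  | zero => simp [gs]
  | succ B ih =>
    rw [Nat.mul_succ, gs_add, ih, gs_add (q ^ A) B 1]
    simp only [gs, Finset.sum_range_one, pow_zero, mul_one, ← pow_mul]
    ring

variable {p : ℕ} [hp : Fact p.Prime]

omit hp in
theorem pow_sub_one {q : ℤ} (hq : (p : ℤ) ∣ q - 1) (N : ℕ) : (p : ℤ) ∣ q ^ N - 1 :=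
  hq.trans (sub_one_dvd_pow_sub_one q N)

/-- `1 + q + ⋯ + q ^ (p^v - 1)` is `p ^ v` times a unit modulo `p`. -/
theorem exists_gs_prime_pow (hp2 : p ≠ 2) {q : ℤ} (hq : (p : ℤ) ∣ q - 1) (v : ℕ) :
    ∃ u : ℤ, IsCoprime u (p : ℤ) ∧ gs q (p ^ v) = (p : ℤ) ^ v * u := by
  induction v generalizing q with
  | zero => exact ⟨1, isCoprime_one_left, by simp [gs]⟩
  | succ v ih =>
    obtain ⟨u₁, hu₁, h₁⟩ := CfsgLib.TwoGroups.geom_sum_eq_mul (hp.out.odd_of_ne_two hp2) hq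
    obtain ⟨u₂, hu₂, h₂⟩ := ih (pow_sub_one hq p)
    refine ⟨u₁ * u₂, hu₁.mul_left hu₂, ?_⟩
    rw [pow_succ' p v, gs_mul, h₂, show gs q p = (p : ℤ) * u₁ from h₁]
    ring

omit hp in
theorem gs_modEq {q : ℤ} (hq : (p : ℤ) ∣ q - 1) (j : ℕ) : (p : ℤ) ∣ gs q j - j := by
  induction j with
  | zero => simp [gs]
  | succ j ih =>
    rw [gs_add, show gs q j + q ^ j * gs q 1 - ((j + 1 : ℕ) : ℤ) =
      (gs q j - j) + (q ^ j - 1) by simp [gs]; ring]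
    exact dvd_add ih (pow_sub_one hq j)

theorem dvd_mul_unit {u : ℤ} (hu : IsCoprime u (p : ℤ)) (k : ℕ) (z : ℤ) :
    (p : ℤ) ^ k ∣ z * u ↔ (p : ℤ) ^ k ∣ z :=
  ⟨fun h => (IsCoprime.pow_left (IsCoprime.symm hu)).dvd_of_dvd_mul_right h, fun h => h.mul_right u⟩

theorem dvd_pow_mul_iff {k v : ℕ} {z : ℤ} : (p : ℤ) ^ k ∣ (p : ℤ) ^ v * z ↔ (p : ℤ) ^ (k - v) ∣ z := by
  have hp0 : (p : ℤ) ≠ 0 := Int.natCast_ne_zero.2 hp.out.ne_zero
  rcases Nat.le_total k v with h | h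
  · rw [Nat.sub_eq_zero_of_le h, pow_zero]
    exact ⟨fun _ => one_dvd _, fun _ => (pow_dvd_pow _ h).mul_right z⟩
  · conv_lhs => rw [← Nat.add_sub_cancel' h, pow_add]
    exact mul_dvd_mul_iff_left (pow_ne_zero _ hp0)

theorem dvd_gs_iff (hp2 : p ≠ 2) {q : ℤ} (hq : (p : ℤ) ∣ q - 1) (k j : ℕ) :
    (p : ℤ) ^ k ∣ gs q j ↔ (p : ℤ) ^ k ∣ (j : ℤ) := by
  rcases Nat.eq_zero_or_pos j with rfl | hj
  · simp [gs]
  obtain ⟨v, j', hj', rfl⟩ := Nat.exists_eq_pow_mul_and_not_dvd hj.ne' p hp.out.ne_one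
  have hnd : ¬ (p : ℤ) ∣ (j' : ℤ) := fun h => hj' (Int.natCast_dvd_natCast.1 h)
  have hcop : IsCoprime (j' : ℤ) (p : ℤ) :=
    ((Nat.prime_iff_prime_int.1 hp.out).coprime_iff_not_dvd.2 hnd).symm
  obtain ⟨u, hu, h⟩ := exists_gs_prime_pow hp2 hq v
  have hu' : IsCoprime (gs (q ^ p ^ v) j') (p : ℤ) := by
    obtain ⟨c, hc⟩ := gs_modEq (pow_sub_one hq (p ^ v)) j'
    rw [show gs (q ^ p ^ v) j' = (j' : ℤ) + p * c by linarith]
    exact hcop.add_mul_left_left c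
  rw [gs_mul, h, mul_assoc, dvd_pow_mul_iff, mul_comm u, dvd_mul_unit hu, Nat.cast_mul, Nat.cast_pow,
    dvd_pow_mul_iff]
  rw [← one_mul (gs _ _), dvd_mul_unit hu', ← one_mul ((j' : ℤ)), dvd_mul_unit hcop]

/-- Congruent bases give more congruent sums. -/
theorem gs_congr (hp2 : p ≠ 2) {q q' : ℤ} (hq : (p : ℤ) ∣ q - 1) (hq' : (p : ℤ) ∣ q' - 1) {K : ℕ}
    (h : (p : ℤ) ^ (K + 1) ∣ q - q') (v : ℕ) :
    (p : ℤ) ^ (v + K) ∣ gs q (p ^ v) - gs q' (p ^ v) := by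
  induction v generalizing q q' with
  | zero => simp [gs]
  | succ v ih =>
    have hA : (p : ℤ) ^ (K + 1) ∣ gs q p - gs q' p := by
      simp only [gs, ← Finset.sum_sub_distrib]
      exact Finset.dvd_sum fun t _ => h.trans (sub_dvd_pow_sub_pow q q' t)
    have hB := ih (pow_sub_one hq p) (pow_sub_one hq' p) (h.trans (sub_dvd_pow_sub_pow q q' p))
    obtain ⟨u, -, hu⟩ := exists_gs_prime_pow hp2 (pow_sub_one hq p) v
    obtain ⟨u', -, hu'⟩ := exists_gs_prime_pow hp2 hq' 1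
    rw [pow_succ' p v, gs_mul, gs_mul,
      show gs q p * gs (q ^ p) (p ^ v) - gs q' p * gs (q' ^ p) (p ^ v) =
        (gs q p - gs q' p) * gs (q ^ p) (p ^ v) +
          gs q' p * (gs (q ^ p) (p ^ v) - gs (q' ^ p) (p ^ v)) by ring]
    refine dvd_add ?_ ?_
    · rw [hu, show v + 1 + K = (K + 1) + v by omega, pow_add]
      exact mul_dvd_mul hA (dvd_mul_right _ _)
    · rw [pow_one, pow_one] at hu'
      rw [hu', show v + 1 + K = 1 + (v + K) by omega, pow_add, pow_one]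
      exact mul_dvd_mul (dvd_mul_right _ _) hB

end CfsgLib.HallClasses.Geom
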