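import Mathlib
import Cfsg.Prelude.Def_OddOrderLocal
import Cfsg.Agent.Lib.HallClasses.MetacyclicGeom
import Cfsg.Agent.Lib.HallClasses.CyclicSubgroups

/-!
Finite metacyclic `p`-groups for odd `p`: normal form, centre, commutator, centralisers.
-/

set_option autoImplicit false

namespace CfsgLib.HallClasses

open Subgroup
open Geom (gs)

variable {G : Type*} [Group G]

/-- Subgroups of a cyclic `p`-group in terms of a generator. -/
theorem exists_eq_zpowers_pow [Finite G] {p : ℕ} [hp : Fact p.Prime] {x : G} {e : ℕ}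
    (hx : orderOf x = p ^ e) (U : Subgroup G) (hU : U ≤ zpowers x) :
    ∃ β ≤ e, Nat.card U = p ^ (e - β) ∧ ∀ i : ℤ, x ^ i ∈ U ↔ (p : ℤ) ^ β ∣ i := by
  obtain ⟨c, hc, hc'⟩ := (Nat.dvd_prime_pow hp.out).1
    (show Nat.card U ∣ p ^ e by rw [← hx, ← Nat.card_zpowers]; exact card_dvd_of_le hU)
  have hy : Nat.card (zpowers (x ^ p ^ (e - c))) = p ^ c := by
    rw [Nat.card_zpowers, orderOf_pow, hx, Nat.gcd_eq_right (pow_dvd_pow p (Nat.sub_le e c)),
      Nat.pow_div (Nat.sub_le e c) hp.out.pos, Nat.sub_sub_self hc]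
  have hle : zpowers (x ^ p ^ (e - c)) ≤ zpowers x := zpowers_le.2 (pow_mem (mem_zpowers x) _)
  have heq : U = zpowers (x ^ p ^ (e - c)) :=
    le_antisymm (le_of_card_dvd_of_isCyclic hU hle (hc'.trans hy.symm).dvd)
      (le_of_card_dvd_of_isCyclic hle hU (hy.trans hc'.symm).dvd)
  refine ⟨e - c, Nat.sub_le e c, by rw [hc', Nat.sub_sub_self hc], fun i => ?_⟩
  rw [heq, mem_zpowers_iff]
  constructor
  · rintro ⟨k, hk⟩
    rw [← zpow_natCast, ← zpow_mul, zpow_eq_zpow_iff_modEq, hx, Int.modEq_iff_dvd] at hk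
    have h1 : ((p ^ (e - c) : ℕ) : ℤ) ∣ i - ((p ^ (e - c) : ℕ) : ℤ) * k :=
      (Int.natCast_dvd_natCast.2 (pow_dvd_pow p (Nat.sub_le e c))).trans hk
    have h2 := dvd_add h1 (dvd_mul_right ((p ^ (e - c) : ℕ) : ℤ) k)
    rw [sub_add_cancel, Nat.cast_pow] at h2
    exact h2
  · rintro ⟨k, rfl⟩
    exact ⟨k, by rw [← zpow_natCast, ← zpow_mul, Nat.cast_pow]⟩

/-- Generators and parameters of a metacyclic `p`-group. -/
structure MetaData (G : Type*) [Group G] (p : ℕ) where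
  a : G
  b : G
  r : ℤ
  m : ℕ
  n : ℕ
  e : ℕ
  ha : orderOf a = p ^ m
  hN : (zpowers a).Normal
  hconj : b * a * b⁻¹ = a ^ r
  hr : (p : ℤ) ∣ r - 1
  hgen : ∀ g : G, ∃ (i : ℤ) (j : ℕ), a ^ i * b ^ j = g
  hn : ∀ z : ℤ, a ^ ((r - 1) * z) = 1 ↔ (p : ℤ) ^ n ∣ z
  he : ∀ j : ℕ, b ^ j ∈ zpowers a ↔ p ^ e ∣ j
  hnorder : orderOf (a ^ (r - 1)) = p ^ n

namespace MetaData

variable {p : ℕ} [hp : Fact p.Prime]

theorem exists_data [Finite G] (hG : IsPGroup p G) (hmc : Cfsg.IsMetacyclic G) :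
    Nonempty (MetaData G p) := by
  obtain ⟨N, hN, hNc, hQc⟩ := hmc
  obtain ⟨a, ha⟩ := (Subgroup.isCyclic_iff_exists_zpowers_eq_top N).1 hNc
  subst ha
  obtain ⟨β, hβ⟩ := isCyclic_iff_exists_zpowers_eq_top.1 hQc
  obtain ⟨b, rfl⟩ := QuotientGroup.mk'_surjective (zpowers a) β
  obtain ⟨m, hm⟩ := IsPGroup.iff_orderOf.1 hG a
  obtain ⟨e, he⟩ := IsPGroup.iff_orderOf.1 (hG.to_quotient (zpowers a)) (QuotientGroup.mk' (zpowers a) b)
  have hbe : ∀ j : ℕ, b ^ j ∈ zpowers a ↔ p ^ e ∣ j := fun j => by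
    rw [← QuotientGroup.eq_one_iff, ← he, orderOf_dvd_iff_pow_eq_one]
    simp
  have hgen : ∀ g : G, ∃ (i : ℤ) (j : ℕ), a ^ i * b ^ j = g := fun g => by
    have hmem : QuotientGroup.mk' (zpowers a) g ∈ zpowers (QuotientGroup.mk' (zpowers a) b) :=
      hβ ▸ mem_top _
    obtain ⟨j, hj⟩ := mem_powers_iff_mem_zpowers.2 hmem
    have h1 : g * (b ^ j)⁻¹ ∈ zpowers a := by
      rw [← QuotientGroup.eq_one_iff]
      show QuotientGroup.mk' (zpowers a) (g * (b ^ j)⁻¹) = 1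
      rw [map_mul, map_inv, map_pow, ← hj]
      exact mul_inv_cancel _
    obtain ⟨i, hi⟩ := mem_zpowers_iff.1 h1
    exact ⟨i, j, by rw [hi, inv_mul_cancel_right]⟩
  obtain ⟨r, hr, hrp⟩ : ∃ r : ℤ, b * a * b⁻¹ = a ^ r ∧ (p : ℤ) ∣ r - 1 := by
    by_cases ha1 : a = 1
    · exact ⟨1, by simp [ha1], by simp⟩
    obtain ⟨r, hr⟩ := mem_zpowers_iff.1 (hN.conj_mem a (mem_zpowers a) b)
    refine ⟨r, hr.symm, ?_⟩
    have hpow : ∀ k : ℕ, b ^ k * a * (b ^ k)⁻¹ = a ^ (r ^ k) := by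
      intro k
      induction k with
      | zero => simp
      | succ k ih =>
        rw [pow_succ', show b * b ^ k * a * (b * b ^ k)⁻¹ = b * (b ^ k * a * (b ^ k)⁻¹) * b⁻¹ by group,
          ih, ← conj_zpow, ← hr, ← zpow_mul, pow_succ']
    obtain ⟨s, hs⟩ := IsPGroup.iff_orderOf.1 hG b
    have h1 := hpow (p ^ s)
    rw [← hs, pow_orderOf_eq_one, one_mul, inv_one, mul_one, hs] at h1
    have h2 : ((p ^ m : ℕ) : ℤ) ∣ r ^ p ^ s - 1 := by
      rw [← hm, orderOf_dvd_sub_iff_zpow_eq_zpow, zpow_one]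
      exact h1.symm
    have hm0 : m ≠ 0 := fun h => ha1 (orderOf_eq_one_iff.1 (by rw [hm, h, pow_zero]))
    have h3 : (p : ℤ) ∣ r ^ p ^ s - 1 := (Int.natCast_dvd_natCast.2 (dvd_pow_self p hm0)).trans h2
    rw [← ZMod.intCast_zmod_eq_zero_iff_dvd] at h3 ⊢
    push_cast at h3 ⊢
    rwa [ZMod.pow_card_pow] at h3
  obtain ⟨n, hn⟩ := IsPGroup.iff_orderOf.1 hG (a ^ (r - 1))
  exact ⟨{ a := a, b := b, r := r, m := m, n := n, e := e, ha := hm, hN := hN, hconj := hr,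
           hr := hrp, hgen := hgen, he := hbe, hnorder := hn
           hn := fun z => by rw [zpow_mul, ← orderOf_dvd_iff_zpow_eq_one, hn, Nat.cast_pow] }⟩

variable (D : MetaData G p)

omit hp in
theorem pow_conj (j : ℕ) (i : ℤ) : D.b ^ j * D.a ^ i * (D.b ^ j)⁻¹ = D.a ^ (i * D.r ^ j) := by
  induction j generalizing i with
  | zero => simp
  | succ j ih =>
    rw [pow_succ, show D.b ^ j * D.b * D.a ^ i * (D.b ^ j * D.b)⁻¹ =
      D.b ^ j * (D.b * D.a ^ i * D.b⁻¹) * (D.b ^ j)⁻¹ by group, ← conj_zpow, D.hconj, ← zpow_mul, ih,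
      pow_succ]
    congr 1
    ring

omit hp in
theorem mul_eq (i k : ℤ) (j l : ℕ) :
    (D.a ^ i * D.b ^ j) * (D.a ^ k * D.b ^ l) = D.a ^ (i + k * D.r ^ j) * D.b ^ (j + l) := by
  rw [zpow_add, ← D.pow_conj, pow_add]
  group

omit hp in
theorem commute_iff (i k : ℤ) (j l : ℕ) :
    Commute (D.a ^ i * D.b ^ j) (D.a ^ k * D.b ^ l) ↔
      (p : ℤ) ^ D.n ∣ k * gs D.r j - i * gs D.r l := by
  rw [Commute, SemiconjBy, D.mul_eq, D.mul_eq, add_comm l j, mul_right_cancel_iff, ← mul_inv_eq_one,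
    ← zpow_sub, ← D.hn]
  congr! 2
  linear_combination (-k) * Geom.gs_mul_sub_one D.r j + i * Geom.gs_mul_sub_one D.r l

omit hp in
theorem pow_eq (i : ℤ) (j N : ℕ) :
    (D.a ^ i * D.b ^ j) ^ N = D.a ^ (i * gs (D.r ^ j) N) * D.b ^ (j * N) := by
  induction N with
  | zero => simp [gs]
  | succ N ih =>
    rw [pow_succ', ih, D.mul_eq, Nat.mul_succ, add_comm (j * N)]
    congr 2
    simp only [gs]
    rw [geom_sum_succ]
    ring

omit hp in
theorem r_pow (j : ℕ) : (p : ℤ) ∣ D.r ^ j - 1 := Geom.pow_sub_one D.hr j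

theorem mem_center_iff' (hp2 : p ≠ 2) (i : ℤ) (j : ℕ) :
    D.a ^ i * D.b ^ j ∈ center G ↔ (p : ℤ) ^ D.n ∣ i ∧ (p : ℤ) ^ D.n ∣ (j : ℤ) := by
  constructor
  · intro h
    have ha := (D.commute_iff i 1 j 0).1 (mem_center_iff.1 h _).symm
    have hb := (D.commute_iff i 0 j 1).1 (mem_center_iff.1 h _).symm
    simp [gs] at ha hb
    exact ⟨hb, (Geom.dvd_gs_iff hp2 D.hr _ _).1 ha⟩
  · rintro ⟨hi, hj⟩
    refine mem_center_iff.2 fun g => ?_
    obtain ⟨k, l, rfl⟩ := D.hgen g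
    exact ((D.commute_iff i k j l).2 (dvd_sub
      (((Geom.dvd_gs_iff hp2 D.hr _ _).2 hj).mul_left k) (hi.mul_right _))).symm.eq

theorem n_le_m : D.n ≤ D.m := by
  have h : (p : ℤ) ^ D.n ∣ ((p ^ D.m : ℕ) : ℤ) := by
    rw [← D.hn, mul_comm, zpow_mul, zpow_natCast, ← D.ha, pow_orderOf_eq_one, one_zpow]
  rw [Nat.cast_pow] at h
  exact (Nat.pow_dvd_pow_iff_le_right hp.out.one_lt).1 (Int.natCast_dvd_natCast.1 (by push_cast; exact h))

theorem exists_w (hp2 : p ≠ 2) :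
    D.n ≤ D.e ∧ ∃ w : ℤ, D.b ^ p ^ D.e = D.a ^ w ∧ (p : ℤ) ^ D.n ∣ w := by
  obtain ⟨w, hw⟩ := mem_zpowers_iff.1 ((D.he _).2 dvd_rfl)
  have h1 : Commute (D.a ^ (0 : ℤ) * D.b ^ p ^ D.e) (D.a ^ (1 : ℤ) * D.b ^ 0) := by
    rw [zpow_zero, one_mul, pow_zero, mul_one, zpow_one, ← hw]
    exact (Commute.refl D.a).zpow_left w
  have h2 : Commute (D.a ^ w * D.b ^ 0) (D.a ^ (0 : ℤ) * D.b ^ 1) := by
    rw [zpow_zero, one_mul, pow_zero, mul_one, pow_one, hw]
    exact (Commute.refl D.b).pow_left _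
  rw [D.commute_iff] at h1 h2
  simp [gs] at h2
  have h3 : (p : ℤ) ^ D.n ∣ gs D.r (p ^ D.e) := by simpa [gs] using h1
  rw [Geom.dvd_gs_iff hp2 D.hr, Nat.cast_pow] at h3
  exact ⟨(Nat.pow_dvd_pow_iff_le_right hp.out.one_lt).1
    (Int.natCast_dvd_natCast.1 (by push_cast; exact h3)), w, hw.symm, h2⟩

variable [Finite G]

/-- The invariants `α`, `β` of a subgroup. -/
theorem exists_invariants (M : Subgroup G) :
    ∃ (α β : ℕ) (x : ℤ), α ≤ D.m ∧ β ≤ D.e ∧ (∀ i : ℤ, D.a ^ i ∈ M ↔ (p : ℤ) ^ α ∣ i) ∧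
      D.a ^ x * D.b ^ p ^ β ∈ M ∧ (∀ (i : ℤ) (j : ℕ), D.a ^ i * D.b ^ j ∈ M → p ^ β ∣ j) ∧
      Nat.card M = p ^ (D.m - α) * p ^ (D.e - β) := by
  haveI := D.hN
  obtain ⟨α, hα, hαc, hαi⟩ := exists_eq_zpowers_pow D.ha (M ⊓ zpowers D.a) inf_le_right
  let π := QuotientGroup.mk' (zpowers D.a)
  have hπb : orderOf (π D.b) = p ^ D.e := by
    refine Nat.dvd_antisymm (orderOf_dvd_of_pow_eq_one ?_) ((D.he _).1 ?_)
    · rw [← map_pow]
      exact (QuotientGroup.eq_one_iff _).2 ((D.he _).2 dvd_rfl)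
    · rw [← QuotientGroup.eq_one_iff]
      show π (D.b ^ orderOf (π D.b)) = 1
      rw [map_pow, pow_orderOf_eq_one]
  have hπa : ∀ i : ℤ, π (D.a ^ i) = 1 := fun i =>
    (QuotientGroup.eq_one_iff _).2 (zpow_mem (mem_zpowers _) i)
  have hMle : M.map π ≤ zpowers (π D.b) := by
    rintro _ ⟨g, -, rfl⟩
    obtain ⟨i, j, rfl⟩ := D.hgen g
    rw [map_mul, hπa, one_mul, map_pow]
    exact pow_mem (mem_zpowers _) _
  obtain ⟨β, hβ, hβc, hβi⟩ := exists_eq_zpowers_pow hπb (M.map π) hMle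
  have hmem : ∀ i : ℤ, D.a ^ i ∈ M ↔ (p : ℤ) ^ α ∣ i := fun i => by
    rw [← hαi i, mem_inf]
    exact ⟨fun h => ⟨h, zpow_mem (mem_zpowers _) i⟩, fun h => h.1⟩
  obtain ⟨x, hx⟩ : ∃ x : ℤ, D.a ^ x * D.b ^ p ^ β ∈ M := by
    have h1 : π D.b ^ ((p ^ β : ℕ) : ℤ) ∈ M.map π := (hβi _).2 (by push_cast; exact dvd_rfl)
    rw [zpow_natCast, ← map_pow] at h1
    obtain ⟨g, hg, hgb⟩ := h1
    have h2 : g * (D.b ^ p ^ β)⁻¹ ∈ zpowers D.a := by
      rw [← QuotientGroup.eq_one_iff]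
      show π (g * (D.b ^ p ^ β)⁻¹) = 1
      rw [map_mul, map_inv, show π g = π (D.b ^ p ^ β) from hgb, mul_inv_cancel]
    obtain ⟨x, hx⟩ := mem_zpowers_iff.1 h2
    exact ⟨x, by rw [hx, inv_mul_cancel_right]; exact hg⟩
  refine ⟨α, β, x, hα, hβ, hmem, hx, fun i j h => ?_, ?_⟩
  · have h1 : π D.b ^ (j : ℤ) ∈ M.map π := by
      rw [zpow_natCast, ← map_pow]
      exact ⟨_, h, by rw [map_mul, hπa, one_mul]⟩
    exact Int.natCast_dvd_natCast.1 (by push_cast; exact (hβi _).1 h1)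
  · let f := π.comp M.subtype
    have hr : f.range = M.map π := by rw [MonoidHom.range_comp, range_subtype]
    have hk : Nat.card f.ker = Nat.card (M ⊓ zpowers D.a : Subgroup G) := by
      rw [← MonoidHom.comap_ker, QuotientGroup.ker_mk', ← card_map_of_injective M.subtype_injective]
      rw [show map M.subtype (comap M.subtype (zpowers D.a)) = M ⊓ zpowers D.a from
        (subgroupOf_map_subtype (zpowers D.a) M).trans (inf_comm _ _)]
    rw [← card_mul_index f.ker, index_ker, hr, hk, hαc, hβc]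

include D in
theorem card_eq : Nat.card G = p ^ D.m * p ^ D.e := by
  obtain ⟨α, β, x, hα, hβ, ha, hx, hj, hc⟩ := D.exists_invariants ⊤
  have hα0 : α = 0 := by
    have h := (ha 1).1 (mem_top _)
    by_contra h0
    exact hp.out.ne_one (Nat.dvd_one.1 (Int.natCast_dvd_natCast.1
      ((dvd_pow_self (p : ℤ) h0).trans h)))
  have hβ0 : β = 0 := by
    have h := hj 0 1 (mem_top _)
    by_contra h0
    exact hp.out.ne_one (Nat.dvd_one.1 ((dvd_pow_self p h0).trans h))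
  rw [card_top, hα0, hβ0] at hc
  simpa using hc

omit hp [Finite G] in
theorem commutator_eq : commutator G = zpowers (D.a ^ (D.r - 1)) := by
  have hn : (zpowers (D.a ^ (D.r - 1))).Normal := ⟨fun x hx g => by
    obtain ⟨k, rfl⟩ := mem_zpowers_iff.1 hx
    obtain ⟨i, j, rfl⟩ := D.hgen g
    refine mem_zpowers_iff.2 ⟨k * D.r ^ j, ?_⟩
    rw [← zpow_mul, ← zpow_mul, show D.a ^ i * D.b ^ j * D.a ^ ((D.r - 1) * k) * (D.a ^ i * D.b ^ j)⁻¹ =
      D.a ^ i * (D.b ^ j * D.a ^ ((D.r - 1) * k) * (D.b ^ j)⁻¹) * (D.a ^ i)⁻¹ by group, D.pow_conj,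
      ← zpow_add, ← zpow_neg, ← zpow_add]
    congr 1
    ring⟩
  refine le_antisymm ?_ (zpowers_le.2 ?_)
  · rw [_root_.commutator_def, commutator_le]
    intro g _ h _
    obtain ⟨i, j, rfl⟩ := D.hgen g
    obtain ⟨k, l, rfl⟩ := D.hgen h
    refine mem_zpowers_iff.2 ⟨k * gs D.r j - i * gs D.r l, ?_⟩
    rw [commutatorElement_def, ← zpow_mul]
    rw [eq_mul_inv_iff_mul_eq, eq_mul_inv_iff_mul_eq, D.mul_eq i k j l,
      mul_assoc, D.mul_eq k i l j, ← mul_assoc, ← zpow_add, add_comm l j]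
    congr 2
    linear_combination k * Geom.gs_mul_sub_one D.r j - i * Geom.gs_mul_sub_one D.r l
  · rw [zpow_sub, zpow_one, ← D.hconj]
    have := commutator_mem_commutator (mem_top D.b) (mem_top D.a)
    rw [← _root_.commutator_def] at this
    simpa [commutatorElement_def] using this

omit hp [Finite G] in
theorem card_commutator : Nat.card (commutator G) = p ^ D.n := by
  rw [D.commutator_eq, Nat.card_zpowers, D.hnorder]

include D in
theorem center_invariants (hp2 : p ≠ 2) :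
    Nat.card (center G) = p ^ (D.m - D.n) * p ^ (D.e - D.n) := by
  obtain ⟨α, β, x, hα, hβ, ha, hx, hj, hc⟩ := D.exists_invariants (center G)
  have hz : ∀ i : ℤ, D.a ^ i ∈ center G ↔ (p : ℤ) ^ D.n ∣ i := fun i => by
    simpa using D.mem_center_iff' hp2 i 0
  have hα' : α = D.n := by
    refine le_antisymm ?_ ?_
    · exact (Nat.pow_dvd_pow_iff_le_right hp.out.one_lt).1 (Int.natCast_dvd_natCast.1
        (by push_cast; exact (ha _).1 ((hz _).2 dvd_rfl)))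
    · exact (Nat.pow_dvd_pow_iff_le_right hp.out.one_lt).1 (Int.natCast_dvd_natCast.1
        (by push_cast; exact (hz _).1 ((ha _).2 dvd_rfl)))
  have hβ' : β = D.n := by
    refine le_antisymm ?_ ?_
    · refine (Nat.pow_dvd_pow_iff_le_right hp.out.one_lt).1 (hj 0 (p ^ D.n) ?_)
      rw [D.mem_center_iff' hp2]
      exact ⟨dvd_zero _, by push_cast; exact dvd_rfl⟩
    · have h := ((D.mem_center_iff' hp2 _ _).1 hx).2
      exact (Nat.pow_dvd_pow_iff_le_right hp.out.one_lt).1 (Int.natCast_dvd_natCast.1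
        (by push_cast; exact_mod_cast h))
  rw [hc, hα', hβ']

include D in
/-- The centraliser of a subgroup containing the centre. -/
theorem card_mul_card_centralizer (hp2 : p ≠ 2) {M : Subgroup G} (hZ : center G ≤ M) :
    Nat.card M * Nat.card (centralizer (M : Set G)) = Nat.card G * Nat.card (center G) := by
  obtain ⟨hne, -⟩ := D.exists_w hp2
  have hnm := D.n_le_m
  obtain ⟨α, β, x, hα, hβ, ha, hx, hj, hc⟩ := D.exists_invariants M
  obtain ⟨α', β', x', hα', hβ', ha', hx', hj', hc'⟩ := D.exists_invariants (centralizer (M : Set G))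
  have hαn : α ≤ D.n := by
    have h : D.a ^ ((p : ℤ) ^ D.n) ∈ M :=
      hZ (by simpa using (D.mem_center_iff' hp2 ((p : ℤ) ^ D.n) 0).2 ⟨dvd_rfl, dvd_zero _⟩)
    exact (Nat.pow_dvd_pow_iff_le_right hp.out.one_lt).1 (Int.natCast_dvd_natCast.1
      (by push_cast; exact (ha _).1 h))
  have hbn : D.b ^ p ^ D.n ∈ M :=
    hZ (by simpa using (D.mem_center_iff' hp2 0 (p ^ D.n)).2 ⟨dvd_zero _, by push_cast; exact dvd_rfl⟩)
  have hβn : β ≤ D.n := (Nat.pow_dvd_pow_iff_le_right hp.out.one_lt).1 (hj 0 _ (by simpa using hbn))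
  -- the constraint on `x`
  have hxα : (p : ℤ) ^ α ∣ x * (p : ℤ) ^ (D.n - β) := by
    have h1 := pow_mem hx (p ^ (D.n - β))
    rw [D.pow_eq, ← pow_add, Nat.add_sub_cancel' hβn] at h1
    have h2 := (ha _).1 (by simpa using mul_mem h1 (inv_mem hbn))
    obtain ⟨u, hu, he⟩ := Geom.exists_gs_prime_pow hp2 (D.r_pow (p ^ β)) (D.n - β)
    rw [he, ← mul_assoc] at h2
    exact (Geom.dvd_mul_unit hu α _).1 h2
  have hmem : ∀ (k : ℤ) (l : ℕ), D.a ^ k * D.b ^ l ∈ centralizer (M : Set G) ↔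
      (p : ℤ) ^ D.n ∣ (p : ℤ) ^ α * gs D.r l ∧
        (p : ℤ) ^ D.n ∣ x * gs D.r l - k * gs D.r (p ^ β) := by
    intro k l
    constructor
    · intro h
      have hA : D.a ^ ((p : ℤ) ^ α) * D.b ^ 0 ∈ M := by simpa using (ha _).2 dvd_rfl
      have h1 := (D.commute_iff _ _ _ _).1 (mem_centralizer_iff.1 h _ hA).symm
      have h2 := (D.commute_iff _ _ _ _).1 (mem_centralizer_iff.1 h _ hx).symm
      refine ⟨?_, h2⟩
      simpa [gs] using h1
    · rintro ⟨h1, h2⟩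
      rw [mem_centralizer_iff]
      intro g hg
      obtain ⟨i, j, rfl⟩ := D.hgen g
      obtain ⟨z, hz⟩ := hj i j hg
      have h3 : D.a ^ i * D.b ^ j * ((D.a ^ x * D.b ^ p ^ β) ^ z)⁻¹ ∈ M := mul_mem hg (inv_mem (pow_mem hx z))
      rw [D.pow_eq, ← hz, mul_inv_rev, mul_assoc (D.a ^ i), ← mul_assoc (D.b ^ j), mul_inv_cancel, one_mul,
        ← zpow_neg, ← zpow_add, ha] at h3
      have hc1 : Commute (D.a ^ k * D.b ^ l) (D.a ^ (i + -(x * gs (D.r ^ p ^ β) z)) * D.b ^ 0) := by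
        rw [D.commute_iff]
        obtain ⟨c, hc⟩ := h3
        rw [hc, show gs D.r 0 = 0 by simp [gs]]
        simpa [mul_assoc, mul_comm, mul_left_comm] using h1.mul_right c
      have hc2 : Commute (D.a ^ k * D.b ^ l) ((D.a ^ x * D.b ^ p ^ β) ^ z) :=
        ((D.commute_iff _ _ _ _).2 h2).pow_right z
      have h4 := hc1.mul_right hc2
      rw [D.pow_eq, D.mul_eq, ← hz, zero_add] at h4
      simpa using h4.symm.eq
  -- the invariants of the centraliser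
  obtain ⟨u, hu, he⟩ := Geom.exists_gs_prime_pow hp2 D.hr β
  have hαeq : α' = D.n - β := by
    have key : ∀ k : ℤ, (p : ℤ) ^ α' ∣ k ↔ (p : ℤ) ^ (D.n - β) ∣ k := fun k => by
      rw [← ha', ← Geom.dvd_pow_mul_iff (v := β)]
      have h1 := hmem k 0
      simp only [pow_zero, mul_one, show gs D.r 0 = 0 by simp [gs], mul_zero, dvd_zero, true_and,
        zero_sub, dvd_neg] at h1
      rw [h1, he, ← mul_assoc, Geom.dvd_mul_unit hu, mul_comm]
    refine le_antisymm ?_ ?_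
    · exact (Nat.pow_dvd_pow_iff_le_right hp.out.one_lt).1 (Int.natCast_dvd_natCast.1
        (by push_cast; exact (key _).2 dvd_rfl))
    · exact (Nat.pow_dvd_pow_iff_le_right hp.out.one_lt).1 (Int.natCast_dvd_natCast.1
        (by push_cast; exact (key _).1 dvd_rfl))
  have hβeq : β' = D.n - α := by
    refine le_antisymm ?_ ?_
    · have hd : (p : ℤ) ^ β ∣ x * gs D.r (p ^ (D.n - α)) := by
        obtain ⟨u', -, he'⟩ := Geom.exists_gs_prime_pow hp2 D.hr (D.n - α)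
        obtain ⟨c, hc⟩ := hxα
        rw [he', ← mul_assoc]
        refine Dvd.dvd.mul_right ⟨c, ?_⟩ u'
        have hne' : (p : ℤ) ^ (D.n - β) ≠ 0 := pow_ne_zero _ (Int.natCast_ne_zero.2 hp.out.ne_zero)
        refine mul_right_cancel₀ hne' ?_
        rw [mul_assoc, mul_comm ((p : ℤ) ^ (D.n - α)), ← mul_assoc, hc]
        rw [show (p : ℤ) ^ α * c * (p : ℤ) ^ (D.n - α) = (p : ℤ) ^ α * (p : ℤ) ^ (D.n - α) * c by ring,
          ← pow_add, Nat.add_sub_cancel' hαn,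
          show (p : ℤ) ^ β * c * (p : ℤ) ^ (D.n - β) = (p : ℤ) ^ β * (p : ℤ) ^ (D.n - β) * c by ring,
          ← pow_add, Nat.add_sub_cancel' hβn]
      obtain ⟨c, hc⟩ := hd
      obtain ⟨s, t, hst⟩ := IsCoprime.pow_right (n := D.n) hu
      refine (Nat.pow_dvd_pow_iff_le_right hp.out.one_lt).1 (hj' (c * s) (p ^ (D.n - α)) ?_)
      rw [hmem]
      refine ⟨?_, ⟨(p : ℤ) ^ β * c * t, ?_⟩⟩
      · rw [Geom.dvd_pow_mul_iff, Geom.dvd_gs_iff hp2 D.hr]
        push_cast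
        exact dvd_rfl
      · rw [hc, he]
        linear_combination (-(p : ℤ) ^ β * c) * hst
    · have h := ((hmem _ _).1 hx').1
      rw [Geom.dvd_pow_mul_iff, Geom.dvd_gs_iff hp2 D.hr, Nat.cast_pow] at h
      exact (Nat.pow_dvd_pow_iff_le_right hp.out.one_lt).1 (Int.natCast_dvd_natCast.1
        (by push_cast; exact h))
  rw [hc, hc', D.card_eq, D.center_invariants hp2, hαeq, hβeq]
  simp only [← pow_add]
  congr 1
  omega

include D in
/-- A nonabelian subgroup contains the centre and its centraliser. -/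
theorem le_of_not_isMulCommutative (hp2 : p ≠ 2) {M : Subgroup G} (hM : ¬ IsMulCommutative M) :
    center G ≤ M ∧ centralizer (M : Set G) ≤ M := by
  obtain ⟨hne, -⟩ := D.exists_w hp2
  obtain ⟨α, β, x, hα, hβ, ha, hx, hj, hc⟩ := D.exists_invariants M
  obtain ⟨u, hu, he⟩ := Geom.exists_gs_prime_pow hp2 D.hr β
  have hlt : α + β < D.n := by
    by_contra hge
    push Not at hge
    apply hM
    have hcm : Commute (D.a ^ ((p : ℤ) ^ α)) (D.a ^ x * D.b ^ p ^ β) := by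
      have := (D.commute_iff ((p : ℤ) ^ α) x 0 (p ^ β)).2 (by
        rw [show gs D.r 0 = 0 by simp [gs], mul_zero, zero_sub, dvd_neg, he, ← mul_assoc, ← pow_add]
        exact (pow_dvd_pow _ hge).mul_right u)
      simpa using this
    have hall : ∀ g ∈ M, ∃ (c : ℤ) (z : ℕ), D.a ^ ((p : ℤ) ^ α * c) * (D.a ^ x * D.b ^ p ^ β) ^ z = g := by
      intro g hg
      obtain ⟨i, j, rfl⟩ := D.hgen g
      obtain ⟨z, hz⟩ := hj i j hg
      have h3 : D.a ^ i * D.b ^ j * ((D.a ^ x * D.b ^ p ^ β) ^ z)⁻¹ ∈ M := mul_mem hg (inv_mem (pow_mem hx z))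
      rw [D.pow_eq, ← hz, mul_inv_rev, mul_assoc (D.a ^ i), ← mul_assoc (D.b ^ j), mul_inv_cancel, one_mul,
        ← zpow_neg, ← zpow_add, ha] at h3
      obtain ⟨c, hc⟩ := h3
      refine ⟨c, z, ?_⟩
      rw [← hc, D.pow_eq, ← hz, ← mul_assoc, ← zpow_add]
      congr 2
      ring
    refine ⟨⟨fun g h => Subtype.ext ?_⟩⟩
    obtain ⟨c, z, hg⟩ := hall g g.2
    obtain ⟨c', z', hh⟩ := hall h h.2
    show (g : G) * h = h * g
    rw [← hg, ← hh, zpow_mul, zpow_mul]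
    exact ((((Commute.refl _).zpow_zpow c c').mul_right ((hcm.pow_right z').zpow_left c)).mul_left
      (((hcm.pow_right z).zpow_left c').symm.mul_right ((Commute.refl _).pow_pow z z'))).eq
  have hb : D.b ^ p ^ D.n ∈ M := by
    have h1 := pow_mem hx (p ^ (D.n - β))
    rw [D.pow_eq, ← pow_add, Nat.add_sub_cancel' (by omega : β ≤ D.n)] at h1
    have h2 : D.a ^ (x * gs (D.r ^ p ^ β) (p ^ (D.n - β))) ∈ M := by
      rw [ha]
      obtain ⟨v, -, hv⟩ := Geom.exists_gs_prime_pow hp2 (D.r_pow (p ^ β)) (D.n - β)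
      rw [hv]
      exact ((pow_dvd_pow _ (by omega : α ≤ D.n - β)).mul_right v).mul_left x
    simpa using mul_mem (inv_mem h2) h1
  have hZ : center G ≤ M := by
    intro g hg
    obtain ⟨i, j, rfl⟩ := D.hgen g
    rw [D.mem_center_iff' hp2] at hg
    obtain ⟨z, hz⟩ : p ^ D.n ∣ j := Int.natCast_dvd_natCast.1 (by push_cast; exact hg.2)
    refine mul_mem ((ha i).2 ((pow_dvd_pow _ (by omega : α ≤ D.n)).trans hg.1)) ?_
    rw [hz, pow_mul]
    exact pow_mem hb z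
  refine ⟨hZ, fun g hg => ?_⟩
  obtain ⟨k, l, rfl⟩ := D.hgen g
  have hA : D.a ^ ((p : ℤ) ^ α) * D.b ^ 0 ∈ M := by simpa using (ha _).2 dvd_rfl
  have h1 := (D.commute_iff _ _ _ _).1 (mem_centralizer_iff.1 hg _ hA).symm
  have h2 := (D.commute_iff _ _ _ _).1 (mem_centralizer_iff.1 hg _ hx).symm
  rw [show gs D.r 0 = 0 by simp [gs], mul_zero, sub_zero] at h1
  rw [Geom.dvd_pow_mul_iff, Geom.dvd_gs_iff hp2 D.hr] at h1
  obtain ⟨z, hz⟩ : p ^ β ∣ l :=
    (pow_dvd_pow p (by omega : β ≤ D.n - α)).trans (Int.natCast_dvd_natCast.1 (by push_cast; exact h1))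
  have h3 : (p : ℤ) ^ α ∣ x * gs (D.r ^ p ^ β) z - k := by
    rw [hz, Geom.gs_mul, he, show x * ((p : ℤ) ^ β * u * gs (D.r ^ p ^ β) z) - k * ((p : ℤ) ^ β * u) =
      (p : ℤ) ^ β * ((x * gs (D.r ^ p ^ β) z - k) * u) by ring, Geom.dvd_pow_mul_iff,
      Geom.dvd_mul_unit hu] at h2
    exact (pow_dvd_pow _ (by omega : α ≤ D.n - β)).trans h2
  have h4 : D.a ^ k * D.b ^ l =
      D.a ^ (-(x * gs (D.r ^ p ^ β) z - k)) * (D.a ^ x * D.b ^ p ^ β) ^ z := by
    rw [D.pow_eq, ← hz, ← mul_assoc, ← zpow_add]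
    congr 2
    ring
  rw [h4]
  exact mul_mem ((ha _).2 (dvd_neg.2 h3)) (pow_mem hx z)

end MetaData

end CfsgLib.HallClasses
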