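import Mathlib
import Cfsg.Agent.Lib.HallClasses.MetacyclicOdd

/-!
A metacyclic `p`-group, `p` odd, is a product of two cyclic subgroups with trivial intersection.
-/

set_option autoImplicit false

namespace CfsgLib.HallClasses.MetaData

open Subgroup
open Geom (gs)

variable {G : Type*} [Group G] [Finite G] {p : ℕ} [hp : Fact p.Prime] (D : MetaData G p)

omit [Finite G] hp in
theorem apow_eq_one_iff (z : ℤ) : D.a ^ z = 1 ↔ (p : ℤ) ^ D.m ∣ z := by
  rw [← orderOf_dvd_iff_zpow_eq_one, D.ha, Nat.cast_pow]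

include D in
theorem exists_factorisation (hp2 : p ≠ 2) :
    ∃ A B : Subgroup G, IsCyclic A ∧ IsCyclic B ∧ A ⊓ B = ⊥ ∧ Nat.card A * Nat.card B = Nat.card G := by
  have hG : IsPGroup p G := IsPGroup.of_card (n := D.m + D.e) (by rw [D.card_eq, pow_add])
  obtain ⟨-, w₀, hw₀, -⟩ := D.exists_w hp2
  -- normalise `w`
  obtain ⟨w, hw, hwm⟩ : ∃ w : ℤ, D.b ^ p ^ D.e = D.a ^ w ∧ ((p : ℤ) ^ D.m ∣ w → w = 0) := by
    by_cases h : (p : ℤ) ^ D.m ∣ w₀
    · exact ⟨0, by rw [hw₀, (D.apow_eq_one_iff _).2 h, zpow_zero], fun _ => rfl⟩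
    · exact ⟨w₀, hw₀, fun h' => absurd h' h⟩
  by_cases hew : (p : ℤ) ^ D.e ∣ w
  · obtain ⟨c, hc⟩ := hew
    obtain ⟨u, hu, he⟩ := Geom.exists_gs_prime_pow hp2 D.hr D.e
    obtain ⟨s, t, hst⟩ := IsCoprime.pow_right (n := D.m) hu
    set h := D.a ^ (-(c * s)) * D.b ^ 1 with hh
    have hone : h ^ p ^ D.e = 1 := by
      rw [hh, D.pow_eq, one_mul, hw, ← zpow_add, D.apow_eq_one_iff, pow_one, he, hc]
      exact ⟨(p : ℤ) ^ D.e * c * t, by linear_combination (-((p : ℤ) ^ D.e * c)) * hst⟩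
    have hdiv : ∀ N : ℕ, h ^ N ∈ zpowers D.a → p ^ D.e ∣ N := by
      intro N hN
      rw [hh, D.pow_eq, one_mul] at hN
      exact (D.he N).1 ((mul_mem_cancel_left (zpow_mem (mem_zpowers _) _)).1 hN)
    have hord : orderOf h = p ^ D.e :=
      Nat.dvd_antisymm (orderOf_dvd_of_pow_eq_one hone)
        (hdiv _ (by rw [pow_orderOf_eq_one]; exact one_mem _))
    refine ⟨zpowers D.a, zpowers h, inferInstance, inferInstance, ?_, ?_⟩
    · rw [eq_bot_iff]
      rintro g ⟨hga, hgh⟩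
      obtain ⟨N, rfl⟩ := mem_powers_iff_mem_zpowers.2 hgh
      obtain ⟨k, rfl⟩ := hdiv N hga
      rw [mem_bot]
      show h ^ (p ^ D.e * k) = 1
      rw [pow_mul, hone, one_pow]
    · rw [Nat.card_zpowers, Nat.card_zpowers, D.ha, hord, D.card_eq]
  -- the exponent `w` is `p ^ v` times a unit with `v < e`, `v < m`
  have hw0 : w ≠ 0 := fun h => hew (h ▸ dvd_zero _)
  obtain ⟨v, w', hw', hwe⟩ := Nat.exists_eq_pow_mul_and_not_dvd (Int.natAbs_ne_zero.2 hw0) p hp.out.ne_one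
  have hwd : (p : ℤ) ^ v ∣ w := by
    rw [← Int.natAbs_dvd_natAbs, Int.natAbs_pow, Int.natAbs_natCast, hwe]
    exact dvd_mul_right _ _
  obtain ⟨c, hc⟩ := hwd
  have hcu : ¬ (p : ℤ) ∣ c := by
    intro h
    apply hw'
    have h1 : (p : ℤ) ^ (v + 1) ∣ w := by rw [hc, pow_succ]; exact mul_dvd_mul_left _ h
    rw [← Int.natAbs_dvd_natAbs, Int.natAbs_pow, Int.natAbs_natCast, hwe, pow_succ] at h1
    exact Nat.dvd_of_mul_dvd_mul_left (pow_pos hp.out.pos _) h1
  have hve : v < D.e := by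
    by_contra h
    exact hew (hc ▸ (pow_dvd_pow _ (not_lt.1 h)).mul_right c)
  have hvm : v < D.m := by
    by_contra h
    exact hw0 (hwm (hc ▸ (pow_dvd_pow _ (not_lt.1 h)).mul_right c))
  have hsol : ∀ k : ℕ, ∃ z : ℕ,
      (p : ℤ) ^ (v + k) ∣ gs (D.r ^ (p ^ (D.e - v) * z)) (p ^ v) + w * z := by
    intro k
    induction k with
    | zero =>
      refine ⟨0, ?_⟩
      simp [gs]
    | succ k ih =>
      obtain ⟨z, ε, hε⟩ := ih
      obtain ⟨δ, hδ⟩ : ∃ δ : ℕ, (p : ℤ) ∣ ε + c * δ := by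
        refine ⟨(-(ε : ZMod p) / (c : ZMod p)).val, ?_⟩
        rw [← ZMod.intCast_zmod_eq_zero_iff_dvd]
        push_cast
        rw [ZMod.natCast_zmod_val, mul_div_cancel₀]
        · exact add_neg_cancel _
        · rwa [Ne, ZMod.intCast_zmod_eq_zero_iff_dvd]
      refine ⟨z + p ^ k * δ, ?_⟩
      set y := p ^ (D.e - v) * z
      set y' := p ^ (D.e - v) * (p ^ k * δ)
      have hq : (p : ℤ) ^ (k + 1 + 1) ∣ D.r ^ (y + y') - D.r ^ y := by
        have h1 : (p : ℤ) ^ (k + 1 + 1) ∣ D.r ^ y' - 1 := by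
          rw [← Geom.gs_mul_sub_one, show k + 1 + 1 = (k + 1) + 1 from rfl, pow_succ]
          refine mul_dvd_mul ?_ D.hr
          rw [Geom.dvd_gs_iff hp2 D.hr]
          simp only [y', ← mul_assoc, ← pow_add]
          push_cast
          exact (pow_dvd_pow _ (by omega)).mul_right _
        rw [show D.r ^ (y + y') - D.r ^ y = D.r ^ y * (D.r ^ y' - 1) by rw [pow_add]; ring]
        exact h1.mul_left _
      have hΔ : (p : ℤ) ^ (v + (k + 1)) ∣ gs (D.r ^ (y + y')) (p ^ v) - gs (D.r ^ y) (p ^ v) :=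
        Geom.gs_congr hp2 (D.r_pow _) (D.r_pow _) hq v
      have hmul : (p : ℤ) ^ (v + (k + 1)) ∣ (p : ℤ) ^ (v + k) * (ε + c * δ) := by
        rw [← add_assoc, pow_succ]
        exact mul_dvd_mul_left _ hδ
      rw [Nat.mul_add]
      have key := dvd_add hΔ hmul
      have e : gs (D.r ^ (y + y')) (p ^ v) + w * ((z + p ^ k * δ : ℕ) : ℤ) =
          gs (D.r ^ (y + y')) (p ^ v) - gs (D.r ^ y) (p ^ v) + (p : ℤ) ^ (v + k) * (ε + c * δ) := by
        push_cast
        rw [hc, pow_add] at *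
        linear_combination hε
      rw [e]
      exact key
  obtain ⟨z, hz⟩ := hsol (D.m - v)
  rw [Nat.add_sub_cancel' hvm.le] at hz
  set q := p ^ (D.e - v) * z with hq
  set h := D.a ^ (1 : ℤ) * D.b ^ q with hh
  have hone : h ^ p ^ v = 1 := by
    have hqp : q * p ^ v = p ^ D.e * z := by
      rw [hq, mul_right_comm, ← pow_add, Nat.sub_add_cancel hve.le]
    rw [hh, D.pow_eq, hqp, pow_mul D.b, hw, ← zpow_natCast, ← zpow_mul, ← zpow_add, D.apow_eq_one_iff, one_mul]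
    exact hz
  have hdiv : ∀ N : ℕ, h ^ N ∈ zpowers D.b → p ^ v ∣ N := by
    intro N hN
    rw [hh, D.pow_eq, one_mul, mul_mem_cancel_right (pow_mem (mem_zpowers _) _)] at hN
    obtain ⟨l, hl⟩ := mem_powers_iff_mem_zpowers.2 hN
    replace hl : D.b ^ l = D.a ^ gs (D.r ^ q) N := hl
    have hl' : D.b ^ l ∈ zpowers D.a := hl ▸ zpow_mem (mem_zpowers _) _
    obtain ⟨d, rfl⟩ := (D.he l).1 hl'
    rw [pow_mul D.b, hw, ← zpow_natCast, ← zpow_mul] at hl
    have h1 : D.a ^ (gs (D.r ^ q) N - w * d) = 1 := by rw [zpow_sub, ← hl, mul_inv_cancel]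
    rw [D.apow_eq_one_iff] at h1
    have h2 : (p : ℤ) ^ v ∣ gs (D.r ^ q) N := by
      have h3 := dvd_add ((pow_dvd_pow _ hvm.le).trans h1) ((Dvd.intro c hc.symm).mul_right (d : ℤ))
      rwa [sub_add_cancel] at h3
    rw [Geom.dvd_gs_iff hp2 (D.r_pow q)] at h2
    exact Int.natCast_dvd_natCast.1 (by push_cast; exact h2)
  have hordh : orderOf h = p ^ v :=
    Nat.dvd_antisymm (orderOf_dvd_of_pow_eq_one hone)
      (hdiv _ (by rw [pow_orderOf_eq_one]; exact one_mem _))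
  have hordb : orderOf D.b = p ^ (D.e + (D.m - v)) := by
    obtain ⟨s, hs⟩ := IsPGroup.iff_orderOf.1 hG D.b
    have hes : D.e ≤ s := (Nat.pow_dvd_pow_iff_le_right hp.out.one_lt).1 ((D.he _).1 (by
      rw [← hs, pow_orderOf_eq_one]; exact one_mem _))
    have h1 : orderOf (D.b ^ p ^ D.e) = p ^ (s - D.e) := by
      rw [orderOf_pow, hs, Nat.gcd_eq_right (pow_dvd_pow p hes), Nat.pow_div hes hp.out.pos]
    have h2 : orderOf (D.b ^ p ^ D.e) = p ^ (D.m - v) := by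
      rw [hw]
      refine Nat.dvd_antisymm (orderOf_dvd_of_pow_eq_one ?_) ?_
      · rw [← zpow_natCast, ← zpow_mul, D.apow_eq_one_iff, hc]
        push_cast
        rw [show (p : ℤ) ^ v * c * (p : ℤ) ^ (D.m - v) = (p : ℤ) ^ v * (p : ℤ) ^ (D.m - v) * c by ring,
          ← pow_add, Nat.add_sub_cancel' hvm.le]
        exact dvd_mul_right _ _
      · have h3 : D.a ^ (w * (orderOf (D.a ^ w) : ℤ)) = 1 := by
          rw [zpow_mul, zpow_natCast, pow_orderOf_eq_one]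
        generalize orderOf (D.a ^ w) = o at h3 ⊢
        rw [D.apow_eq_one_iff, hc, mul_assoc, Geom.dvd_pow_mul_iff, mul_comm,
          Geom.dvd_mul_unit ((Nat.prime_iff_prime_int.1 hp.out).coprime_iff_not_dvd.2 hcu).symm] at h3
        exact Int.natCast_dvd_natCast.1 (by push_cast; exact h3)
    rw [hs]
    congr 1
    have := Nat.pow_right_injective hp.out.two_le (h1.symm.trans h2)
    omega
  refine ⟨zpowers h, zpowers D.b, inferInstance, inferInstance, ?_, ?_⟩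
  · rw [eq_bot_iff]
    rintro g ⟨hgh, hgb⟩
    obtain ⟨N, rfl⟩ := mem_powers_iff_mem_zpowers.2 hgh
    obtain ⟨k, rfl⟩ := hdiv N hgb
    rw [mem_bot]
    show h ^ (p ^ v * k) = 1
    rw [pow_mul, hone, one_pow]
  · rw [Nat.card_zpowers, Nat.card_zpowers, hordh, hordb, D.card_eq, ← pow_add, ← pow_add]
    congr 1
    omega

end CfsgLib.HallClasses.MetaData
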