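import Mathlib
import Cfsg.Agent.Lib.HallClasses.MetacyclicOdd
import Cfsg.Agent.Lib.PGroups.Frattini

/-!
Powers, conjugacy classes and abelian subgroups in metacyclic `p`-groups, `p` odd.
-/

set_option autoImplicit false

namespace CfsgLib.HallClasses.MetaData

open Subgroup
open Geom (gs)

variable {G : Type*} [Group G] [Finite G] {p : ℕ} [hp : Fact p.Prime] (D : MetaData G p)

omit [Finite G] in
/-- A power is central exactly when the exponents are divisible enough. -/
theorem pow_mem_center_iff (hp2 : p ≠ 2) (i : ℤ) (j k : ℕ) :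
    (D.a ^ i * D.b ^ j) ^ p ^ k ∈ center G ↔
      (p : ℤ) ^ (D.n - k) ∣ i ∧ (p : ℤ) ^ (D.n - k) ∣ (j : ℤ) := by
  obtain ⟨u, hu, he⟩ := Geom.exists_gs_prime_pow hp2 (D.r_pow j) k
  rw [D.pow_eq, D.mem_center_iff' hp2, he, ← mul_assoc, Geom.dvd_mul_unit hu, mul_comm i,
    Geom.dvd_pow_mul_iff, Nat.cast_mul, Nat.cast_pow, mul_comm (j : ℤ), Geom.dvd_pow_mul_iff]

omit [Finite G] in
theorem pow_center_iff' (hp2 : p ≠ 2) {s : ℕ} (hs : s ≤ D.n) (i : ℤ) (j : ℕ) :
    (D.a ^ i * D.b ^ j) ^ p ^ (D.n - s) ∈ center G ↔ (p : ℤ) ^ s ∣ i ∧ (p : ℤ) ^ s ∣ (j : ℤ) := by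
  rw [D.pow_mem_center_iff hp2, Nat.sub_sub_self hs]

/-- The elements whose `p ^ (n - s)`-th power is central. -/
def powCenter (hp2 : p ≠ 2) (s : ℕ) (hs : s ≤ D.n) : Subgroup G where
  carrier := {g | g ^ p ^ (D.n - s) ∈ center G}
  one_mem' := by show (1 : G) ^ p ^ (D.n - s) ∈ center G; rw [one_pow]; exact one_mem _
  inv_mem' := by
    intro g hg
    show g⁻¹ ^ p ^ (D.n - s) ∈ center G
    rw [inv_pow]
    exact inv_mem hg
  mul_mem' := by
    intro g h hg hh
    show (g * h) ^ p ^ (D.n - s) ∈ center G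
    obtain ⟨i, j, rfl⟩ := D.hgen g
    obtain ⟨k, l, rfl⟩ := D.hgen h
    have h1 := (D.pow_center_iff' hp2 hs i j).1 hg
    have h2 := (D.pow_center_iff' hp2 hs k l).1 hh
    rw [D.mul_eq, D.pow_center_iff' hp2 hs]
    exact ⟨dvd_add h1.1 (h2.1.mul_right _), by rw [Nat.cast_add]; exact dvd_add h1.2 h2.2⟩

theorem card_powCenter (hp2 : p ≠ 2) (s : ℕ) (hs : s ≤ D.n) :
    Nat.card (D.powCenter hp2 s hs) = p ^ (D.m - s) * p ^ (D.e - s) := by
  obtain ⟨α, β, x, hα, hβ, ha, hx, hj, hc⟩ := D.exists_invariants (D.powCenter hp2 s hs)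
  have hz : ∀ (i : ℤ) (j : ℕ), D.a ^ i * D.b ^ j ∈ D.powCenter hp2 s hs ↔
      (p : ℤ) ^ s ∣ i ∧ (p : ℤ) ^ s ∣ (j : ℤ) := fun i j => D.pow_center_iff' hp2 hs i j
  have hα' : α = s := by
    refine le_antisymm ?_ ?_
    · refine (Nat.pow_dvd_pow_iff_le_right hp.out.one_lt).1 (Int.natCast_dvd_natCast.1 ?_)
      push_cast
      exact (ha _).1 (by simpa using (hz ((p : ℤ) ^ s) 0).2 ⟨dvd_rfl, dvd_zero _⟩)
    · refine (Nat.pow_dvd_pow_iff_le_right hp.out.one_lt).1 (Int.natCast_dvd_natCast.1 ?_)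
      push_cast
      exact ((hz ((p : ℤ) ^ α) 0).1 (by simpa using (ha _).2 dvd_rfl)).1
  have hβ' : β = s := by
    refine le_antisymm ?_ ?_
    · exact (Nat.pow_dvd_pow_iff_le_right hp.out.one_lt).1
        (hj 0 (p ^ s) ((hz _ _).2 ⟨dvd_zero _, by push_cast; exact dvd_rfl⟩))
    · refine (Nat.pow_dvd_pow_iff_le_right hp.out.one_lt).1 (Int.natCast_dvd_natCast.1 ?_)
      push_cast
      exact_mod_cast ((hz _ _).1 hx).2
  rw [hc, hα', hβ']

theorem closure_pow_eq (hp2 : p ≠ 2) (s : ℕ) (hs : s ≤ D.n) :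
    closure {x : G | ∃ y : G, y ^ p ^ s = x} = D.powCenter hp2 s hs := by
  refine le_antisymm ((closure_le _).2 ?_) ?_
  · rintro _ ⟨y, rfl⟩
    show (y ^ p ^ s) ^ p ^ (D.n - s) ∈ center G
    rw [← pow_mul, ← pow_add, Nat.add_sub_cancel' hs]
    obtain ⟨i, j, rfl⟩ := D.hgen y
    rw [D.pow_mem_center_iff hp2, Nat.sub_self, pow_zero]
    exact ⟨one_dvd _, one_dvd _⟩
  · intro g hg
    obtain ⟨i, j, rfl⟩ := D.hgen g
    obtain ⟨⟨c, rfl⟩, hj⟩ := (D.pow_center_iff' hp2 hs i j).1 hg
    obtain ⟨l, rfl⟩ : p ^ s ∣ j := Int.natCast_dvd_natCast.1 (by push_cast; exact hj)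
    refine mul_mem (subset_closure ⟨D.a ^ c, ?_⟩) (subset_closure ⟨D.b ^ l, ?_⟩)
    · rw [← zpow_natCast, ← zpow_mul, Nat.cast_pow, mul_comm]
    · rw [← pow_mul, mul_comm]

include D in
/-- The conjugacy class of `g` has as many elements as the order of `g` modulo the centre. -/
theorem index_centralizer (hp2 : p ≠ 2) (g : G) :
    (centralizer ({g} : Set G)).index = orderOf (QuotientGroup.mk' (center G) g) := by
  let π := QuotientGroup.mk' (center G)
  let M := (zpowers (π g)).comap π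
  have hZ : center G ≤ M := fun z hz => by
    rw [mem_comap, show π z = 1 from (QuotientGroup.eq_one_iff z).2 hz]
    exact one_mem _
  have hcent : centralizer (M : Set G) = centralizer ({g} : Set G) := by
    refine le_antisymm (fun x hx => ?_) fun x hx => ?_
    · exact mem_centralizer_singleton_iff.2 (mem_centralizer_iff.1 hx g (mem_zpowers (π g))).symm
    · refine mem_centralizer_iff.2 fun y hy => ?_
      obtain ⟨k, hk⟩ := mem_zpowers_iff.1 (show π y ∈ zpowers (π g) from hy)
      have hc : y * (g ^ k)⁻¹ ∈ center G := by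
        rw [← QuotientGroup.eq_one_iff]
        show π (y * (g ^ k)⁻¹) = 1
        rw [map_mul, map_inv, map_zpow, hk, mul_inv_cancel]
      have h1 : Commute x (y * (g ^ k)⁻¹ * g ^ k) :=
        Commute.mul_right (mem_center_iff.1 hc x)
          ((show Commute x g from mem_centralizer_singleton_iff.1 hx).zpow_right k)
      rw [inv_mul_cancel_right] at h1
      exact h1.symm.eq
  have h := D.card_mul_card_centralizer hp2 hZ
  rw [hcent] at h
  have hcard : Nat.card M = Nat.card (center G) * orderOf (π g) := by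
    let f := π.comp M.subtype
    have hr : f.range = zpowers (π g) := by
      rw [MonoidHom.range_comp, range_subtype,
        map_comap_eq_self_of_surjective (QuotientGroup.mk'_surjective _)]
    have hk : Nat.card f.ker = Nat.card (center G) := by
      rw [← MonoidHom.comap_ker, QuotientGroup.ker_mk']
      exact Nat.card_congr (subgroupOfEquivOfLe hZ).toEquiv
    rw [← card_mul_index f.ker, index_ker, hr, hk, Nat.card_zpowers]
  rw [hcard, ← (centralizer ({g} : Set G)).index_mul_card, mul_comm ((centralizer ({g} : Set G)).index)] at h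
  have h' : (Nat.card (centralizer ({g} : Set G)) * Nat.card (center G)) *
      (centralizer ({g} : Set G)).index =
      (Nat.card (centralizer ({g} : Set G)) * Nat.card (center G)) * orderOf (π g) := by linarith
  exact Nat.eq_of_mul_eq_mul_left (Nat.mul_pos Nat.card_pos Nat.card_pos) h'

include D in
theorem index_centralizer_le_iff (hp2 : p ≠ 2) (g : G) (k : ℕ) :
    (centralizer ({g} : Set G)).index ≤ p ^ k ↔ g ^ p ^ k ∈ center G := by
  rw [D.index_centralizer hp2, ← QuotientGroup.eq_one_iff]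
  show _ ↔ QuotientGroup.mk' (center G) (g ^ p ^ k) = 1
  rw [map_pow, ← orderOf_dvd_iff_pow_eq_one]
  have hG : IsPGroup p G := IsPGroup.of_card (n := D.m + D.e) (by rw [D.card_eq, pow_add])
  obtain ⟨j, hj⟩ := IsPGroup.iff_orderOf.1 (hG.to_quotient (center G)) (QuotientGroup.mk' (center G) g)
  rw [hj, Nat.pow_le_pow_iff_right hp.out.one_lt, Nat.pow_dvd_pow_iff_le_right hp.out.one_lt]

include D in
theorem isPGroup : IsPGroup p G := IsPGroup.of_card (n := D.m + D.e) (by rw [D.card_eq, pow_add])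

theorem powCenter_one_eq_frattini (hp2 : p ≠ 2) (hn : 1 ≤ D.n) :
    D.powCenter hp2 1 hn = frattini G := by
  refine le_antisymm ?_ (CfsgLib.PGroups.frattini_le_of (p := p) ?_ fun x => ?_)
  · rw [← D.closure_pow_eq hp2 1 hn]
    refine (closure_le _).2 ?_
    rintro _ ⟨y, rfl⟩
    rw [pow_one]
    exact CfsgLib.PGroups.pow_mem_frattini D.isPGroup y
  · rw [D.commutator_eq, zpowers_le]
    show _ ^ p ^ (D.n - 1) ∈ center G
    have h := (D.pow_center_iff' hp2 hn (D.r - 1) 0).2 ⟨by rw [pow_one]; exact D.hr, dvd_zero _⟩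
    simpa using h
  · rw [← D.closure_pow_eq hp2 1 hn]
    exact subset_closure ⟨x, by rw [pow_one]⟩

include D in
/-- Abelian subgroups have square of order at most `|G| |Z(G)|`. -/
theorem sq_card_le (hp2 : p ≠ 2) {L : Subgroup G} (hL : IsMulCommutative L) :
    Nat.card L ^ 2 ≤ Nat.card G * Nat.card (center G) := by
  have hM : L ⊔ center G ≤ centralizer ((L ⊔ center G : Subgroup G) : Set G) := by
    refine sup_le ?_ (center_le_centralizer _)
    rw [le_centralizer_iff, sup_le_iff]
    exact ⟨le_centralizer L, center_le_centralizer _⟩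
  rw [← D.card_mul_card_centralizer hp2 (M := L ⊔ center G) le_sup_right, pow_two]
  exact Nat.mul_le_mul (card_le_of_le le_sup_left) (card_le_of_le (le_sup_left.trans hM))

include D in
theorem index_commutator_sq (hp2 : p ≠ 2) :
    (commutator G).index ^ 2 = Nat.card G * Nat.card (center G) := by
  have h1 := (commutator G).card_mul_index
  rw [D.card_commutator] at h1
  obtain ⟨hne, -⟩ := D.exists_w hp2
  have hnm := D.n_le_m
  have h2 : (commutator G).index = p ^ (D.m + D.e - D.n) := by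
    rw [D.card_eq, ← pow_add, show D.m + D.e = D.n + (D.m + D.e - D.n) by omega, pow_add] at h1
    exact Nat.eq_of_mul_eq_mul_left (pow_pos hp.out.pos _) h1
  rw [h2, D.card_eq, D.center_invariants hp2, ← pow_mul, ← pow_add, ← pow_add, ← pow_add]
  congr 1
  omega

include D in
theorem index_center (hp2 : p ≠ 2) : (center G).index = p ^ (2 * D.n) := by
  obtain ⟨hne, -⟩ := D.exists_w hp2
  have hnm := D.n_le_m
  have h1 := (center G).card_mul_index
  rw [D.center_invariants hp2, D.card_eq, ← pow_add, ← pow_add,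
    show D.m + D.e = (D.m - D.n + (D.e - D.n)) + 2 * D.n by omega, pow_add (n := 2 * D.n)] at h1
  exact Nat.eq_of_mul_eq_mul_left (pow_pos hp.out.pos _) h1

end CfsgLib.HallClasses.MetaData
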