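import Cfsg.Agent.Lib.NormalPComplement.Frobenius

/-!
Minimal covers by nilpotent subgroups, in a group with trivial centre.
-/

namespace CfsgLib.HallClasses

open Cfsg CfsgLib.NormalPComplement

/-- A cover by proper subgroups, of least size among such covers, with nilpotent members. -/
def NilMinCover {G : Type*} [Group G] (𝓐 : Finset (Subgroup G)) : Prop :=
  ((∀ A ∈ 𝓐, A ≠ ⊤) ∧ (∀ g : G, ∃ A ∈ 𝓐, g ∈ A)) ∧
    (∀ 𝓑 : Finset (Subgroup G), (∀ A ∈ 𝓑, A ≠ ⊤) ∧ (∀ g : G, ∃ A ∈ 𝓑, g ∈ A) →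
      𝓐.card ≤ 𝓑.card) ∧ (∀ A ∈ 𝓐, Group.IsNilpotent ↥A)

/-- Elements of coprime orders in a nilpotent group commute. -/
theorem commute_of_nilpotent {H : Type*} [Group H] (hH : Group.IsNilpotent H) :
    ∀ a b : H, (orderOf a).Coprime (orderOf b) → Commute a b := by
  refine @Group.nilpotent_center_quotient_ind (fun K _ _ =>
    ∀ a b : K, (orderOf a).Coprime (orderOf b) → Commute a b) H _ hH ?_ ?_
  · intro K _ _ a b _
    exact Subsingleton.elim _ _
  · intro K _ _ ih a b hab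
    have h1 : Commute (QuotientGroup.mk' (Subgroup.center K) a)
        (QuotientGroup.mk' (Subgroup.center K) b) :=
      ih _ _ ((hab.coprime_dvd_left (orderOf_map_dvd _ a)).coprime_dvd_right (orderOf_map_dvd _ b))
    set c : K := a * b * a⁻¹ * b⁻¹ with hc
    have hcZ : c ∈ Subgroup.center K := by
      rw [← QuotientGroup.eq_one_iff]
      show QuotientGroup.mk' (Subgroup.center K) c = 1
      rw [hc, map_mul, map_mul, map_mul, map_inv, map_inv, h1.eq]
      group
    have hcc : ∀ x : K, Commute c x := fun x => (Subgroup.mem_center_iff.1 hcZ x).symm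
    have e1 : a * b * a⁻¹ = c * b := by rw [hc]; group
    have e2 : b * a * b⁻¹ = c⁻¹ * a := by rw [hc]; group
    have h2 : c ^ orderOf b = 1 := by
      have h := congrArg (fun z => z ^ orderOf b) e1
      simp only [conj_pow, (hcc b).mul_pow, pow_orderOf_eq_one, mul_one, mul_inv_cancel] at h
      exact h.symm
    have h3 : c ^ orderOf a = 1 := by
      have h := congrArg (fun z => z ^ orderOf a) e2
      simp only [conj_pow, (hcc a).inv_left.mul_pow, pow_orderOf_eq_one, mul_one,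
        mul_inv_cancel, inv_pow] at h
      exact inv_eq_one.1 h.symm
    have h4 : c = 1 := orderOf_eq_one_iff.1 (Nat.eq_one_of_dvd_coprimes hab
      (orderOf_dvd_of_pow_eq_one h3) (orderOf_dvd_of_pow_eq_one h2))
    rw [h4, one_mul] at e1
    exact mul_inv_eq_iff_eq_mul.1 e1

variable {G : Type*} [Group G] [Finite G] {𝓐 : Finset (Subgroup G)}

omit [Finite G] in
/-- No proper subgroup contains two members of a minimal cover. -/
theorem NilMinCover.eq_of_le (h : NilMinCover 𝓐) {A B M : Subgroup G} (hA : A ∈ 𝓐) (hB : B ∈ 𝓐)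
    (hM : M ≠ ⊤) (hAM : A ≤ M) (hBM : B ≤ M) : A = B := by
  classical
  by_contra hne
  obtain ⟨⟨hprop, hcov⟩, hmin, -⟩ := h
  set 𝓑 := insert M ((𝓐.erase A).erase B) with h𝓑
  have hle := hmin 𝓑 ⟨by
    intro C hC
    rcases Finset.mem_insert.1 hC with rfl | hC
    · exact hM
    · exact hprop C (Finset.mem_of_mem_erase (Finset.mem_of_mem_erase hC)), by
    intro g
    obtain ⟨C, hC, hg⟩ := hcov g
    by_cases hCA : C = A
    · exact ⟨M, Finset.mem_insert_self _ _, hAM (hCA ▸ hg)⟩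
    by_cases hCB : C = B
    · exact ⟨M, Finset.mem_insert_self _ _, hBM (hCB ▸ hg)⟩
    exact ⟨C, Finset.mem_insert_of_mem (Finset.mem_erase.2 ⟨hCB, Finset.mem_erase.2 ⟨hCA, hC⟩⟩), hg⟩⟩
  have h1 : 𝓑.card ≤ ((𝓐.erase A).erase B).card + 1 := Finset.card_insert_le _ _
  have h2 := Finset.card_erase_add_one hA
  have h3 := Finset.card_erase_add_one (Finset.mem_erase.2 ⟨Ne.symm hne, hB⟩)
  omega

/-- With abelian Sylow `p`-subgroups, a member of the cover centralises each of its `p`-elements. -/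
theorem NilMinCover.le_centralizer (h : NilMinCover 𝓐) {p : ℕ} [Fact p.Prime]
    (hab : ∀ Q : Subgroup G, IsPGroup p Q → IsMulCommutative Q) {A : Subgroup G} (hA : A ∈ 𝓐)
    {w : G} (hw : w ∈ A) (hwp : ∃ k : ℕ, orderOf w = p ^ k) :
    A ≤ Subgroup.centralizer ({w} : Set G) := by
  intro a ha
  rw [Subgroup.mem_centralizer_singleton_iff]
  obtain ⟨s, t, hst, ⟨k, hk⟩, hcop⟩ := exists_pParts (p := p) (isOfFinOrder_of_finite a)
  obtain ⟨j, hj⟩ := hwp
  have hnil : Group.IsNilpotent ↥A := h.2.2 A hA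
  -- the Sylow subgroup of `A` containing the two `p`-parts
  obtain ⟨S⟩ := (inferInstance : Nonempty (Sylow p A))
  haveI := hnil
  have hSn : (S : Subgroup A).Normal :=
    Sylow.normal_of_normalizerCondition Group.normalizerCondition_of_isNilpotent S
  have hmemS : ∀ x : A, (∃ m : ℕ, orderOf (x : G) = p ^ m) → x ∈ (S : Subgroup A) := by
    rintro x ⟨m, hm⟩
    rw [Subgroup.orderOf_coe] at hm
    have hx : IsPGroup p (Subgroup.zpowers x) :=
      IsPGroup.of_card (n := m) (by rw [Nat.card_zpowers, hm])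
    obtain ⟨S', hS'⟩ := hx.exists_le_sylow
    have : Subsingleton (Sylow p A) := Sylow.unique_of_normal S hSn |>.instSubsingleton
    exact (Subsingleton.elim S' S) ▸ hS' (Subgroup.mem_zpowers x)
  obtain ⟨i, -, hi⟩ := (Nat.dvd_prime_pow Fact.out).1 hk
  have h1 : (⟨a ^ s, pow_mem ha s⟩ : A) ∈ (S : Subgroup A) := hmemS _ ⟨i, hi⟩
  have h2 : (⟨w, hw⟩ : A) ∈ (S : Subgroup A) := hmemS _ ⟨j, hj⟩
  have hcs : a ^ s * w = w * a ^ s := by
    haveI := hab ((S : Subgroup A).map A.subtype) (S.2.map _)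
    exact congrArg Subtype.val (mul_comm' (⟨a ^ s, ⟨_, h1, rfl⟩⟩ : (S : Subgroup A).map A.subtype)
      ⟨w, ⟨_, h2, rfl⟩⟩)
  have hct : a ^ t * w = w * a ^ t := by
    have := commute_of_nilpotent hnil ⟨a ^ t, pow_mem ha t⟩ ⟨w, hw⟩ (by
      rw [Subgroup.orderOf_mk, Subgroup.orderOf_mk, hj]
      exact hcop.pow_right j)
    exact congrArg Subtype.val this.eq
  calc a * w = a ^ s * a ^ t * w := by rw [hst]
    _ = w * (a ^ s * a ^ t) := by rw [mul_assoc, hct, ← mul_assoc, hcs, mul_assoc]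
    _ = w * a := by rw [hst]

/-- With abelian Sylow `p`-subgroups and trivial centre, a non-identity `p`-element lies in exactly
one member of the cover. -/
theorem NilMinCover.eq_of_mem (h : NilMinCover 𝓐) (hZ : Subgroup.center G = ⊥) {p : ℕ}
    [Fact p.Prime] (hab : ∀ Q : Subgroup G, IsPGroup p Q → IsMulCommutative Q) {A B : Subgroup G}
    (hA : A ∈ 𝓐) (hB : B ∈ 𝓐) {w : G} (hwA : w ∈ A) (hwB : w ∈ B) (hw1 : w ≠ 1)
    (hwp : ∃ k : ℕ, orderOf w = p ^ k) : A = B := by
  refine h.eq_of_le hA hB ?_ (h.le_centralizer hab hA hwA hwp) (h.le_centralizer hab hB hwB hwp)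
  intro htop
  apply hw1
  have : w ∈ Subgroup.center G := Subgroup.mem_center_iff.2 fun g =>
    Subgroup.mem_centralizer_singleton_iff.1 (htop ▸ Subgroup.mem_top g)
  rwa [hZ, Subgroup.mem_bot] at this

omit [Finite G] in
/-- A finite abelian Sylow subgroup makes every `p`-subgroup abelian. -/
theorem isMulCommutative_of_sylow [Finite G] {p : ℕ} [Fact p.Prime] (P : Sylow p G)
    (hab : IsMulCommutative ↥(P : Subgroup G)) (Q : Subgroup G) (hQ : IsPGroup p Q) :
    IsMulCommutative Q := by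
  obtain ⟨S, hS⟩ := hQ.exists_le_sylow
  refine ⟨⟨fun a b => Subtype.ext ?_⟩⟩
  have := (Sylow.equiv S P).injective (a₁ := ⟨a, hS a.2⟩ * ⟨b, hS b.2⟩)
    (a₂ := ⟨b, hS b.2⟩ * ⟨a, hS a.2⟩) (by rw [map_mul, map_mul]; exact hab.is_comm.comm _ _)
  exact congrArg (fun z : ↥(S : Subgroup G) => (z : G)) this

/-- Covers of a group with trivial centre: an abelian Sylow subgroup that is not elementary abelian,
or is cyclic, lies in a member equal to its centraliser. -/
theorem NilMinCover.exists_eq_centralizer (h : NilMinCover 𝓐) (hZ : Subgroup.center G = ⊥)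
    {p : ℕ} [Fact p.Prime] (P : Sylow p G) (hab : IsMulCommutative ↥(P : Subgroup G))
    (hne : (P : Subgroup G) ≠ ⊥)
    (hP : ¬ Cfsg.IsElementaryAbelian p (P : Subgroup G) ∨ IsCyclic ↥(P : Subgroup G)) :
    ∃ A ∈ 𝓐, (P : Subgroup G) ≤ A ∧ Subgroup.centralizer ((P : Subgroup G) : Set G) = A := by
  have habQ := isMulCommutative_of_sylow P hab
  have hcomm : ∀ x ∈ (P : Subgroup G), ∀ y ∈ (P : Subgroup G), Commute x y := fun x hx y hy =>
    congrArg Subtype.val (hab.is_comm.comm (⟨x, hx⟩ : ↥(P : Subgroup G)) ⟨y, hy⟩)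
  have hpow : ∀ x ∈ (P : Subgroup G), ∃ k : ℕ, orderOf x = p ^ k := fun x hx => by
    obtain ⟨k, hk⟩ := IsPGroup.iff_orderOf.1 P.2 ⟨x, hx⟩
    exact ⟨k, by rwa [Subgroup.orderOf_mk] at hk⟩
  obtain ⟨⟨hprop, hcov⟩, -, hnil⟩ := id h
  have huniq : ∀ {A B : Subgroup G}, A ∈ 𝓐 → B ∈ 𝓐 → ∀ w ∈ (P : Subgroup G), w ≠ 1 →
      w ∈ A → w ∈ B → A = B := fun hA hB w hw hw1 hwA hwB =>
    h.eq_of_mem hZ habQ hA hB hwA hwB hw1 (hpow w hw)
  obtain ⟨A, hA, hPA⟩ : ∃ A ∈ 𝓐, (P : Subgroup G) ≤ A := by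
    by_cases hcyc : IsCyclic ↥(P : Subgroup G)
    · obtain ⟨g, hg⟩ := hcyc.exists_generator
      obtain ⟨A, hA, hgA⟩ := hcov g
      refine ⟨A, hA, fun x hx => ?_⟩
      obtain ⟨n, hn⟩ := Subgroup.mem_zpowers_iff.1 (hg ⟨x, hx⟩)
      have : (g : G) ^ n = x := by rw [← Subgroup.coe_zpow, hn]
      exact this ▸ zpow_mem hgA n
    · obtain ⟨x, hx, hxp⟩ : ∃ x ∈ (P : Subgroup G), x ^ p ≠ 1 := by
        by_contra hall
        push Not at hall
        exact (hP.resolve_right hcyc) ⟨hab, hall⟩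
      obtain ⟨A, hA, hxA⟩ := hcov x
      have hΩ : ∀ z ∈ (P : Subgroup G), z ^ p = 1 → z ∈ A := by
        intro z hz hzp
        obtain ⟨B, hB, hB'⟩ := hcov (x * z)
        have hBA : B = A := huniq hB hA (x ^ p) (pow_mem hx p) hxp (by
          have := pow_mem hB' p
          rwa [(hcomm x hx z hz).mul_pow, hzp, mul_one] at this) (pow_mem hxA p)
        subst hBA
        simpa using mul_mem (inv_mem hxA) hB'
      refine ⟨A, hA, fun y hy => ?_⟩
      rcases eq_or_ne y 1 with rfl | hy1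
      · exact one_mem _
      obtain ⟨k, hk⟩ := hpow y hy
      obtain ⟨j, rfl⟩ : ∃ j, k = j + 1 := ⟨k - 1, by
        rcases Nat.eq_zero_or_pos k with rfl | hk0
        · exact absurd (orderOf_eq_one_iff.1 (by simpa using hk)) hy1
        · omega⟩
      set v := y ^ p ^ j with hv
      have hvp : v ^ p = 1 := by rw [hv, ← pow_mul, ← pow_succ, ← hk, pow_orderOf_eq_one]
      have hv1 : v ≠ 1 := fun h1 => by
        have hd := orderOf_dvd_of_pow_eq_one h1
        rw [hk] at hd
        exact absurd (Nat.le_of_dvd (pow_pos (Fact.out : p.Prime).pos _) hd)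
          (not_le.2 (Nat.pow_lt_pow_right (Fact.out : p.Prime).one_lt (Nat.lt_succ_self j)))
      obtain ⟨D, hD, hyD⟩ := hcov y
      have : D = A := huniq hD hA v (pow_mem hy _) hv1 (pow_mem hyD _)
        (hΩ v (pow_mem hy _) hvp)
      exact this ▸ hyD
  refine ⟨A, hA, hPA, le_antisymm ?_ ?_⟩
  · intro z hz
    obtain ⟨s, t, hst, ⟨k, hk⟩, hcop⟩ := exists_pParts (p := p) (isOfFinOrder_of_finite z)
    have hzc : ∀ (n : ℕ), ∀ x ∈ (P : Subgroup G), Commute (z ^ n) x := fun n x hx =>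
      Commute.pow_left (Subgroup.mem_centralizer_iff.1 hz x hx).symm n
    have hzs : z ^ s ∈ (P : Subgroup G) := by
      obtain ⟨i, -, hi⟩ := (Nat.dvd_prime_pow Fact.out).1 hk
      have hU : IsPGroup p ↥((P : Subgroup G) ⊔ Subgroup.zpowers (z ^ s)) := by
        refine P.2.to_sup_of_normal_left' (IsPGroup.of_card (n := i)
          (by rw [Nat.card_zpowers, hi])) (Subgroup.zpowers_le.2 ?_)
        exact Subgroup.centralizer_le_normalizer _ (pow_mem hz s)
      exact (P.3 hU le_sup_left).le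
        ((le_sup_right : _ ≤ (P : Subgroup G) ⊔ Subgroup.zpowers (z ^ s)) (Subgroup.mem_zpowers _))
    obtain ⟨x, hx, hx1⟩ := (Subgroup.bot_or_exists_ne_one (P : Subgroup G)).resolve_left hne
    obtain ⟨B, hB, hxzB⟩ := hcov (x * z ^ t)
    obtain ⟨j, hj⟩ := hpow x hx
    have hcxz : Commute x (z ^ t) := (hzc t x hx).symm
    have hcop' : (orderOf x).Coprime (orderOf (z ^ t)) := by
      rw [hj]; exact (hcop.pow_right j).symm
    obtain ⟨u, hu, hv⟩ := Nat.chineseRemainder hcop' 1 0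
    have hxpow : (x * z ^ t) ^ u = x := by
      rw [hcxz.mul_pow, pow_eq_pow_iff_modEq.2 hu, pow_one,
        orderOf_dvd_iff_pow_eq_one.1 (Nat.modEq_zero_iff_dvd.1 hv), mul_one]
    have hxB : x ∈ B := hxpow ▸ pow_mem hxzB u
    have hBA : B = A := huniq hB hA x hx hx1 hxB (hPA hx)
    subst hBA
    have : z ^ t ∈ B := by simpa using mul_mem (inv_mem hxB) hxzB
    rw [← hst]
    exact mul_mem (hPA hzs) this
  · intro a ha
    rw [Subgroup.mem_centralizer_iff]
    intro x hx
    exact (Subgroup.mem_centralizer_singleton_iff.1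
      (h.le_centralizer habQ hA (hPA hx) (hpow x hx) ha)).symm

/-- The normaliser of such a Sylow subgroup is the only maximal subgroup above its centraliser. -/
theorem NilMinCover.eq_normalizer (h : NilMinCover 𝓐) {p : ℕ} [Fact p.Prime] (P : Sylow p G)
    (hnn : ¬ (P : Subgroup G).Normal) {A : Subgroup G} (hA : A ∈ 𝓐) (hPA : (P : Subgroup G) ≤ A)
    (hAC : Subgroup.centralizer ((P : Subgroup G) : Set G) = A)
    (hall : ∀ Q : Sylow p G, ∃ B ∈ 𝓐, (Q : Subgroup G) ≤ B ∧
      Subgroup.centralizer ((Q : Subgroup G) : Set G) = B)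
    (M : Subgroup G) (hM : M ≠ ⊤) (hAM : A ≤ M) :
    M ≤ Subgroup.normalizer ((P : Subgroup G) : Set G) := by
  intro m hm
  obtain ⟨B, hB, hQB, hBC⟩ := hall (m • P)
  have hQ : ((m • P : Sylow p G) : Subgroup G) = (P : Subgroup G).map (MulAut.conj m).toMonoidHom := by
    rw [Sylow.coe_subgroup_smul]; rfl
  have hBM : B ≤ M := by
    intro b hb
    have hb' : m⁻¹ * b * m ∈ Subgroup.centralizer ((P : Subgroup G) : Set G) := by
      rw [Subgroup.mem_centralizer_iff]
      intro x hx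
      have hxQ : m * x * m⁻¹ ∈ ((m • P : Sylow p G) : Subgroup G) := hQ ▸ ⟨x, hx, rfl⟩
      have := Subgroup.mem_centralizer_iff.1 (hBC.ge hb) _ hxQ
      calc x * (m⁻¹ * b * m) = m⁻¹ * (m * x * m⁻¹ * b) * m := by group
        _ = m⁻¹ * b * m * x := by rw [this]; group
    have h2 := mul_mem (mul_mem hm (hAM (hAC.le hb'))) (inv_mem hm)
    simpa [mul_assoc] using h2
  have hBA : B = A := h.eq_of_le hB hA hM hBM hAM
  -- then the two Sylow subgroups centralise each other, so they are equal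
  have hle : ((m • P : Sylow p G) : Subgroup G) ≤ Subgroup.normalizer ((P : Subgroup G) : Set G) :=
    (hQB.trans (hBA.le.trans hAC.ge)).trans (Subgroup.centralizer_le_normalizer _)
  have hU := P.3 (P.2.to_sup_of_normal_left' (m • P).2 hle) le_sup_left
  have hQP : ((m • P : Sylow p G) : Subgroup G) = (P : Subgroup G) :=
    ((m • P).3 P.2 (le_trans le_sup_right hU.le)).symm
  rw [Subgroup.mem_normalizer_iff_map_conj_eq]
  exact hQ.symm.trans hQP

end CfsgLib.HallClasses

namespace CfsgLib.HallClasses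

variable {G : Type*} [Group G] [Finite G] {𝓐 : Finset (Subgroup G)}

/-- The conclusions of Bryce and Serena for a Sylow subgroup that is cyclic, or abelian and not
elementary abelian. -/
theorem NilMinCover.sylow_main (h : NilMinCover 𝓐) (hZ : Subgroup.center G = ⊥)
    {p : ℕ} [Fact p.Prime] (P : Sylow p G) (hnn : ¬ (P : Subgroup G).Normal)
    (hab : IsMulCommutative ↥(P : Subgroup G))
    (hP : ¬ Cfsg.IsElementaryAbelian p (P : Subgroup G) ∨ IsCyclic ↥(P : Subgroup G)) :
    ∃ A ∈ 𝓐, (P : Subgroup G) ≤ A ∧ Subgroup.centralizer ((P : Subgroup G) : Set G) = A ∧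
      IsCoatom (Subgroup.normalizer ((P : Subgroup G) : Set G)) ∧
      (∀ M : Subgroup G, IsCoatom M → A ≤ M →
        M = Subgroup.normalizer ((P : Subgroup G) : Set G)) ∧
      ∀ g : G, g ∉ Subgroup.normalizer ((P : Subgroup G) : Set G) →
        ¬ p ∣ Nat.card ↥(Subgroup.normalizer ((P : Subgroup G) : Set G) ⊓
          (Subgroup.normalizer ((P : Subgroup G) : Set G)).map (MulAut.conj g).toMonoidHom) := by
  have hne : ∀ Q : Sylow p G, (Q : Subgroup G) ≠ ⊥ := by
    intro Q hQ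
    apply hnn
    have : Nat.card (P : Subgroup G) = 1 := by
      rw [Nat.card_congr (P.equiv Q).toEquiv, hQ, Subgroup.card_bot]
    rw [Subgroup.card_eq_one.1 this]
    infer_instance
  have hall : ∀ Q : Sylow p G, ∃ B ∈ 𝓐, (Q : Subgroup G) ≤ B ∧
      Subgroup.centralizer ((Q : Subgroup G) : Set G) = B := by
    intro Q
    refine h.exists_eq_centralizer hZ Q (isMulCommutative_of_sylow P hab _ Q.2) (hne Q) ?_
    rcases hP with hP | hP
    · left
      intro hQ
      refine hP ⟨hab, fun a ha => ?_⟩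
      have := hQ.2 _ ((P.equiv Q) ⟨a, ha⟩).2
      rw [← Subgroup.coe_pow, ← map_pow, OneMemClass.coe_eq_one] at this
      exact congrArg Subtype.val ((P.equiv Q).map_eq_one_iff.1 this)
    · right
      exact isCyclic_of_surjective (P.equiv Q).toMonoidHom (P.equiv Q).surjective
  obtain ⟨A, hA, hPA, hAC⟩ := hall P
  set N := Subgroup.normalizer ((P : Subgroup G) : Set G) with hN
  have hNtop : N ≠ ⊤ := fun htop => hnn (Subgroup.normalizer_eq_top_iff.1 htop)
  have hAN : A ≤ N := hAC.ge.trans (Subgroup.centralizer_le_normalizer _)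
  refine ⟨A, hA, hPA, hAC, ⟨hNtop, ?_⟩, ?_, ?_⟩
  · intro M hNM
    by_contra hM
    exact absurd (h.eq_normalizer P hnn hA hPA hAC hall M hM (hAN.trans hNM.le)) (not_le_of_gt hNM)
  · intro M hM hAM
    have hle := h.eq_normalizer P hnn hA hPA hAC hall M hM.1 hAM
    by_contra hne'
    exact hNtop (hM.2 _ (lt_of_le_of_ne hle hne'))
  · intro g hg hdvd
    obtain ⟨w, hw⟩ := exists_prime_orderOf_dvd_card' p hdvd
    have hw' : orderOf (w : G) = p := by rwa [Subgroup.orderOf_coe]
    have hwP : ∀ Q : Sylow p G, (w : G) ∈ Subgroup.normalizer ((Q : Subgroup G) : Set G) →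
        (w : G) ∈ (Q : Subgroup G) := by
      intro Q hwN
      have hU : IsPGroup p (Subgroup.zpowers (w : G)) :=
        IsPGroup.of_card (n := 1) (by rw [Nat.card_zpowers, hw', pow_one])
      have hUQ := Q.3 (Q.2.to_sup_of_normal_left' hU (Subgroup.zpowers_le.2 hwN)) le_sup_left
      exact hUQ.le ((le_sup_right : _ ≤ (Q : Subgroup G) ⊔ _) (Subgroup.mem_zpowers _))
    have hwQ : (w : G) ∈ Subgroup.normalizer (((g • P : Sylow p G) : Subgroup G) : Set G) := by
      have h2 := Subgroup.le_normalizer_map (MulAut.conj g).toMonoidHom w.2.2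
      rw [Sylow.coe_subgroup_smul]
      exact h2
    obtain ⟨B, hB, hQB, hBC⟩ := hall (g • P)
    have hBA : B = A := h.eq_of_mem hZ (isMulCommutative_of_sylow P hab) hB hA
      (hQB (hwP _ hwQ)) (hPA (hwP P w.2.1))
      (fun h1 => (Fact.out : p.Prime).ne_one (by rw [← hw', h1, orderOf_one]))
      ⟨1, by rw [hw', pow_one]⟩
    have hle : ((g • P : Sylow p G) : Subgroup G) ≤ N :=
      (hQB.trans (hBA.le.trans hAC.ge)).trans (Subgroup.centralizer_le_normalizer _)
    have hU := P.3 (P.2.to_sup_of_normal_left' (g • P).2 hle) le_sup_left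
    have hQP : g • P = P := Sylow.ext ((g • P).3 P.2 (le_trans le_sup_right hU.le)).symm
    exact hg (Sylow.smul_eq_iff_mem_normalizer.1 hQP)

end CfsgLib.HallClasses
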