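import Cfsg.Agent.Lib.HallClasses.ClassBound
import Cfsg.Agent.Lib.NormalPComplement.Frobenius

/-!
Number of classes of `p`-elements: a group that is not `p`-nilpotent has few of them.
-/

namespace CfsgLib.HallClasses

open Cfsg CfsgLib.NormalPComplement

set_option linter.unusedSectionVars false

variable {G : Type*} [Group G] [Finite G] {p : ℕ} [Fact p.Prime]

/-- Without a normal `p`-complement, some `p'`-element normalises and does not centralise a
`p`-subgroup of `P` that contains the centre of `P`. -/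
theorem exists_action_containing_center (h : ¬ HasNormalPComplement p G) (P : Sylow p G) :
    ∃ Q : Subgroup G, Q ≤ (P : Subgroup G) ∧
      (Subgroup.center ↥(P : Subgroup G)).map (P : Subgroup G).subtype ≤ Q ∧
      ∃ y ∈ Subgroup.normalizer (Q : Set G),
        y ∉ Subgroup.centralizer (Q : Set G) ∧ (orderOf y).Coprime p := by
  classical
  set Good : Subgroup G → Prop := fun Q => IsPGroup p Q ∧
    ∃ y ∈ Subgroup.normalizer (Q : Set G),
      y ∉ Subgroup.centralizer (Q : Set G) ∧ (orderOf y).Coprime p with hGood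
  have hex : ∃ Q, Good Q := by
    by_contra hno
    exact h (hasNormalPComplement_of_frobeniusCondition fun Q hQ g hg hc => by
      by_contra hn
      exact hno ⟨Q, hQ, g, hg, hn, hc⟩)
  obtain ⟨Q0, hQ0, hmax⟩ :=
    Set.Finite.exists_maximalFor (fun Q : Subgroup G => Nat.card Q) {Q | Good Q} (Set.toFinite _) hex
  obtain ⟨hQp, y, hy, hyc, hyp⟩ := hQ0
  -- every p-subgroup of the centraliser of `Q0` lies in `Q0`
  have hcen : ∀ U : Subgroup G, IsPGroup p U → U ≤ Subgroup.centralizer (Q0 : Set G) →
      U ≤ Q0 := by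
    intro U hU hUC
    set C := Subgroup.centralizer (Q0 : Set G) with hCdef
    obtain ⟨T, hT⟩ := (hU.comap_subtype (K := C)).exists_le_sylow
    set T' : Subgroup G := (T : Subgroup C).map C.subtype with hT'
    have hUT : U ≤ T' := fun u hu => ⟨⟨u, hUC hu⟩, hT hu, rfl⟩
    have hT'C : T' ≤ C := Subgroup.map_subtype_le _
    refine hUT.trans ?_
    by_contra hTQ
    set R : Subgroup G := Q0 ⊔ T' with hR
    have hTN : T' ≤ Subgroup.normalizer (Q0 : Set G) :=
      hT'C.trans (Subgroup.centralizer_le_normalizer _)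
    have hRp : IsPGroup p R := hQp.to_sup_of_normal_left' (T.2.map _) hTN
    -- adjust `y` by an element of the centraliser so that it normalises `T'`
    set N := Subgroup.normalizer (Q0 : Set G) with hN
    have hCN : C ≤ N := Subgroup.centralizer_le_normalizer _
    have hnorm : (C.subgroupOf N).Normal :=
      ⟨fun c hc g => by
        rw [Subgroup.mem_subgroupOf] at hc ⊢
        rw [hCdef, Subgroup.mem_centralizer_iff] at hc ⊢
        intro x hx
        have hgx : (g : G)⁻¹ * x * (g : G) ∈ (Q0 : Set G) := by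
          have := (Subgroup.mem_normalizer_iff.1 (inv_mem g.2) x).1 hx
          simpa using this
        have := hc _ hgx
        push_cast
        calc x * ((g : G) * (c : G) * (g : G)⁻¹)
            = (g : G) * (((g : G)⁻¹ * x * (g : G)) * (c : G)) * (g : G)⁻¹ := by group
          _ = (g : G) * (c : G) * (g : G)⁻¹ * x := by rw [this]; group⟩
    let e := Subgroup.subgroupOfEquivOfLe hCN
    let TS : Sylow p (C.subgroupOf N) :=
      T.comapOfInjective e.toMonoidHom e.injective (by
        intro x _; exact e.surjective x)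
    have hTS := Sylow.normalizer_sup_eq_top TS
    have hmapTS : (((TS : Subgroup (C.subgroupOf N)).map (C.subgroupOf N).subtype).map N.subtype) =
        T' := by
      ext x
      constructor
      · rintro ⟨n, ⟨c, hc, rfl⟩, rfl⟩
        exact ⟨e c, hc, rfl⟩
      · rintro ⟨c, hc, rfl⟩
        exact ⟨_, ⟨e.symm c, by
          show e (e.symm c) ∈ (T : Subgroup C)
          rw [e.apply_symm_apply]; exact hc, rfl⟩, rfl⟩
    have hyN : (⟨y, hy⟩ : N) ∈ (⊤ : Subgroup N) := trivial
    rw [← hTS, Subgroup.mem_sup_of_normal_right] at hyN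
    obtain ⟨n, hn, c, hc, hnc⟩ := hyN
    have hnT : (n : G) ∈ Subgroup.normalizer (T' : Set G) := by
      rw [← hmapTS]
      exact Subgroup.le_normalizer_map N.subtype ⟨n, hn, rfl⟩
    have hnQ : (n : G) ∈ Subgroup.normalizer (Q0 : Set G) := n.2
    have hye : y = (n : G) * (c : G) := congrArg Subtype.val hnc.symm
    obtain ⟨a, ha⟩ := exists_pow_coprime_orderOf (p := p) (isOfFinOrder_of_finite (n : G))
    have hnRc : ((n : G) ^ p ^ a) ∉ Subgroup.centralizer (R : Set G) := by
      intro hmem
      have hmem' : (n : G) ^ p ^ a ∈ C :=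
        Subgroup.centralizer_le (show (Q0 : Set G) ⊆ (R : Set G) from
          (le_sup_left : Q0 ≤ R)) hmem
      -- the image of `y` in N/C is a p'-element equal to that of `n`
      have hq : (QuotientGroup.mk' (C.subgroupOf N)) ⟨y, hy⟩ =
          (QuotientGroup.mk' (C.subgroupOf N)) n := by
        rw [← hnc, map_mul, show (QuotientGroup.mk' (C.subgroupOf N)) c = 1 from
          (QuotientGroup.eq_one_iff c).2 hc, mul_one]
      have h1 : ((QuotientGroup.mk' (C.subgroupOf N)) ⟨y, hy⟩) ^ p ^ a = 1 := by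
        rw [hq, ← map_pow]
        exact (QuotientGroup.eq_one_iff _).2 (by simpa [Subgroup.mem_subgroupOf] using hmem')
      have h2 : orderOf ((QuotientGroup.mk' (C.subgroupOf N)) ⟨y, hy⟩) ∣ orderOf y := by
        refine (orderOf_map_dvd _ _).trans ?_
        rw [← Subgroup.orderOf_coe]
      have h3 := Nat.eq_one_of_dvd_coprimes (hyp.pow_right a) h2 (orderOf_dvd_of_pow_eq_one h1)
      have h4 : (⟨y, hy⟩ : N) ∈ C.subgroupOf N :=
        (QuotientGroup.eq_one_iff (⟨y, hy⟩ : N)).1 (orderOf_eq_one_iff.1 h3)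
      exact hyc (Subgroup.mem_subgroupOf.1 h4)
    have hnR : (n : G) ^ p ^ a ∈ Subgroup.normalizer (R : Set G) := by
      apply pow_mem
      rw [hR, Subgroup.mem_normalizer_iff_map_conj_eq, Subgroup.map_sup,
        Subgroup.mem_normalizer_iff_map_conj_eq.1 hnQ, Subgroup.mem_normalizer_iff_map_conj_eq.1 hnT]
    have hle : Nat.card R ≤ Nat.card Q0 :=
      hmax ⟨hRp, _, hnR, hnRc, ha⟩ (Subgroup.card_le_of_le le_sup_left)
    exact hTQ ((le_sup_right : T' ≤ R).trans
      (Subgroup.eq_of_le_of_card_ge (le_sup_left : Q0 ≤ R) hle).ge)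
  -- conjugate into `P`
  obtain ⟨S, hS⟩ := hQp.exists_le_sylow
  obtain ⟨g, hg⟩ := MulAction.exists_smul_eq G S P
  set f : G →* G := (MulAut.conj g).toMonoidHom with hf
  have hfinj : Function.Injective f := (MulAut.conj g).injective
  have hmapP : (S : Subgroup G).map f = (P : Subgroup G) := by
    rw [← hg, Sylow.coe_subgroup_smul]; rfl
  refine ⟨Q0.map f, (Subgroup.map_mono hS).trans hmapP.le, ?_, f y,
    Subgroup.le_normalizer_map f ⟨y, hy, rfl⟩, ?_, ?_⟩
  · intro z hz
    obtain ⟨z', hz', rfl⟩ := hz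
    obtain ⟨w, hwS, hw⟩ : ∃ w ∈ (S : Subgroup G), f w = (z' : G) := by
      have hmem : (z' : G) ∈ (S : Subgroup G).map f := by rw [hmapP]; exact z'.2
      exact hmem
    have hwQ : Subgroup.zpowers w ≤ Q0 := by
      refine hcen _ (S.2.to_le (Subgroup.zpowers_le.2 hwS)) (Subgroup.zpowers_le.2 ?_)
      rw [Subgroup.mem_centralizer_iff]
      intro q hq
      apply hfinj
      rw [map_mul, map_mul, hw]
      have hqP : f q ∈ (P : Subgroup G) := hmapP ▸ ⟨q, hS hq, rfl⟩
      exact congrArg Subtype.val (Subgroup.mem_center_iff.1 hz' ⟨f q, hqP⟩)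
    exact ⟨w, hwQ (Subgroup.mem_zpowers w), hw⟩
  · intro hmem
    apply hyc
    rw [Subgroup.mem_centralizer_iff] at hmem ⊢
    intro q hq
    apply hfinj
    simpa [map_mul] using hmem (f q) ⟨q, hq, rfl⟩
  · rwa [orderOf_injective f hfinj]

/-- For odd `p`, more than `(p+1)|P|/2p` classes of `p`-elements force a normal `p`-complement
and an abelian Sylow subgroup. -/
theorem card_pClasses_le_of_not (hp : p ≠ 2) (P : Sylow p G)
    (h : ¬ (HasNormalPComplement p G ∧ IsMulCommutative ↥(P : Subgroup G))) :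
    2 * p * Nat.card {c : ConjClasses G // ∀ x ∈ c.carrier, ∃ k : ℕ, orderOf x = p ^ k} ≤
      (p + 1) * Nat.card (P : Subgroup G) := by
  have hp3 : 3 ≤ p := by
    have := (Fact.out : p.Prime).two_le
    omega
  by_cases hab : IsMulCommutative ↥(P : Subgroup G)
  · obtain ⟨Q, hQP, hZQ, y, hy, hyc, hyp⟩ :=
      exists_action_containing_center (fun hn => h ⟨hn, hab⟩) P
    obtain ⟨c, q, hcq, -, hqP, hk⟩ := card_pClasses_le_of_action P Q hQP hZQ y hy hyc hyp 2
      (fun j hj0 hj2 => by
        have : j = 1 := by omega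
        subst this; exact Nat.coprime_one_right _)
    have hpc : p * c ≤ q := by nlinarith
    nlinarith
  · have hk := card_pClasses_le_of_nonabelian P hab
    have hkey : 2 * (p ^ 2 + p - 1) ≤ (p + 1) * p ^ 2 := by
      have : p ^ 2 + p - 1 ≤ p ^ 2 + p := Nat.sub_le _ _
      nlinarith
    have h2 : p ^ 2 * (2 * p * Nat.card {c : ConjClasses G // ∀ x ∈ c.carrier,
        ∃ k : ℕ, orderOf x = p ^ k}) ≤ p ^ 2 * ((p + 1) * Nat.card (P : Subgroup G)) := by
      calc _ = 2 * (p ^ 3 * Nat.card {c : ConjClasses G // ∀ x ∈ c.carrier,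
              ∃ k : ℕ, orderOf x = p ^ k}) := by ring
        _ ≤ 2 * ((p ^ 2 + p - 1) * Nat.card (P : Subgroup G)) := Nat.mul_le_mul_left _ hk
        _ = 2 * (p ^ 2 + p - 1) * Nat.card (P : Subgroup G) := by ring
        _ ≤ (p + 1) * p ^ 2 * Nat.card (P : Subgroup G) := Nat.mul_le_mul_right _ hkey
        _ = _ := by ring
    exact Nat.le_of_mul_le_mul_left h2 (pow_pos (Fact.out : p.Prime).pos 2)

/-- For `p = 2`, more than `|P|/2` classes of `2`-elements force a normal `2`-complement. -/
theorem card_twoClasses_le_of_not (P : Sylow 2 G) (h : ¬ HasNormalPComplement 2 G) :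
    2 * Nat.card {c : ConjClasses G // ∀ x ∈ c.carrier, ∃ k : ℕ, orderOf x = 2 ^ k} ≤
      Nat.card (P : Subgroup G) := by
  obtain ⟨Q, hQP, hZQ, y, hy, hyc, hyp⟩ := exists_action_containing_center h P
  obtain ⟨c, q, -, hcq, hqP, hk⟩ := card_pClasses_le_of_action P Q hQP hZQ y hy hyc hyp 3
    (fun j hj0 hj3 => by
      interval_cases j
      · exact Nat.coprime_one_right _
      · exact hyp)
  have := hcq rfl
  omega

/-- In a group of odd order, for an odd prime `p`, at least half as many classes of `p`-elements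
as elements of a Sylow subgroup force a normal `p`-complement and an abelian Sylow subgroup. -/
theorem card_pClasses_le_half_of_odd (hodd : Odd (Nat.card G)) (P : Sylow p G)
    (h : ¬ (HasNormalPComplement p G ∧ IsMulCommutative ↥(P : Subgroup G))) (hp : p ≠ 2) :
    2 * Nat.card {c : ConjClasses G // ∀ x ∈ c.carrier, ∃ k : ℕ, orderOf x = p ^ k} ≤
      Nat.card (P : Subgroup G) := by
  have hp2 := (Fact.out : p.Prime).two_le
  have hp3 : 3 ≤ p := by omega
  by_cases hab : IsMulCommutative ↥(P : Subgroup G)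
  · obtain ⟨Q, hQP, hZQ, y, hy, hyc, hyp⟩ :=
      exists_action_containing_center (fun hn => h ⟨hn, hab⟩) P
    have hy2 : (orderOf y).Coprime 2 :=
      Nat.coprime_two_right.2 (hodd.of_dvd_nat (orderOf_dvd_natCard y))
    by_cases h3 : p = 3
    · subst h3
      obtain ⟨c, q, hcq, -, hqP, hk⟩ := card_pClasses_le_of_action P Q hQP hZQ y hy hyc hyp 5
        (fun j hj0 hj5 => by
          interval_cases j
          · exact Nat.coprime_one_right _
          · exact hy2
          · exact hyp
          · exact hy2.pow_right 2)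
      omega
    · have hp4 : p ≠ 4 := by
        rintro rfl
        exact absurd (Fact.out : Nat.Prime 4) (by norm_num)
      obtain ⟨c, q, hcq, -, hqP, hk⟩ := card_pClasses_le_of_action P Q hQP hZQ y hy hyc hyp 3
        (fun j hj0 hj3 => by
          interval_cases j
          · exact Nat.coprime_one_right _
          · exact hy2)
      have hpc : p * c ≤ q := by nlinarith
      have : 4 ≤ p := by omega
      nlinarith
  · have hk := card_pClasses_le_of_nonabelian P hab
    have hkey : 2 * (p ^ 2 + p - 1) ≤ p ^ 3 := by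
      have : p ^ 2 + p - 1 ≤ p ^ 2 + p := Nat.sub_le _ _
      nlinarith
    have h2 : p ^ 3 * (2 * Nat.card {c : ConjClasses G // ∀ x ∈ c.carrier,
        ∃ k : ℕ, orderOf x = p ^ k}) ≤ p ^ 3 * Nat.card (P : Subgroup G) := by
      calc _ = 2 * (p ^ 3 * Nat.card {c : ConjClasses G // ∀ x ∈ c.carrier,
              ∃ k : ℕ, orderOf x = p ^ k}) := by ring
        _ ≤ 2 * ((p ^ 2 + p - 1) * Nat.card (P : Subgroup G)) := Nat.mul_le_mul_left _ hk
        _ = 2 * (p ^ 2 + p - 1) * Nat.card (P : Subgroup G) := by ring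
        _ ≤ _ := Nat.mul_le_mul_right _ hkey
    exact Nat.le_of_mul_le_mul_left h2 (pow_pos (Fact.out : p.Prime).pos 3)

end CfsgLib.HallClasses
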