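import Cfsg.Agent.Lib.HallClasses.PClasses

/-!
Classes of `π`-elements, and normal `π`-complements from `r`-nilpotency for each `r ∈ π`.
-/

namespace CfsgLib.HallClasses

open Cfsg CfsgLib.NormalPComplement

universe u

set_option linter.unusedSectionVars false

/-- `x` is a `π`-element. -/
def PiEl {G : Type u} [Group G] (π : Finset ℕ) (x : G) : Prop :=
  ∀ r : ℕ, r.Prime → r ∣ orderOf x → r ∈ π

theorem piEl_conj_iff {G : Type u} [Group G] {π : Finset ℕ} {x y : G} (h : IsConj x y) :
    PiEl π x ↔ PiEl π y := by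
  obtain ⟨g, rfl⟩ := isConj_iff.1 h
  have : orderOf (g * x * g⁻¹) = orderOf x :=
    orderOf_injective (MulAut.conj g).toMonoidHom (MulAut.conj g).injective x
  simp [PiEl, this]

/-- Splitting off a prime: `k_π ≤ k_r * ∏_{q ∈ π, q ≠ r} |G|_q`, given the bound for `π ∖ {r}`. -/
theorem card_piClasses_insert_le {G : Type u} [Group G] [Finite G] (σ : Finset ℕ) {r : ℕ}
    [Fact r.Prime]
    (hσ : ∀ (H : Type u) [Group H] [Finite H],
      Nat.card {c : ConjClasses H // ∀ x ∈ c.carrier, PiEl σ x} ≤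
        σ.prod (fun q => q ^ (Nat.card H).factorization q)) :
    Nat.card {c : ConjClasses G // ∀ x ∈ c.carrier, PiEl (insert r σ) x} ≤
      Nat.card {c : ConjClasses G // ∀ x ∈ c.carrier, ∃ k : ℕ, orderOf x = r ^ k} *
        σ.prod (fun q => q ^ (Nat.card G).factorization q) := by
  classical
  let R := {c : ConjClasses G // ∀ x ∈ c.carrier, ∃ k : ℕ, orderOf x = r ^ k}
  have : Fintype R := Fintype.ofFinite R
  let T : R → Type u := fun c =>
    {d : ConjClasses (Subgroup.centralizer ({Quotient.out c.1} : Set G)) //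
      ∀ x ∈ d.carrier, PiEl σ x}
  have hmem : ∀ {H : Type u} [Group H] (c : ConjClasses H), Quotient.out c ∈ c.carrier :=
    fun c => ConjClasses.mem_carrier_iff_mk_eq.2 (Quotient.out_eq c)
  let F : (Σ c : R, T c) → {c : ConjClasses G // ∀ x ∈ c.carrier, PiEl (insert r σ) x} := fun cd =>
    ⟨ConjClasses.mk (Quotient.out cd.1.1 * ((Quotient.out cd.2.1 :
        Subgroup.centralizer ({Quotient.out cd.1.1} : Set G)) : G)), by
      intro x hx
      refine (piEl_conj_iff (ConjClasses.mk_eq_mk_iff_isConj.1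
        (ConjClasses.mem_carrier_iff_mk_eq.1 hx))).2 ?_
      obtain ⟨k, hk⟩ := cd.1.2 _ (hmem cd.1.1)
      have hd := cd.2.2 _ (hmem cd.2.1)
      intro q hq hdvd
      have hc : Commute (Quotient.out cd.1.1) ((Quotient.out cd.2.1 :
          Subgroup.centralizer ({Quotient.out cd.1.1} : Set G)) : G) :=
        (Subgroup.mem_centralizer_singleton_iff.1
          (Quotient.out cd.2.1 : Subgroup.centralizer ({Quotient.out cd.1.1} : Set G)).2).symm
      rcases (Nat.Prime.dvd_mul hq).1 (hdvd.trans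
        (hc.orderOf_mul_dvd_lcm.trans (Nat.lcm_dvd_mul _ _))) with h | h
      · rw [hk] at h
        exact Finset.mem_insert.2 (Or.inl
          ((Nat.prime_dvd_prime_iff_eq hq Fact.out).1 (hq.dvd_of_dvd_pow h)))
      · exact Finset.mem_insert_of_mem (hd q hq (by rwa [Subgroup.orderOf_coe] at h))⟩
  have hsurj : Function.Surjective F := by
    rintro ⟨c, hc⟩
    obtain ⟨x, rfl⟩ := ConjClasses.exists_rep c
    obtain ⟨a, b, hab, ⟨k, hk⟩, hcop⟩ := exists_pParts (p := r) (isOfFinOrder_of_finite x)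
    have hπ := hc x (ConjClasses.mem_carrier_iff_mk_eq.2 rfl)
    obtain ⟨j, -, hj⟩ := (Nat.dvd_prime_pow Fact.out).1 hk
    let c₁ : R := ⟨ConjClasses.mk (x ^ a), fun z hz => by
      obtain ⟨g, hg⟩ := isConj_iff.1
        (ConjClasses.mk_eq_mk_iff_isConj.1 (ConjClasses.mem_carrier_iff_mk_eq.1 hz)).symm
      refine ⟨j, ?_⟩
      rw [← hj, ← hg]
      exact orderOf_injective (MulAut.conj g).toMonoidHom (MulAut.conj g).injective _⟩
    obtain ⟨g, hg⟩ := isConj_iff.1 (ConjClasses.mk_eq_mk_iff_isConj.1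
      (Quotient.out_eq (ConjClasses.mk (x ^ a)) : ConjClasses.mk _ = _)).symm
    set w : G := g * x ^ b * g⁻¹ with hw
    have hwC : w ∈ Subgroup.centralizer ({Quotient.out c₁.1} : Set G) := by
      rw [Subgroup.mem_centralizer_singleton_iff]
      show w * Quotient.out (ConjClasses.mk (x ^ a)) = Quotient.out (ConjClasses.mk (x ^ a)) * w
      rw [← hg, hw]
      have := (Commute.pow_pow_self x b a).eq
      calc g * x ^ b * g⁻¹ * (g * x ^ a * g⁻¹) = g * (x ^ b * x ^ a) * g⁻¹ := by group
        _ = g * x ^ a * g⁻¹ * (g * x ^ b * g⁻¹) := by rw [this]; group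
    let d : T c₁ := ⟨ConjClasses.mk ⟨w, hwC⟩, fun z hz => by
      refine (piEl_conj_iff (ConjClasses.mk_eq_mk_iff_isConj.1
        (ConjClasses.mem_carrier_iff_mk_eq.1 hz))).2 ?_
      intro q hq hdvd
      rw [Subgroup.orderOf_mk] at hdvd
      have hwo : orderOf w = orderOf (x ^ b) :=
        orderOf_injective (MulAut.conj g).toMonoidHom (MulAut.conj g).injective _
      rw [hwo] at hdvd
      refine (Finset.mem_insert.1 (hπ q hq (hdvd.trans (orderOf_pow_dvd _)))).resolve_left ?_
      rintro rfl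
      exact (Nat.Prime.coprime_iff_not_dvd hq).1 hcop.symm hdvd⟩
    refine ⟨⟨c₁, d⟩, Subtype.ext ?_⟩
    show ConjClasses.mk _ = ConjClasses.mk x
    obtain ⟨h, hh⟩ := isConj_iff.1 (ConjClasses.mk_eq_mk_iff_isConj.1
      (Quotient.out_eq d.1 : ConjClasses.mk _ = ConjClasses.mk (⟨w, hwC⟩ :
        Subgroup.centralizer ({Quotient.out c₁.1} : Set G))))
    have hh' : (h : G) * ((Quotient.out d.1 :
        Subgroup.centralizer ({Quotient.out c₁.1} : Set G)) : G) * (h : G)⁻¹ = w :=
      congrArg Subtype.val hh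
    have hhy := Subgroup.mem_centralizer_singleton_iff.1 h.2
    rw [ConjClasses.mk_eq_mk_iff_isConj]
    refine IsConj.trans (isConj_iff.2 ⟨(h : G), ?_⟩) (isConj_iff.2 ⟨g, rfl⟩).symm
    calc (h : G) * (Quotient.out c₁.1 * ((Quotient.out d.1 :
          Subgroup.centralizer ({Quotient.out c₁.1} : Set G)) : G)) * (h : G)⁻¹
        = ((h : G) * Quotient.out c₁.1) * (h : G)⁻¹ * w := by rw [← hh']; group
      _ = Quotient.out c₁.1 * w := by rw [hhy]; group
      _ = g * (x ^ a * x ^ b) * g⁻¹ := by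
          rw [show Quotient.out c₁.1 = g * x ^ a * g⁻¹ from hg.symm, hw]; group
      _ = g * x * g⁻¹ := by rw [hab]
  refine (Nat.card_le_card_of_surjective F hsurj).trans ?_
  rw [Nat.card_sigma, Nat.card_eq_fintype_card (α := R), ← Finset.card_univ, ← smul_eq_mul]
  refine Finset.sum_le_card_nsmul _ _ _ fun c _ => (hσ _).trans (Finset.prod_le_prod' ?_)
  intro q _
  rcases Nat.eq_zero_or_pos q with rfl | hq
  · simp
  · exact Nat.pow_le_pow_right hq ((Nat.factorization_le_iff_dvd Nat.card_pos.ne'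
      Nat.card_pos.ne').2 (Subgroup.card_subgroup_dvd_card _) q)

/-- `k_π(G) ≤ |G|_π`. -/
theorem card_piClasses_le (π : Finset ℕ) (hπ : ∀ r ∈ π, r.Prime) :
    ∀ (H : Type u) [Group H] [Finite H],
      Nat.card {c : ConjClasses H // ∀ x ∈ c.carrier, PiEl π x} ≤
        π.prod (fun q => q ^ (Nat.card H).factorization q) := by
  induction π using Finset.induction_on with
  | empty =>
    intro H _ _
    rw [Finset.prod_empty, Finite.card_le_one_iff_subsingleton]
    constructor
    rintro ⟨c, hc⟩ ⟨d, hd⟩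
    have key : ∀ c : ConjClasses H, (∀ x ∈ c.carrier, PiEl (∅ : Finset ℕ) x) →
        c = ConjClasses.mk 1 := by
      intro c hc
      obtain ⟨x, rfl⟩ := ConjClasses.exists_rep c
      have hx : orderOf x = 1 := by
        by_contra hne
        exact Finset.notMem_empty _ (hc x (ConjClasses.mem_carrier_iff_mk_eq.2 rfl) _
          (Nat.minFac_prime hne) (Nat.minFac_dvd _))
      rw [orderOf_eq_one_iff.1 hx]
    exact Subtype.ext ((key c hc).trans (key d hd).symm)
  | insert r σ hr ih =>
    intro H _ _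
    have : Fact r.Prime := ⟨hπ r (Finset.mem_insert_self _ _)⟩
    refine (card_piClasses_insert_le σ (ih fun q hq => hπ q (Finset.mem_insert_of_mem hq))).trans ?_
    rw [Finset.prod_insert hr]
    refine Nat.mul_le_mul_right _ ?_
    obtain ⟨P⟩ := (inferInstance : Nonempty (Sylow r H))
    refine (card_pClasses_le_ncard_image P).trans ((Set.ncard_image_le (Set.toFinite _)).trans ?_)
    rw [← P.card_eq_multiplicity]
    exact (Nat.card_coe_set_eq _).ge

/-- `k_π(G) ≤ k_r(G) * ∏_{q ∈ π ∖ r} |G|_q`. -/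
theorem card_piClasses_le_erase {G : Type u} [Group G] [Finite G] (π : Finset ℕ)
    (hπ : ∀ r ∈ π, r.Prime) {r : ℕ} [Fact r.Prime] (hr : r ∈ π) :
    Nat.card {c : ConjClasses G // ∀ x ∈ c.carrier, PiEl π x} ≤
      Nat.card {c : ConjClasses G // ∀ x ∈ c.carrier, ∃ k : ℕ, orderOf x = r ^ k} *
        (π.erase r).prod (fun q => q ^ (Nat.card G).factorization q) := by
  have h := card_piClasses_insert_le (G := G) (π.erase r) (r := r)
    (card_piClasses_le _ fun q hq => hπ q (Finset.mem_of_mem_erase hq))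
  rwa [Finset.insert_erase hr] at h

/-- If for each `r ∈ π` there is a normal `r`-complement and the Sylow `r`-subgroups are abelian,
then there are a normal `π`-complement and an abelian Hall `π`-subgroup. -/
theorem exists_piComplement {G : Type u} [Group G] [Finite G] (π : Finset ℕ)
    (hπ : ∀ r ∈ π, r.Prime)
    (h : ∀ r ∈ π, ∀ [Fact r.Prime], HasNormalPComplement r G ∧
      ∀ P : Sylow r G, IsMulCommutative ↥(P : Subgroup G)) :
    ∃ N : Subgroup G, N.Normal ∧ (∀ r : ℕ, r.Prime → r ∣ Nat.card N → r ∉ π) ∧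
      (∀ r : ℕ, r.Prime → r ∣ N.index → r ∈ π) ∧
      ∃ H : Subgroup G, N.IsComplement' H ∧ IsMulCommutative H := by
  classical
  have key : ∀ σ : Finset ℕ, σ ⊆ π → ∃ N : Subgroup G, N.Normal ∧ commutator G ≤ N ∧
      (∀ r ∈ σ, ¬ r ∣ Nat.card N) ∧ (∀ r : ℕ, r.Prime → r ∣ N.index → r ∈ σ) := by
    intro σ
    induction σ using Finset.induction_on with
    | empty =>
      exact fun _ => ⟨⊤, inferInstance, le_top, by simp, fun r hr h1 =>
        absurd h1 (by simpa using hr.ne_one)⟩
    | insert r σ hr ih =>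
      intro hsub
      obtain ⟨N, hN, hNc, hNd, hNi⟩ := ih ((Finset.subset_insert _ _).trans hsub)
      have hrπ : r ∈ π := hsub (Finset.mem_insert_self _ _)
      have : Fact r.Prime := ⟨hπ r hrπ⟩
      obtain ⟨⟨P, K, hK, hKP⟩, hab⟩ := h r hrπ
      have := hab P
      refine ⟨N ⊓ K, inferInstance, le_inf hNc ?_, ?_, ?_⟩
      · have : IsMulCommutative (G ⧸ K) :=
          ⟨⟨fun a b => by
            apply hKP.symm.QuotientMulEquiv.injective
            rw [map_mul, map_mul]
            exact (hab P).is_comm.comm _ _⟩⟩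
        exact Subgroup.Normal.quotient_commutative_iff_commutator_le.1 this
      · intro q hq hdvd
        rcases Finset.mem_insert.1 hq with rfl | hq
        · have := hdvd.trans (Subgroup.card_dvd_of_le (inf_le_right : N ⊓ K ≤ K))
          rw [← hKP.index_eq_card] at this
          exact P.not_dvd_index this
        · exact hNd q hq (hdvd.trans (Subgroup.card_dvd_of_le inf_le_left))
      · intro q hq hdvd
        have hd : (N ⊓ K).index ∣ N.index * K.index := by
          rw [← Subgroup.relIndex_mul_index (inf_le_left : N ⊓ K ≤ N), Subgroup.inf_relIndex_left,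
            mul_comm]
          exact mul_dvd_mul dvd_rfl (Subgroup.relIndex_dvd_index_of_normal K N)
        rcases (Nat.Prime.dvd_mul hq).1 (hdvd.trans hd) with h1 | h1
        · exact Finset.mem_insert_of_mem (hNi q hq h1)
        · rw [hKP.symm.index_eq_card] at h1
          obtain ⟨n, hn⟩ := IsPGroup.iff_card.1 P.2
          rw [hn] at h1
          exact Finset.mem_insert.2 (Or.inl
            ((Nat.prime_dvd_prime_iff_eq hq Fact.out).1 (hq.dvd_of_dvd_pow h1)))
  obtain ⟨N, hN, hNc, hNd, hNi⟩ := key π subset_rfl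
  have hcop : Nat.Coprime (Nat.card N) N.index :=
    Nat.coprime_of_dvd fun q hq h1 h2 => hNd q (hNi q hq h2) h1
  obtain ⟨H, hH⟩ := Subgroup.exists_right_complement'_of_coprime hcop
  refine ⟨N, hN, fun q _ h1 h2 => hNd q h2 h1, hNi, H, hH, ?_⟩
  have hc : IsMulCommutative (G ⧸ N) := Subgroup.Normal.quotient_commutative_iff_commutator_le.2 hNc
  exact ⟨⟨fun a b => by
    apply hH.symm.QuotientMulEquiv.symm.injective
    rw [map_mul, map_mul]
    exact hc.is_comm.comm _ _⟩⟩

end CfsgLib.HallClasses
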