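import Mathlib
import Cfsg.Prelude.Def_Solvable
import Cfsg.Agent.Lib.Frobenius.Basic
import Cfsg.Agent.Lib.CoprimeAction.Abelian

/-!
Finite solvable groups with a disconnected prime graph are Frobenius or 2-Frobenius groups.
-/

namespace CfsgLib.HallClasses

open Subgroup

variable {G : Type*} [Group G] [Finite G] {σ : ℕ → Prop}

/-- No element of prime order in `σ` commutes with one of prime order outside `σ`. -/
def NoMix (σ : ℕ → Prop) (G : Type*) [Group G] : Prop :=
  ∀ a b : ℕ, a.Prime → b.Prime → σ a → ¬ σ b → ∀ x y : G, orderOf x = a → orderOf y = b →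
    ¬ Commute x y

/-- All prime divisors of the order lie in `σ`. -/
def IsSigma (σ : ℕ → Prop) (H : Subgroup G) : Prop :=
  ∀ r : ℕ, r.Prime → r ∣ Nat.card H → σ r

theorem NoMix.eq_one (h : NoMix σ G) {A B : Subgroup G} (hA : IsSigma σ A)
    (hB : IsSigma (fun r => ¬ σ r) B) {x y : G} (hx : x ∈ A) (hy : y ∈ B) (hc : Commute x y)
    (hy1 : y ≠ 1) : x = 1 := by
  by_contra hx1
  obtain ⟨a, ha, hax⟩ := Nat.exists_prime_and_dvd (show orderOf x ≠ 1 by rwa [Ne, orderOf_eq_one_iff])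
  obtain ⟨b, hb, hby⟩ := Nat.exists_prime_and_dvd (show orderOf y ≠ 1 by rwa [Ne, orderOf_eq_one_iff])
  exact h a b ha hb (hA a ha (hax.trans (Subgroup.orderOf_dvd_natCard A hx)))
    (hB b hb (hby.trans (Subgroup.orderOf_dvd_natCard B hy)))
    _ _ (orderOf_pow_orderOf_div (orderOf_pos x).ne' hax) (orderOf_pow_orderOf_div (orderOf_pos y).ne' hby)
    (hc.pow_pow _ _)

theorem coprime_of_isSigma {A B : Subgroup G} (hA : IsSigma σ A)
    (hB : IsSigma (fun r => ¬ σ r) B) : (Nat.card A).Coprime (Nat.card B) :=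
  Nat.coprime_of_dvd fun r hr h1 h2 => hB r hr h2 (hA r hr h1)

theorem card_sup_dvd (A B : Subgroup G) [B.Normal] :
    Nat.card (A ⊔ B : Subgroup G) ∣ Nat.card A * Nat.card B := by
  rw [← relIndex_bot_left, ← relIndex_mul_relIndex ⊥ B (A ⊔ B) bot_le le_sup_right, relIndex_bot_left,
    relIndex_sup_right, mul_comm]
  exact Nat.mul_dvd_mul_right (relIndex_dvd_card B A) _

/-- There is a normal `σ`-subgroup containing all others. -/
theorem exists_sigmaCore (σ : ℕ → Prop) (G : Type*) [Group G] [Finite G] :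
    ∃ H : Subgroup G, H.Normal ∧ IsSigma σ H ∧
      ∀ N : Subgroup G, N.Normal → IsSigma σ N → N ≤ H := by
  obtain ⟨H, ⟨hHn, hH⟩, hmax⟩ := Set.Finite.exists_maximalFor id
    {H : Subgroup G | H.Normal ∧ IsSigma σ H} (Set.toFinite _)
    ⟨⊥, inferInstance, fun r hr h => by rw [card_bot, Nat.dvd_one] at h; exact absurd h hr.ne_one⟩
  refine ⟨H, hHn, hH, fun N hN hNs => ?_⟩
  have h1 : IsSigma σ (N ⊔ H) := fun r hr h =>
    (hr.dvd_mul.1 (h.trans (card_sup_dvd N H))).elim (hNs r hr) (hH r hr)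
  exact le_sup_left.trans (hmax ⟨inferInstance, h1⟩ (le_sup_right : H ≤ N ⊔ H))

/-- A nontrivial finite solvable group has a nontrivial elementary abelian normal subgroup. -/
theorem exists_normal_elementary [Group.IsSolvable G] [Nontrivial G] :
    ∃ (p : ℕ) (E : Subgroup G), p.Prime ∧ E.Normal ∧ E ≠ ⊥ ∧ IsMulCommutative E ∧
      (∀ x ∈ E, x ^ p = 1) := by
  obtain ⟨A, hAn, hA1, hAc⟩ : ∃ A : Subgroup G, A.Normal ∧ A ≠ ⊥ ∧ IsMulCommutative A := by
    obtain ⟨A, ⟨hAn, hA1⟩, hmin⟩ := Set.Finite.exists_minimalFor id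
      {A : Subgroup G | A.Normal ∧ A ≠ ⊥} (Set.toFinite _) ⟨⊤, inferInstance, top_ne_bot⟩
    refine ⟨A, hAn, hA1, ?_⟩
    haveI : Nontrivial A := A.nontrivial_iff_ne_bot.2 hA1
    haveI := hAn
    by_contra hc
    have h1 : ((commutator A).map A.subtype) = A := by
      by_contra hne
      haveI hch : (commutator A).Characteristic := Subgroup.commutator_characteristic ⊤ ⊤
      have hle : (commutator A).map A.subtype ≤ A := map_subtype_le _
      have h2 : (commutator A).map A.subtype = ⊥ := by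
        by_contra hb
        exact hne (le_antisymm hle (hmin ⟨(inferInstance : ((commutator A).map A.subtype).Normal), hb⟩ hle))
      rw [map_eq_bot_iff_of_injective _ A.subtype_injective, _root_.commutator_def,
        commutator_eq_bot_iff_le_centralizer, coe_top, centralizer_univ] at h2
      exact hc ⟨⟨fun a b => mem_center_iff.1 (h2 (mem_top b)) a⟩⟩
    have h3 : commutator A = ⊤ := map_injective A.subtype_injective
      (h1.trans (by rw [← MonoidHom.range_eq_map, range_subtype]))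
    exact (Group.IsSolvable.commutator_lt_top_of_nontrivial A).ne h3
  haveI := hAn
  obtain ⟨p, hp, hpA⟩ := Nat.exists_prime_and_dvd (show Nat.card A ≠ 1 from fun h => hA1 (card_eq_one.1 h))
  haveI := Fact.mk hp
  let B : Subgroup G :=
    { carrier := {g | g ∈ A ∧ g ^ p = 1}
      one_mem' := ⟨A.one_mem, one_pow _⟩
      mul_mem' := fun {a b} ha hb => ⟨A.mul_mem ha.1 hb.1, by
        rw [(show Commute a b from congrArg Subtype.val (hAc.is_comm.comm (⟨a, ha.1⟩ : A) ⟨b, hb.1⟩)).mul_pow,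
          ha.2, hb.2, one_mul]⟩
      inv_mem' := fun {a} ha => ⟨A.inv_mem ha.1, by rw [inv_pow, ha.2, inv_one]⟩ }
  refine ⟨p, B, hp, ⟨fun b hb g => ⟨Normal.conj_mem inferInstance b hb.1 g, by
    rw [conj_pow, hb.2, mul_one, mul_inv_cancel]⟩⟩, fun h => ?_, ⟨⟨fun a b => Subtype.ext
      (congrArg Subtype.val (hAc.is_comm.comm (⟨a, a.2.1⟩ : A) ⟨b, b.2.1⟩) :)⟩⟩, fun x hx => hx.2⟩
  obtain ⟨x, hx⟩ := exists_prime_orderOf_dvd_card' p hpA
  have hmem : (x : G) ∈ B := ⟨x.2, by rw [← hx, ← orderOf_coe]; exact pow_orderOf_eq_one _⟩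
  rw [h, mem_bot] at hmem
  rw [show x = 1 from Subtype.ext hmem, orderOf_one] at hx
  exact hp.ne_one hx.symm

theorem isSigma_of_isPGroup {p : ℕ} (hp : p.Prime) {H : Subgroup G} (hH : IsPGroup p H) (h : σ p) :
    IsSigma σ H := by
  intro r hr hrd
  haveI := Fact.mk hp
  obtain ⟨j, hj⟩ := IsPGroup.iff_card.1 hH
  rw [hj] at hrd
  rwa [(Nat.prime_dvd_prime_iff_eq hr hp).1 (hr.dvd_of_dvd_pow hrd)]

/-- The property passes to the quotient by a normal `σ`-subgroup. -/
theorem NoMix.quotient (h : NoMix σ G) (H : Subgroup G) [H.Normal] (hH : IsSigma σ H) :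
    NoMix σ (G ⧸ H) := by
  intro a b ha hb hσa hσb x y hx hy hc
  haveI := Fact.mk hb
  let π := QuotientGroup.mk' H
  let X := (zpowers y).comap π
  have hHX : H ≤ X := fun o ho => by
    rw [mem_comap, show π o = 1 from (QuotientGroup.eq_one_iff o).2 ho]
    exact one_mem _
  have hcardX : Nat.card X = Nat.card H * b := by
    let f := π.comp X.subtype
    have hrange : f.range = zpowers y := by
      rw [MonoidHom.range_comp, range_subtype, map_comap_eq_self_of_surjective (QuotientGroup.mk'_surjective H)]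
    have hk : Nat.card f.ker = Nat.card H := by
      rw [← MonoidHom.comap_ker, QuotientGroup.ker_mk']
      exact Nat.card_congr (subgroupOfEquivOfLe hHX).toEquiv
    rw [← card_mul_index f.ker, index_ker, hrange, hk, Nat.card_zpowers, hy]
  have hbH : ¬ b ∣ Nat.card H := fun hd => hσb (hH b hb hd)
  let S : Sylow b X := default
  have hS : Nat.card (S : Subgroup X) = b := by
    rw [S.card_eq_multiplicity, hcardX, Nat.factorization_mul Nat.card_pos.ne' hb.ne_zero,
      Finsupp.add_apply, Nat.factorization_eq_zero_of_not_dvd hbH, hb.factorization_self, zero_add,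
      pow_one]
  obtain ⟨s, hsb⟩ := exists_prime_orderOf_dvd_card' b hS.symm.dvd
  set v : G := ((s : X) : G) with hv
  have hvo : orderOf v = b := by rw [hv, orderOf_coe, orderOf_coe, hsb]
  have hvX : v ∈ X := (s : X).2
  have hgen : ∀ u : X, u ∈ (S : Subgroup X) → (u : G) ∈ zpowers v := fun u hu => by
    have h1 : zpowers v = (S : Subgroup X).map X.subtype :=
      Subgroup.eq_of_le_of_card_ge (zpowers_le.2 ⟨s, s.2, rfl⟩)
        (le_of_eq (by rw [card_map_of_injective X.subtype_injective, Nat.card_zpowers, hvo]; exact hS))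
    exact h1 ▸ ⟨u, hu, rfl⟩
  have hvne : π v ≠ 1 := fun h1 => by
    have h2 := Subgroup.orderOf_dvd_natCard H ((QuotientGroup.eq_one_iff v).1 h1)
    rw [hvo] at h2
    exact hbH h2
  have hπvo : orderOf (π v) = b := by
    refine ((Nat.dvd_prime hb).1 (hvo ▸ orderOf_map_dvd π v)).resolve_left ?_
    rwa [orderOf_eq_one_iff]
  obtain ⟨l, hl⟩ := mem_zpowers_iff.1 (hvX : π v ∈ zpowers y)
  have hxv : Commute x (π v) := hl ▸ hc.zpow_right l
  obtain ⟨t, ht⟩ := QuotientGroup.mk'_surjective H x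
  have htv : t * v * t⁻¹ ∈ X := by
    rw [mem_comap, map_mul, map_mul, map_inv, show π t = x from ht, hxv.eq, mul_inv_cancel_right]
    exact hvX
  obtain ⟨R, hR⟩ : ∃ R : Sylow b X, zpowers (⟨_, htv⟩ : X) ≤ (R : Subgroup X) := by
    refine IsPGroup.exists_le_sylow (IsPGroup.of_card (n := 1) ?_)
    rw [Nat.card_zpowers, Subgroup.orderOf_mk, pow_one, ← hvo]
    exact orderOf_injective (MulAut.conj t).toMonoidHom (MulAut.conj t).injective v
  obtain ⟨e, he⟩ := MulAction.exists_smul_eq X R S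
  have hev : (e : G) * (t * v * t⁻¹) * (e : G)⁻¹ ∈ zpowers v := by
    refine hgen (e * ⟨_, htv⟩ * e⁻¹) ?_
    rw [← he]
    exact ⟨⟨_, htv⟩, hR (mem_zpowers _), rfl⟩
  obtain ⟨k, hk⟩ := mem_zpowers_iff.1 hev
  set w := (e : G) * t with hw
  have hwv : v ^ k = w * v * w⁻¹ := by rw [hk, hw]; group
  obtain ⟨m, hm⟩ := mem_zpowers_iff.1 (e.2 : π (e : G) ∈ zpowers y)
  have hπw : π w = y ^ m * x := by rw [hw, map_mul, show π t = x from ht, hm]
  have hπwv : Commute (π w) (π v) := by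
    rw [hπw]
    refine Commute.mul_left ?_ hxv
    rw [← hl]
    exact (Commute.refl y).zpow_zpow m l
  have hwcomm : Commute w v := by
    have h1 : v ^ k = v ^ (1 : ℤ) := by
      rw [zpow_eq_zpow_iff_modEq, hvo]
      have h2 := congrArg π hwv
      rw [map_zpow, map_mul, map_mul, map_inv, hπwv.eq, mul_inv_cancel_right, ← zpow_one (π v),
        ← zpow_mul, one_mul, zpow_eq_zpow_iff_modEq, hπvo] at h2
      exact h2
    rw [h1, zpow_one] at hwv
    exact (mul_inv_eq_iff_eq_mul.1 hwv.symm)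
  have haw : a ∣ orderOf w := by
    refine dvd_trans ?_ (orderOf_map_dvd π w)
    by_contra hd
    have hxy : Commute x (y ^ m) := hc.zpow_right m
    have h1 : (y ^ m * x) ^ orderOf (π w) = 1 := by rw [← hπw]; exact pow_orderOf_eq_one _
    rw [hxy.symm.mul_pow] at h1
    have h2 : orderOf (x ^ orderOf (π w)) ∣ b := by
      rw [eq_inv_of_mul_eq_one_right h1, orderOf_inv]
      refine (orderOf_pow_dvd _).trans ?_
      rw [← hy]
      exact orderOf_dvd_of_mem_zpowers (zpow_mem (mem_zpowers y) m)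
    rw [orderOf_pow, hx, ((ha.coprime_iff_not_dvd).2 hd).gcd_eq_one, Nat.div_one] at h2
    exact hσb (((Nat.prime_dvd_prime_iff_eq ha hb).1 h2) ▸ hσa)
  exact h a b ha hb hσa hσb _ _ (orderOf_pow_orderOf_div (orderOf_pos w).ne' haw) hvo
    (hwcomm.pow_left _)

/-- A disconnected prime graph and a nontrivial normal `σ`-subgroup give a Frobenius or 2-Frobenius
group. -/
theorem frobenius_or_twoFrobenius [Group.IsSolvable G] (h : NoMix σ G)
    (hτ : ∃ b : ℕ, b.Prime ∧ ¬ σ b ∧ b ∣ Nat.card G)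
    (hN : ∃ N : Subgroup G, N.Normal ∧ N ≠ ⊥ ∧ IsSigma σ N) :
    (∃ C : Subgroup G, Cfsg.IsFrobeniusComplement C) ∨
    (∃ (H K : Subgroup G) (_ : H.Normal), K.Normal ∧ H < K ∧
      (∃ C : Subgroup ↥K, Cfsg.IsFrobeniusComplement C ∧
        Cfsg.frobeniusKernel C = (H.subgroupOf K : Set ↥K)) ∧
      (∃ C : Subgroup (G ⧸ H), Cfsg.IsFrobeniusComplement C ∧
        Cfsg.frobeniusKernel C = (K.map (QuotientGroup.mk' H) : Set (G ⧸ H)))) := by
  obtain ⟨H, hHn, hH, hHmax⟩ := exists_sigmaCore σ G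
  haveI := hHn
  have hH1 : H ≠ ⊥ := by
    obtain ⟨N, hNn, hN1, hNs⟩ := hN
    exact fun h0 => hN1 (le_bot_iff.1 (h0 ▸ hHmax N hNn hNs))
  have hbot : ∀ N : Subgroup (G ⧸ H), N.Normal → IsSigma σ N → N = ⊥ := by
    intro N hNn hNs
    have hle : H ≤ N.comap (QuotientGroup.mk' H) := fun o ho => by
      rw [mem_comap, QuotientGroup.mk'_apply, (QuotientGroup.eq_one_iff o).2 ho]
      exact one_mem _
    have h1 : IsSigma σ (N.comap (QuotientGroup.mk' H)) := fun r hr hd => by
      rw [← relIndex_bot_left, ← relIndex_mul_relIndex ⊥ H _ bot_le hle, relIndex_bot_left] at hd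
      refine (hr.dvd_mul.1 hd).elim (hH r hr) fun h2 => hNs r hr ?_
      refine h2.trans (dvd_of_eq ?_)
      conv_rhs => rw [← map_comap_eq_self_of_surjective (QuotientGroup.mk'_surjective H) N,
        ← relIndex_bot_left, ← relIndex_comap, MonoidHom.comap_bot, QuotientGroup.ker_mk']
    rw [← map_comap_eq_self_of_surjective (QuotientGroup.mk'_surjective H) N,
      Subgroup.map_eq_bot_iff, QuotientGroup.ker_mk']
    exact hHmax _ inferInstance h1
  haveI : Group.IsSolvable (G ⧸ H) := inferInstance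
  haveI : Nontrivial (G ⧸ H) := by
    rw [← Finite.one_lt_card_iff_nontrivial, ← index_eq_card]
    obtain ⟨b, hb, hbσ, hbd⟩ := hτ
    refine Nat.one_lt_iff_ne_zero_and_ne_one.2 ⟨index_ne_zero_of_finite, fun h1 => ?_⟩
    rw [index_eq_one] at h1
    subst h1
    rw [← card_top] at hbd
    exact hbσ (hH b hb hbd)
  obtain ⟨p, E, hp, hEn, hE1, hEc, hEexp⟩ := exists_normal_elementary (G := G ⧸ H)
  haveI := Fact.mk hp
  haveI := hEn
  haveI := hEc
  have hEp : IsPGroup p E := fun x => ⟨1, Subtype.ext (by simpa using hEexp x x.2)⟩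
  have hpσ : ¬ σ p := fun hs => hE1 (hbot E hEn (isSigma_of_isPGroup hp hEp hs))
  have hmix := h.quotient H hH
  obtain ⟨Kb, hKbn, hKb, hKbmax⟩ := exists_sigmaCore (fun r => ¬ σ r) (G ⧸ H)
  haveI := hKbn
  let π := QuotientGroup.mk' H
  let K := Kb.comap π
  have hHK : H ≤ K := fun o ho => by
    rw [mem_comap, show π o = 1 from (QuotientGroup.eq_one_iff o).2 ho]
    exact one_mem _
  have hKmap : K.map π = Kb := map_comap_eq_self_of_surjective (QuotientGroup.mk'_surjective H) Kb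
  have hrel : H.relIndex K = Nat.card Kb := by
    rw [← hKmap, ← relIndex_bot_left, ← relIndex_comap, MonoidHom.comap_bot, QuotientGroup.ker_mk']
  have hcop : (Nat.card (H.subgroupOf K)).Coprime (H.subgroupOf K).index := by
    rw [Nat.card_congr (subgroupOfEquivOfLe hHK).toEquiv]
    show (Nat.card H).Coprime (H.relIndex K)
    rw [hrel]
    exact Nat.coprime_of_dvd fun r hr h1 h2 => hKb r hr h2 (hH r hr h1)
  have hEKb : E ≤ Kb := hKbmax E hEn (isSigma_of_isPGroup hp hEp hpσ)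
  have hKb1 : Kb ≠ ⊥ := fun h0 => hE1 (le_bot_iff.1 (h0 ▸ hEKb))
  have hHltK : H < K := by
    refine lt_of_le_of_ne hHK fun h0 => hKb1 ?_
    rw [← hKmap, Subgroup.map_eq_bot_iff, QuotientGroup.ker_mk']
    exact h0.ge
  -- complements in `K` act fixed-point-freely on `H`
  obtain ⟨C, hC⟩ := exists_right_complement'_of_coprime (N := H.subgroupOf K) hcop
  have hCτ : IsSigma (fun r => ¬ σ r) (C.map K.subtype) := fun r hr hd => by
    rw [card_map_of_injective K.subtype_injective, ← hC.symm.index_eq_card] at hd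
    exact hKb r hr (hd.trans hrel.dvd)
  have hC1 : C ≠ ⊥ := fun h0 => by
    have h1 := hC.sup_eq_top
    rw [h0, sup_bot_eq, subgroupOf_eq_top] at h1
    exact hHltK.not_ge h1
  have hH1' : H.subgroupOf K ≠ ⊥ := fun h0 => hH1 (by
    rw [← map_subgroupOf_eq_of_le hHK, h0, Subgroup.map_bot])
  have hfpfC : ∀ c ∈ C, c ≠ 1 → ∀ k ∈ H.subgroupOf K, c * k = k * c → k = 1 := by
    intro c hc hc1 k hk hck
    refine Subtype.ext (h.eq_one hH hCτ hk ⟨c, hc, rfl⟩ ?_ fun e => hc1 (Subtype.ext e))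
    exact (congrArg Subtype.val hck).symm
  have hFC : Cfsg.IsFrobeniusComplement C :=
    (CfsgLib.Frobenius.isFrobeniusComplement_iff_fpf _ C hC hH1' hC1).2 hfpfC
  by_cases hKtop : Kb = ⊤
  · left
    obtain ⟨C', hC'⟩ := exists_right_complement'_of_coprime (N := H) (by
      rw [← relIndex_top_right, ← show K = ⊤ by simp [K, hKtop]]
      rwa [Nat.card_congr (subgroupOfEquivOfLe hHK).toEquiv] at hcop)
    have hC'τ : IsSigma (fun r => ¬ σ r) C' := fun r hr hd => by
      rw [← hC'.symm.index_eq_card, index_eq_card, ← card_top] at hd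
      exact hKb r hr (hKtop ▸ hd)
    have hC'1 : C' ≠ ⊥ := fun h0 => by
      have h1 := hC'.sup_eq_top
      rw [h0, sup_bot_eq] at h1
      exact hHltK.not_ge (h1 ▸ le_top)
    exact ⟨C', (CfsgLib.Frobenius.isFrobeniusComplement_iff_fpf H C' hC' hH1 hC'1).2
      fun c hc hc1 k hk hck => h.eq_one hH hC'τ hk hc hck.symm hc1⟩
  right
  -- `E` is cyclic
  have hEcyc : IsCyclic E := by
    let X := E.comap π
    let P : Sylow p X := default
    let PG : Subgroup G := (P : Subgroup X).map X.subtype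
    have hPGp : IsPGroup p PG := P.2.map _
    have hPGτ := isSigma_of_isPGroup (σ := fun r => ¬ σ r) hp hPGp hpσ
    have hdisj : ∀ x ∈ PG, π x = 1 → x = 1 := fun x hx hx1 => by
      by_contra hne
      obtain ⟨r, hr, hrx⟩ := Nat.exists_prime_and_dvd (show orderOf x ≠ 1 by rwa [Ne, orderOf_eq_one_iff])
      exact hPGτ r hr (hrx.trans (Subgroup.orderOf_dvd_natCard PG hx))
        (hH r hr (hrx.trans (Subgroup.orderOf_dvd_natCard H ((QuotientGroup.eq_one_iff x).1 hx1))))
    have hPGX : PG ≤ X := map_subtype_le _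
    have hPGc : IsMulCommutative PG := ⟨⟨fun u v => by
      have h1 : π ((u : G) * v * (u : G)⁻¹ * (v : G)⁻¹) = 1 := by
        have h2 : π u * π v = π v * π u := congrArg Subtype.val
          (hEc.is_comm.comm (⟨π u, hPGX u.2⟩ : E) ⟨π v, hPGX v.2⟩)
        rw [map_mul, map_mul, map_mul, map_inv, map_inv, h2, mul_inv_cancel_right, mul_inv_cancel]
      have h3 := hdisj _ (PG.mul_mem (PG.mul_mem (PG.mul_mem u.2 v.2) (PG.inv_mem u.2)) (PG.inv_mem v.2)) h1
      exact Subtype.ext (mul_inv_eq_iff_eq_mul.1 (mul_inv_eq_one.1 h3))⟩⟩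
    haveI := hPGc
    have hcyc : IsCyclic PG := by
      by_contra hnc
      apply hH1
      rw [← CfsgLib.CoprimeAction.iSup_centralizers_eq hnc (K := H)
        (by rw [normalizer_eq_top]; exact le_top) (coprime_of_isSigma hH hPGτ).symm]
      refine le_bot_iff.1 (iSup₂_le fun a ha => ?_)
      intro k hk
      exact mem_bot.2 (h.eq_one hH hPGτ hk.1 ha.1 (mem_centralizer_singleton_iff.1 hk.2) ha.2)
    have hmap : PG.map π = E := by
      refine le_antisymm (map_le_iff_le_comap.2 hPGX) fun y hy => ?_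
      obtain ⟨x, rfl⟩ := QuotientGroup.mk'_surjective H y
      let f : X →* E :=
        { toFun := fun u => ⟨π (u : G), u.2⟩
          map_one' := Subtype.ext (map_one π)
          map_mul' := fun u v => Subtype.ext (map_mul π (u : G) v) }
      have hf : Function.Surjective f := fun z => by
        obtain ⟨g, hg⟩ := QuotientGroup.mk'_surjective H (z : G ⧸ H)
        exact ⟨⟨g, by show π g ∈ E; rw [show π g = z from hg]; exact z.2⟩, Subtype.ext hg⟩
      have htop : (P : Subgroup X).map f = ⊤ :=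
        ((P.mapSurjective hf).is_maximal' (hEp.to_subgroup ⊤) le_top).symm
      obtain ⟨u, hu, hue⟩ : (⟨_, hy⟩ : E) ∈ (P : Subgroup X).map f := htop ▸ mem_top _
      exact ⟨u, ⟨u, hu, rfl⟩, congrArg Subtype.val hue⟩
    haveI := hcyc
    exact hmap ▸ isCyclic_of_surjective (π.subgroupMap PG) (π.subgroupMap_surjective PG)
  obtain ⟨e₀, he₀⟩ := isCyclic_iff_exists_zpowers_eq_top.1 hEcyc
  have hconjE : ∀ g : G ⧸ H, ∃ k : ℤ, (e₀ : G ⧸ H) ^ k = g * e₀ * g⁻¹ := fun g => by
    have : (⟨g * e₀ * g⁻¹, Normal.conj_mem inferInstance _ e₀.2 g⟩ : E) ∈ zpowers e₀ := he₀ ▸ mem_top _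
    obtain ⟨k, hk⟩ := mem_zpowers_iff.1 this
    exact ⟨k, by simpa using congrArg Subtype.val hk⟩
  have hD : centralizer (E : Set (G ⧸ H)) ≤ Kb := by
    refine hKbmax _ inferInstance fun r hr hrd hrσ => ?_
    haveI := Fact.mk hr
    obtain ⟨d, hd⟩ := exists_prime_orderOf_dvd_card' r hrd
    haveI : Nontrivial E := E.nontrivial_iff_ne_bot.2 hE1
    obtain ⟨x, hx⟩ := exists_ne (1 : E)
    refine hmix r p hr hp hrσ hpσ d x (by rw [orderOf_coe, hd])
      (orderOf_eq_prime (hEexp x x.2) fun e => hx (Subtype.ext e)) ?_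
    exact (mem_centralizer_iff.1 d.2 x x.2).symm
  -- the top quotient is an abelian `σ`-group
  have hconjpow : ∀ (g : G ⧸ H) (i : ℤ), (g * e₀ * g⁻¹) ^ i = g * (e₀ : G ⧸ H) ^ i * g⁻¹ :=
    fun g i => conj_zpow
  have hcomm : ∀ g g' : G ⧸ H, g * g' * g⁻¹ * g'⁻¹ ∈ Kb := fun g g' => by
    refine hD (mem_centralizer_iff.2 fun x hx => ?_)
    obtain ⟨i, hi⟩ := mem_zpowers_iff.1 (he₀ ▸ mem_top (⟨x, hx⟩ : E) : (⟨x, hx⟩ : E) ∈ zpowers e₀)
    have hxe : x = (e₀ : G ⧸ H) ^ i := (congrArg Subtype.val hi).symm.trans (by simp)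
    obtain ⟨k, hk⟩ := hconjE g
    obtain ⟨l, hl⟩ := hconjE g'
    have hfix : g * g' * g⁻¹ * g'⁻¹ * e₀ * (g * g' * g⁻¹ * g'⁻¹)⁻¹ = (e₀ : G ⧸ H) := by
      have e1 : g * g' * (e₀ : G ⧸ H) * (g * g')⁻¹ = g' * g * e₀ * (g' * g)⁻¹ := by
        calc g * g' * (e₀ : G ⧸ H) * (g * g')⁻¹ = g * (g' * e₀ * g'⁻¹) * g⁻¹ := by group
          _ = (g * e₀ * g⁻¹) ^ l := by rw [← hl, hconjpow]
          _ = (e₀ : G ⧸ H) ^ (k * l) := by rw [← hk, zpow_mul]
          _ = (g' * e₀ * g'⁻¹) ^ k := by rw [← hl, mul_comm, zpow_mul]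
          _ = g' * (g * e₀ * g⁻¹) * g'⁻¹ := by rw [← hk, hconjpow]
          _ = _ := by group
      calc g * g' * g⁻¹ * g'⁻¹ * e₀ * (g * g' * g⁻¹ * g'⁻¹)⁻¹
          = g * g' * ((g' * g)⁻¹ * e₀ * (g' * g)) * (g * g')⁻¹ := by group
        _ = g * g' * ((g' * g)⁻¹ * e₀ * (g' * g)) * (g * g')⁻¹ := rfl
        _ = e₀ := by
          set z := (g' * g)⁻¹ * (e₀ : G ⧸ H) * (g' * g) with hz
          obtain ⟨m, hm⟩ := hconjE (g' * g)⁻¹
          have hzm : z = (e₀ : G ⧸ H) ^ m := by rw [hm, hz, inv_inv]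
          rw [hzm, ← hconjpow, e1, hconjpow, ← hzm, hz]
          group
    have hc : Commute (g * g' * g⁻¹ * g'⁻¹) (e₀ : G ⧸ H) := mul_inv_eq_iff_eq_mul.1 hfix
    rw [hxe]
    exact (hc.zpow_right i).symm.eq
  have hidx : ∀ r : ℕ, r.Prime → r ∣ Kb.index → σ r := by
    intro r hr hd
    by_contra hrσ
    haveI := Fact.mk hr
    rw [index_eq_card] at hd
    obtain ⟨z, hz⟩ := exists_prime_orderOf_dvd_card' r hd
    let ρ := QuotientGroup.mk' Kb
    let L := (zpowers z).comap ρ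
    have hZn : (zpowers z).Normal := ⟨fun x hx g => by
      obtain ⟨g, rfl⟩ := QuotientGroup.mk'_surjective Kb g
      obtain ⟨x', rfl⟩ := QuotientGroup.mk'_surjective Kb x
      have h1 : ρ (g * x' * g⁻¹ * x'⁻¹) = 1 := (QuotientGroup.eq_one_iff _).2 (hcomm g x')
      rw [map_mul, map_mul, map_mul, map_inv, map_inv, mul_inv_eq_one] at h1
      rwa [h1]⟩
    haveI := hZn
    have hle : Kb ≤ L := fun o ho => by
      rw [mem_comap, show ρ o = 1 from (QuotientGroup.eq_one_iff o).2 ho]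
      exact one_mem _
    have hrelL : Kb.relIndex L = r := by
      rw [show r = Nat.card (zpowers z) by rw [Nat.card_zpowers, hz],
        ← map_comap_eq_self_of_surjective (QuotientGroup.mk'_surjective Kb) (zpowers z),
        ← relIndex_bot_left, ← relIndex_comap, MonoidHom.comap_bot, QuotientGroup.ker_mk']
    have hL : IsSigma (fun r => ¬ σ r) L := fun r' hr' hd' => by
      rw [← relIndex_bot_left, ← relIndex_mul_relIndex ⊥ Kb L bot_le hle, relIndex_bot_left, hrelL] at hd'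
      rcases hr'.dvd_mul.1 hd' with h1 | h1
      · exact hKb r' hr' h1
      · rwa [(Nat.prime_dvd_prime_iff_eq hr' hr).1 h1]
    have heq : L = Kb := le_antisymm (hKbmax L inferInstance hL) hle
    rw [heq, relIndex_self] at hrelL
    exact hr.ne_one hrelL.symm
  obtain ⟨B, hB⟩ := exists_right_complement'_of_coprime (N := Kb)
    (Nat.coprime_of_dvd fun r hr h1 h2 => hKb r hr h1 (hidx r hr h2))
  have hBσ : IsSigma σ B := fun r hr hd => hidx r hr (hB.symm.index_eq_card ▸ hd)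
  have hB1 : B ≠ ⊥ := fun h0 => by
    have h1 := hB.sup_eq_top
    rw [h0, sup_bot_eq] at h1
    exact hKtop h1
  have hFB : Cfsg.IsFrobeniusComplement B :=
    (CfsgLib.Frobenius.isFrobeniusComplement_iff_fpf Kb B hB hKb1 hB1).2
      fun b hb hb1 k hk hbk => by
        by_contra hk1
        exact hb1 (hmix.eq_one hBσ hKb hb hk hbk hk1)
  exact ⟨H, K, hHn, inferInstance, hHltK,
    ⟨C, hFC, (CfsgLib.Frobenius.coe_eq_kernel hFC _ hC).symm⟩,
    ⟨B, hFB, by rw [hKmap]; exact (CfsgLib.Frobenius.coe_eq_kernel hFB _ hB).symm⟩⟩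

end CfsgLib.HallClasses
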